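import Mathlib
import Cfsg.Prelude.Def_Local
import Cfsg.Agent.Lib.helper40.Cores
import Cfsg.Agent.Lib.helper38.HallHigman

/-!
Shared lemmas (helper38), continuing `HallHigman.lean`:
`Cfsg.IsPSolvable` passes to homomorphic images, quotients and subgroups;
`O_{p'}(G / O_{p'}(G)) = 1`; and a finite `p`-soluble group is `p`-constrained.
-/

set_option autoImplicit false

namespace Cfsg.Agent.Lib.helper38

open Subgroup Cfsg.Agent.Lib.helper40

/-- The index condition of `Cfsg.IsPSolvable` passes to divisors. -/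
theorem pPower_or_coprime_of_dvd {p : ℕ} [hp : Fact p.Prime] {d e : ℕ} (hde : d ∣ e)
    (h : (∃ m : ℕ, e = p ^ m) ∨ e.Coprime p) : (∃ m : ℕ, d = p ^ m) ∨ d.Coprime p := by
  rcases h with ⟨m, hm⟩ | h
  · left
    rw [hm] at hde
    obtain ⟨j, -, hj⟩ := (Nat.dvd_prime_pow hp.out).mp hde
    exact ⟨j, hj⟩
  · right
    exact Nat.Coprime.coprime_dvd_left hde h

/-- A homomorphic image of a `p`-soluble group is `p`-soluble. -/
theorem isPSolvable_of_surjective {G G' : Type*} [Group G] [Group G'] {p : ℕ} [Fact p.Prime]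
    (f : G →* G') (hf : Function.Surjective f) (hS : Cfsg.IsPSolvable p G) :
    Cfsg.IsPSolvable p G' := by
  obtain ⟨n, H, h0, hlast, hmono, hnorm, hstep⟩ := hS
  refine ⟨n, fun i => (H i).map f, ?_, ?_, ?_, ?_, ?_⟩
  · simp only [h0, Subgroup.map_bot]
  · simp only [hlast]; exact Subgroup.map_top_of_surjective f hf
  · intro i j hij
    exact Subgroup.map_mono (hmono hij)
  · intro i
    exact (hnorm i).map f hf
  · intro i
    apply pPower_or_coprime_of_dvd _ (hstep i)
    have hle : H i.castSucc ≤ H i.succ := hmono (Fin.castSucc_le_succ i)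
    have hn1 := hnorm i.castSucc
    rw [Subgroup.relIndex_map_map]
    have h1 : H i.succ ⊔ f.ker = (H i.castSucc ⊔ f.ker) ⊔ H i.succ := by
      rw [sup_comm (H i.castSucc ⊔ f.ker), ← sup_assoc, sup_eq_left.mpr hle]
    rw [h1, Subgroup.relIndex_sup_left]
    exact Subgroup.relIndex_dvd_of_le_left _ le_sup_left

/-- A quotient of a `p`-soluble group is `p`-soluble. -/
theorem isPSolvable_quotient {G : Type*} [Group G] {p : ℕ} [Fact p.Prime] (N : Subgroup G)
    [N.Normal] (hS : Cfsg.IsPSolvable p G) : Cfsg.IsPSolvable p (G ⧸ N) :=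
  isPSolvable_of_surjective (QuotientGroup.mk' N) (QuotientGroup.mk'_surjective N) hS

/-- A subgroup of a `p`-soluble group is `p`-soluble. -/
theorem isPSolvable_subgroup {G : Type*} [Group G] {p : ℕ} [Fact p.Prime] (K : Subgroup G)
    (hS : Cfsg.IsPSolvable p G) : Cfsg.IsPSolvable p ↥K := by
  obtain ⟨n, H, h0, hlast, hmono, hnorm, hstep⟩ := hS
  refine ⟨n, fun i => (H i).subgroupOf K, ?_, ?_, ?_, ?_, ?_⟩
  · simp only [h0, Subgroup.bot_subgroupOf]
  · simp only [hlast, Subgroup.top_subgroupOf]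
  · intro i j hij
    exact Subgroup.comap_mono (hmono hij)
  · intro i
    have := hnorm i
    infer_instance
  · intro i
    apply pPower_or_coprime_of_dvd _ (hstep i)
    have hn1 := hnorm i.castSucc
    have h1 : ((H i.castSucc).subgroupOf K).relIndex ((H i.succ).subgroupOf K)
        = (H i.castSucc).relIndex (H i.succ ⊓ K) := by
      rw [← Subgroup.subgroupOf_map_subtype (H i.succ) K]
      exact Subgroup.relIndex_comap (H i.castSucc) K.subtype ((H i.succ).subgroupOf K)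
    rw [h1]
    exact relIndex_dvd_relIndex_of_le_of_normal _ inf_le_left

/-- `O_{p'}(G / O_{p'}(G)) = 1` for a finite group `G`. -/
theorem pPrimeCore_quotient_pPrimeCore (p : ℕ) (G : Type*) [Group G] [Finite G]
    [(Cfsg.pPrimeCore p G).Normal] :
    Cfsg.pPrimeCore p (G ⧸ Cfsg.pPrimeCore p G) = ⊥ := by
  have hMn : (Cfsg.pPrimeCore p (G ⧸ Cfsg.pPrimeCore p G)).Normal := pPrimeCore_normal' p _
  have hsurj := QuotientGroup.mk'_surjective (Cfsg.pPrimeCore p G)
  have hle : Cfsg.pPrimeCore p G ≤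
      (Cfsg.pPrimeCore p (G ⧸ Cfsg.pPrimeCore p G)).comap (QuotientGroup.mk' (Cfsg.pPrimeCore p G)) := by
    intro x hx
    rw [Subgroup.mem_comap]
    have : QuotientGroup.mk' (Cfsg.pPrimeCore p G) x = 1 := by
      rw [QuotientGroup.mk'_apply, QuotientGroup.eq_one_iff]; exact hx
    rw [this]; exact one_mem _
  have hcard : Nat.card ↥((Cfsg.pPrimeCore p (G ⧸ Cfsg.pPrimeCore p G)).comap
      (QuotientGroup.mk' (Cfsg.pPrimeCore p G)))
      = Nat.card ↥(Cfsg.pPrimeCore p G) * Nat.card ↥(Cfsg.pPrimeCore p (G ⧸ Cfsg.pPrimeCore p G)) := by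
    have h1 := Subgroup.relIndex_mul_relIndex (⊥ : Subgroup G) _ _ bot_le hle
    rw [Subgroup.relIndex_bot_left, Subgroup.relIndex_bot_left] at h1
    have h2 := Subgroup.relIndex_ker (QuotientGroup.mk' (Cfsg.pPrimeCore p G))
      (K := (Cfsg.pPrimeCore p (G ⧸ Cfsg.pPrimeCore p G)).comap
        (QuotientGroup.mk' (Cfsg.pPrimeCore p G)))
    rw [QuotientGroup.ker_mk', Subgroup.map_comap_eq_self_of_surjective hsurj] at h2
    rw [← h1, h2]
  have hcop : (Nat.card ↥((Cfsg.pPrimeCore p (G ⧸ Cfsg.pPrimeCore p G)).comap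
      (QuotientGroup.mk' (Cfsg.pPrimeCore p G)))).Coprime p := by
    rw [hcard]
    exact Nat.Coprime.mul_left (pPrimeCore_card_coprime p G) (pPrimeCore_card_coprime p _)
  have hle2 := le_pPrimeCore _ (hMn.comap _) hcop
  have h3 := Subgroup.map_mono (f := QuotientGroup.mk' (Cfsg.pPrimeCore p G)) hle2
  rw [Subgroup.map_comap_eq_self_of_surjective hsurj, QuotientGroup.map_mk'_self] at h3
  exact le_bot_iff.mp h3

/-- If `Q ≤ O_{p',p}(G)` has index prime to `p` in `O_{p',p}(G)`, then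
`O_{p',p}(G) ≤ O_{p'}(G) Q`. -/
theorem pPrimePCore_le_sup_of_not_dvd {G : Type*} [Group G] [Finite G] {p : ℕ} [hp : Fact p.Prime]
    (Q : Subgroup G) (hQ : ¬ p ∣ Q.relIndex (Cfsg.pPrimePCore p G)) :
    Cfsg.pPrimePCore p G ≤ Cfsg.pPrimeCore p G ⊔ Q := by
  have hNn : (Cfsg.pPrimeCore p G).Normal := pPrimeCore_normal' p G
  rw [← Subgroup.relIndex_eq_one]
  have h1 : (Cfsg.pPrimeCore p G ⊔ Q).relIndex (Cfsg.pPrimePCore p G) ∣
      (Cfsg.pPrimeCore p G).relIndex (Cfsg.pPrimePCore p G) :=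
    Subgroup.relIndex_dvd_of_le_left _ le_sup_left
  have h2 : (Cfsg.pPrimeCore p G ⊔ Q).relIndex (Cfsg.pPrimePCore p G) ∣
      Q.relIndex (Cfsg.pPrimePCore p G) :=
    Subgroup.relIndex_dvd_of_le_left _ le_sup_right
  have h3 : (Cfsg.pPrimeCore p G).relIndex (Cfsg.pPrimePCore p G)
      = Nat.card ↥(Cfsg.pCore p (G ⧸ Cfsg.pPrimeCore p G)) := by
    have := Subgroup.relIndex_ker (QuotientGroup.mk' (Cfsg.pPrimeCore p G))
      (K := Cfsg.pPrimePCore p G)
    rw [QuotientGroup.ker_mk'] at this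
    rw [this]
    unfold Cfsg.pPrimePCore
    rw [Subgroup.map_comap_eq_self_of_surjective (QuotientGroup.mk'_surjective _)]
  obtain ⟨a, ha⟩ := (pCore_isPGroup p (G ⧸ Cfsg.pPrimeCore p G)).exists_card_eq
  rw [h3, ha] at h1
  obtain ⟨j, -, hj⟩ := (Nat.dvd_prime_pow hp.out).mp h1
  rcases Nat.eq_zero_or_pos j with h0 | hpos
  · rw [hj, h0, pow_zero]
  · exfalso
    apply hQ
    refine dvd_trans ?_ h2
    rw [hj]
    exact dvd_pow_self p hpos.ne'

/-- **Hall–Higman Lemma 1.2.3, general form.** If `G` is a finite `p`-soluble group and `Q` is a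
subgroup of `O_{p',p}(G)` of index prime to `p` in it (for instance a Sylow `p`-subgroup of
`O_{p',p}(G)`), then `C_G(Q) ≤ O_{p',p}(G)`. -/
theorem centralizer_le_pPrimePCore_of_isPSolvable {G : Type*} [Group G] [Finite G] {p : ℕ}
    [hp : Fact p.Prime] (hS : Cfsg.IsPSolvable p G) (Q : Subgroup G)
    (hQ : ¬ p ∣ Q.relIndex (Cfsg.pPrimePCore p G)) :
    centralizer (Q : Set G) ≤ Cfsg.pPrimePCore p G := by
  have hNn : (Cfsg.pPrimeCore p G).Normal := pPrimeCore_normal' p G
  have hsurj := QuotientGroup.mk'_surjective (Cfsg.pPrimeCore p G)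
  have hHH := centralizer_pCore_le_of_isPSolvable (isPSolvable_quotient (Cfsg.pPrimeCore p G) hS)
    (pPrimeCore_quotient_pPrimeCore p G)
  have hsup := pPrimePCore_le_sup_of_not_dvd Q hQ
  intro x hx
  show x ∈ (Cfsg.pCore p (G ⧸ Cfsg.pPrimeCore p G)).comap (QuotientGroup.mk' (Cfsg.pPrimeCore p G))
  rw [Subgroup.mem_comap]
  apply hHH
  rw [Subgroup.mem_centralizer_iff]
  intro ybar hybar
  obtain ⟨y, rfl⟩ := hsurj ybar
  have hy : y ∈ Cfsg.pPrimePCore p G := hybar
  have h1 : QuotientGroup.mk' (Cfsg.pPrimeCore p G) y ∈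
      (Cfsg.pPrimeCore p G ⊔ Q).map (QuotientGroup.mk' (Cfsg.pPrimeCore p G)) :=
    Subgroup.mem_map_of_mem _ (hsup hy)
  rw [Subgroup.map_sup, QuotientGroup.map_mk'_self, bot_sup_eq] at h1
  obtain ⟨q, hq, hqy⟩ := h1
  rw [← hqy, ← map_mul, ← map_mul]
  congr 1
  exact (Subgroup.mem_centralizer_iff.mp hx) q hq

/-- A finite `p`-soluble group is `p`-constrained. -/
theorem isPConstrained_of_isPSolvable {G : Type*} [Group G] [Finite G] {p : ℕ}
    [hp : Fact p.Prime] (hS : Cfsg.IsPSolvable p G) : Cfsg.IsPConstrained p G := by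
  intro P
  apply centralizer_le_pPrimePCore_of_isPSolvable hS
  have h1 : ((P : Subgroup ↥(Cfsg.pPrimePCore p G)).map (Cfsg.pPrimePCore p G).subtype).relIndex
      (Cfsg.pPrimePCore p G) = (P : Subgroup ↥(Cfsg.pPrimePCore p G)).index := by
    unfold Subgroup.relIndex Subgroup.subgroupOf
    rw [Subgroup.comap_map_eq_self_of_injective (Subgroup.subtype_injective _)]
  rw [h1]
  exact P.not_dvd_index

end Cfsg.Agent.Lib.helper38
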