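import Mathlib

/-!
# S4330 — shared definitions (regular orbit theorem for odd `p`)

Internal setting: `M` a (finite) commutative group, subgroups of `MulAut M`.
-/

set_option autoImplicit false

namespace Cfsg.Agent.Lib.helper38.RO

universe u v

section Defs

variable {M : Type v} [CommGroup M]

/-- Fixed points of a subgroup of automorphisms. -/
def fixedPts (Y : Subgroup (MulAut M)) : Subgroup M where
  carrier := {m | ∀ y ∈ Y, y m = m}
  one_mem' := fun y _ => map_one y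
  mul_mem' := fun {a b} ha hb y hy => by rw [map_mul, ha y hy, hb y hy]
  inv_mem' := fun {a} ha y hy => by rw [map_inv, ha y hy]

theorem mem_fixedPts {Y : Subgroup (MulAut M)} {m : M} :
    m ∈ fixedPts Y ↔ ∀ y ∈ Y, y m = m := Iff.rfl

/-- The conjugate subgroup `n D n⁻¹`. -/
def conjSub {Γ : Type*} [Group Γ] (n : Γ) (D : Subgroup Γ) : Subgroup Γ :=
  D.map (MulAut.conj n).toMonoidHom

theorem mem_conjSub {Γ : Type*} [Group Γ] {n d : Γ} {D : Subgroup Γ} :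
    d ∈ conjSub n D ↔ n⁻¹ * d * n ∈ D := by
  unfold conjSub
  constructor
  · rintro ⟨x, hx, rfl⟩
    simpa [MulAut.conj_apply, mul_assoc] using hx
  · intro h
    exact ⟨n⁻¹ * d * n, h, by simp [MulAut.conj_apply, mul_assoc]⟩

theorem conj_mem_conjSub {Γ : Type*} [Group Γ] {n d : Γ} {D : Subgroup Γ} (h : d ∈ D) :
    n * d * n⁻¹ ∈ conjSub n D := by
  rw [mem_conjSub]; simpa [mul_assoc] using h

theorem conjSub_one {Γ : Type*} [Group Γ] (D : Subgroup Γ) : conjSub 1 D = D := by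
  ext d; simp [mem_conjSub]

theorem conjSub_mul {Γ : Type*} [Group Γ] (a b : Γ) (D : Subgroup Γ) :
    conjSub (a * b) D = conjSub a (conjSub b D) := by
  ext d; simp [mem_conjSub, mul_assoc]

theorem conjSub_eq_self_of_normal {Γ : Type*} [Group Γ] {n : Γ} {D : Subgroup Γ}
    (h1 : ∀ d ∈ D, n * d * n⁻¹ ∈ D) (h2 : ∀ d ∈ D, n⁻¹ * d * n ∈ D) : conjSub n D = D := by
  ext d
  rw [mem_conjSub]
  constructor
  · intro h
    have := h1 _ h
    simpa [mul_assoc] using this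
  · intro h; exact h2 d h

theorem card_conjSub {Γ : Type*} [Group Γ] (n : Γ) (D : Subgroup Γ) :
    Nat.card ↥(conjSub n D) = Nat.card ↥D := by
  unfold conjSub
  exact Subgroup.card_map_of_injective (MulAut.conj n).injective

/-- `n (Fix Y) = Fix (n Y n⁻¹)`. -/
theorem map_mem_fixedPts_conjSub {n : MulAut M} {Y : Subgroup (MulAut M)} {m : M}
    (hm : m ∈ fixedPts Y) : n m ∈ fixedPts (conjSub n Y) := by
  intro y hy
  rw [mem_conjSub] at hy
  have := hm _ hy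
  have h2 : n ((n⁻¹ * y * n) m) = n m := by rw [this]
  simpa [MulAut.mul_apply] using h2

/-- Restriction of one automorphism to an invariant subgroup. -/
def restrictAut (n : MulAut M) (M₁ : Subgroup M) (h1 : ∀ m ∈ M₁, n m ∈ M₁)
    (h2 : ∀ m ∈ M₁, n⁻¹ m ∈ M₁) : MulAut ↥M₁ where
  toFun := fun m => ⟨n m, h1 m m.2⟩
  invFun := fun m => ⟨n⁻¹ m, h2 m m.2⟩
  left_inv := fun m => Subtype.ext (by simp)
  right_inv := fun m => Subtype.ext (by simp)
  map_mul' := fun a b => Subtype.ext (by simp)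

/-- Restriction homomorphism `N₁ → Aut(M₁)` for an `N₁`-invariant subgroup `M₁ ≤ M`. -/
def restrictHom (N₁ : Subgroup (MulAut M)) (M₁ : Subgroup M)
    (hinv : ∀ n ∈ N₁, ∀ m ∈ M₁, n m ∈ M₁) : ↥N₁ →* MulAut ↥M₁ where
  toFun := fun n => restrictAut (n : MulAut M) M₁ (hinv n n.2) (hinv _ (inv_mem n.2))
  map_one' := by ext m; rfl
  map_mul' := fun a b => by ext m; rfl

@[simp] theorem restrictHom_apply (N₁ : Subgroup (MulAut M)) (M₁ : Subgroup M)
    (hinv : ∀ n ∈ N₁, ∀ m ∈ M₁, n m ∈ M₁) (n : ↥N₁) (m : ↥M₁) :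
    ((restrictHom N₁ M₁ hinv n) m : M) = (n : MulAut M) (m : M) := rfl

/-- Norm map of a subgroup of automorphisms: `m ↦ ∏_{d ∈ D} d m`. -/
noncomputable def normMap (D : Subgroup (MulAut M)) (m : M) : M :=
  ∏ᶠ d : ↥D, (d : MulAut M) m

/-- Cyclic product `m ↦ ∏_{i < k} c^i m`. -/
def cycProd (c : MulAut M) (k : ℕ) (m : M) : M :=
  ∏ i ∈ Finset.range k, (c ^ i) m

/-- `D` is a maximal proper subgroup of `B`. -/
def IsMaxIn {Γ : Type*} [Group Γ] (B D : Subgroup Γ) : Prop :=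
  D < B ∧ ∀ D' : Subgroup Γ, D < D' → D' ≤ B → D' = B

/-- The regular-orbit-type goal for the module `M`. -/
def Goal (p : ℕ) (M : Type v) [CommGroup M] : Prop :=
  ∀ N Q X : Subgroup (MulAut M), Q ≤ N → (∀ n ∈ N, ∀ q ∈ Q, n * q * n⁻¹ ∈ Q) →
    IsPGroup p ↥Q → X ≤ Q → X ≠ ⊥ →
    ∃ m : M, ∀ n ∈ N, ∃ x ∈ X, (n * x * n⁻¹) m ≠ m

/-- Induction hypothesis: the goal for all smaller coprime modules (same universe). -/
def IHyp (p : ℕ) (M : Type v) [CommGroup M] : Prop :=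
  ∀ (M' : Type v) [CommGroup M'] [Finite M'], Nat.card M' < Nat.card M →
    ¬ p ∣ Nat.card M' → Goal p M'

/-- The regular-vector statement for "extraspecial-like" groups of order `≤ k`. -/
def EXGoal (p k : ℕ) : Prop :=
  ∀ (M : Type v) [CommGroup M] [Finite M], ¬ p ∣ Nat.card M →
    ∀ E Z : Subgroup (MulAut M), Nat.card ↥E ≤ k → Z ≤ E → Nat.card ↥Z = p →
      (∀ z ∈ Z, ∀ e ∈ E, z * e = e * z) → (∀ e ∈ E, e ^ p = 1) →
      (∀ e ∈ E, ∀ f ∈ E, e * f * e⁻¹ * f⁻¹ ∈ Z) → fixedPts Z = ⊥ →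
      ∃ m : M, ∀ e ∈ E, e m = m → e = 1

/-- The data `Z ≤ E ≤ Q` produced by the structure analysis of a `p`-group `Q` (p odd)
without "large" invariant elementary abelian subgroups. -/
structure StructData {Γ : Type*} [Group Γ] (p : ℕ) (Q Z E : Subgroup Γ) : Prop where
  hZE : Z ≤ E
  hEQ : E ≤ Q
  hZcard : Nat.card ↥Z = p
  hZcent : ∀ z ∈ Z, ∀ q ∈ Q, z * q = q * z
  hZmax : ∀ z ∈ Q, z ^ p = 1 → (∀ q ∈ Q, z * q = q * z) → z ∈ Z
  hEp : ∀ e ∈ E, e ^ p = 1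
  hEcomm : ∀ e ∈ E, ∀ q ∈ Q, e * q * e⁻¹ * q⁻¹ ∈ Z
  hEmax : ∀ w ∈ Q, w ^ p = 1 → (∀ q ∈ Q, w * q * w⁻¹ * q⁻¹ ∈ Z) → w ∈ E
  hEcenter : ∀ e ∈ E, (∀ f ∈ E, e * f = f * e) → e ∈ Z

end Defs

end Cfsg.Agent.Lib.helper38.RO
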