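import Mathlib
import Cfsg.Agent.Lib.helper38.RO1

/-!
# S4330 — piece NORM: the norm map and maximal subgroups
-/

set_option autoImplicit false

namespace Cfsg.Agent.Lib.helper38.RO

universe u v

set_option linter.unusedSectionVars false

section NORM
variable {M : Type v} [CommGroup M] [Finite M]

theorem normMap_eq_prod (D : Subgroup (MulAut M)) [Fintype ↥D] (m : M) :
    normMap D m = ∏ d : ↥D, (d : MulAut M) m := finprod_eq_prod_of_fintype _

theorem normMap_one (D : Subgroup (MulAut M)) : normMap D (1 : M) = 1 := by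
  unfold normMap; simp

theorem normMap_mul (D : Subgroup (MulAut M)) (m m' : M) :
    normMap D (m * m') = normMap D m * normMap D m' := by
  unfold normMap
  simp only [map_mul]
  exact finprod_mul_distrib (Set.toFinite _) (Set.toFinite _)

/-- `normMap` as a monoid hom. -/
noncomputable def normHom (D : Subgroup (MulAut M)) : M →* M :=
  { toFun := normMap D, map_one' := normMap_one D, map_mul' := normMap_mul D }

@[simp] theorem normHom_apply (D : Subgroup (MulAut M)) (m : M) : normHom D m = normMap D m := rfl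

theorem normMap_mem_fixedPts (D : Subgroup (MulAut M)) (m : M) : normMap D m ∈ fixedPts D := by
  classical
  have := Fintype.ofFinite ↥D
  intro y hy
  rw [normMap_eq_prod, map_prod]
  exact Fintype.prod_equiv (Equiv.mulLeft (⟨y, hy⟩ : ↥D)) _ _ (fun d => rfl)

theorem normMap_of_mem_fixedPts (D : Subgroup (MulAut M)) (m : M) (h : m ∈ fixedPts D) :
    normMap D m = m ^ Nat.card ↥D := by
  classical
  have := Fintype.ofFinite ↥D
  have h1 : ∀ d ∈ (Finset.univ : Finset ↥D), ((d : ↥D) : MulAut M) m = m :=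
    fun d _ => h (d : MulAut M) d.2
  rw [normMap_eq_prod, Finset.prod_congr rfl h1, Finset.prod_const,
    Finset.card_univ, Nat.card_eq_fintype_card]

/-- `n (N_D m) = N_{n D n⁻¹} (n m)`. -/
theorem map_normMap (n : MulAut M) (D : Subgroup (MulAut M)) (m : M) :
    n (normMap D m) = normMap (conjSub n D) (n m) := by
  classical
  have := Fintype.ofFinite ↥D
  have := Fintype.ofFinite ↥(conjSub n D)
  rw [normMap_eq_prod, normMap_eq_prod, map_prod]
  let e : ↥D ≃ ↥(conjSub n D) :=
    { toFun := fun d => ⟨n * d * n⁻¹, conj_mem_conjSub d.2⟩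
      invFun := fun d' => ⟨n⁻¹ * d' * n, mem_conjSub.mp d'.2⟩
      left_inv := fun d => Subtype.ext (by simp [mul_assoc])
      right_inv := fun d => Subtype.ext (by simp [mul_assoc]) }
  refine Fintype.prod_equiv e _ _ (fun d => ?_)
  change n ((d : MulAut M) m) = (n * (d : MulAut M) * n⁻¹) (n m)
  simp [MulAut.mul_apply]

theorem normMap_pow (D : Subgroup (MulAut M)) (m : M) (k : ℕ) :
    normMap D (m ^ k) = normMap D m ^ k := map_pow (normHom D) m k

/-- A maximal subgroup of a group of exponent `p` and order `> p` is nontrivial. -/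
theorem isMaxIn_ne_bot (p : ℕ) [Fact p.Prime] {Γ : Type*} [Group Γ] [Finite Γ] (B D : Subgroup Γ)
    (hBp : ∀ b ∈ B, b ^ p = 1) (hB2 : p < Nat.card ↥B) (hD : IsMaxIn B D) : D ≠ ⊥ := by
  rintro rfl
  have hp2 : 2 ≤ p := (Fact.out : p.Prime).two_le
  have hB1 : B ≠ ⊥ := by
    rintro rfl
    rw [Subgroup.card_bot] at hB2; omega
  obtain ⟨b, hb, hb1⟩ := (Subgroup.ne_bot_iff_exists_ne_one (H := B)).mp hB1 |> fun ⟨a, h⟩ =>
    (⟨(a : Γ), a.2, fun h' => h (Subtype.ext h')⟩ : ∃ b ∈ B, b ≠ 1)
  have hz : Subgroup.zpowers b = B := by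
    apply hD.2
    · rw [bot_lt_iff_ne_bot]
      intro h
      exact hb1 ((Subgroup.zpowers_eq_bot).mp h)
    · exact (Subgroup.zpowers_le).mpr hb
  have hcard : Nat.card ↥B = orderOf b := by rw [← hz, Nat.card_zpowers]
  have hle : orderOf b ≤ p :=
    Nat.le_of_dvd (by omega) (orderOf_dvd_of_pow_eq_one (hBp b hb))
  omega

theorem conjSub_le_conjSub {Γ : Type*} [Group Γ] (n : Γ) {D D' : Subgroup Γ} :
    conjSub n D ≤ conjSub n D' ↔ D ≤ D' := by
  unfold conjSub
  exact Subgroup.map_le_map_iff_of_injective (MulAut.conj n).injective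

theorem conjSub_inv_conjSub {Γ : Type*} [Group Γ] (n : Γ) (D : Subgroup Γ) :
    conjSub n⁻¹ (conjSub n D) = D := by
  rw [← conjSub_mul, inv_mul_cancel, conjSub_one]

theorem conjSub_conjSub_inv {Γ : Type*} [Group Γ] (n : Γ) (D : Subgroup Γ) :
    conjSub n (conjSub n⁻¹ D) = D := by
  rw [← conjSub_mul, mul_inv_cancel, conjSub_one]

/-- Conjugates of maximal subgroups are maximal. -/
theorem isMaxIn_conjSub {Γ : Type*} [Group Γ] (n : Γ) (B D : Subgroup Γ)
    (hn : conjSub n B = B) (hD : IsMaxIn B D) : IsMaxIn B (conjSub n D) := by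
  have hn' : conjSub n⁻¹ B = B := by
    conv_lhs => rw [← hn]
    exact conjSub_inv_conjSub n B
  refine ⟨?_, ?_⟩
  · rw [lt_iff_le_and_ne]
    refine ⟨?_, ?_⟩
    · rw [← hn]; exact (conjSub_le_conjSub n).mpr hD.1.le
    · intro h
      rw [← hn] at h
      have h2 := congrArg (conjSub n⁻¹) h
      rw [conjSub_inv_conjSub, conjSub_inv_conjSub] at h2
      exact hD.1.ne h2
  · intro D' hlt hle
    have h1 : D < conjSub n⁻¹ D' := by
      rw [lt_iff_le_and_ne]
      refine ⟨?_, ?_⟩
      · have := (conjSub_le_conjSub n⁻¹).mpr hlt.le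
        rwa [conjSub_inv_conjSub] at this
      · intro h
        rw [h, conjSub_conjSub_inv] at hlt
        exact lt_irrefl _ hlt
    have h2 : conjSub n⁻¹ D' ≤ B := by
      rw [← hn']; exact (conjSub_le_conjSub n⁻¹).mpr hle
    have h3 := hD.2 _ h1 h2
    have h4 := congrArg (conjSub n) h3
    rwa [conjSub_conjSub_inv, hn] at h4

/-- The stabilizer of a point contains `Y` iff the point is fixed by `Y`. -/
theorem le_stabilizer_iff (Y : Subgroup (MulAut M)) (m : M) :
    Y ≤ MulAction.stabilizer (MulAut M) m ↔ m ∈ fixedPts Y := by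
  constructor
  · intro h y hy
    have := h hy
    rwa [MulAction.mem_stabilizer_iff, MulAut.smul_def] at this
  · intro h y hy
    rw [MulAction.mem_stabilizer_iff, MulAut.smul_def]
    exact h y hy

theorem fixedPts_sup (Y Y' : Subgroup (MulAut M)) :
    fixedPts (Y ⊔ Y') = fixedPts Y ⊓ fixedPts Y' := by
  ext m
  rw [Subgroup.mem_inf, ← le_stabilizer_iff, ← le_stabilizer_iff, ← le_stabilizer_iff, sup_le_iff]

theorem fixedPts_anti {Y Y' : Subgroup (MulAut M)} (h : Y ≤ Y') : fixedPts Y' ≤ fixedPts Y :=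
  fun _ hm y hy => hm y (h hy)

/-- Two distinct maximal subgroups generate `B`. -/
theorem isMaxIn_sup_eq {Γ : Type*} [Group Γ] (B D D' : Subgroup Γ)
    (hD : IsMaxIn B D) (hD' : IsMaxIn B D') (hne : D ≠ D') : D ⊔ D' = B := by
  apply hD.2 _ _ (sup_le hD.1.le hD'.1.le)
  rw [lt_iff_le_and_ne]
  refine ⟨le_sup_left, fun h => ?_⟩
  have hle : D' ≤ D := by rw [h]; exact le_sup_right
  have hlt : D' < D := lt_of_le_of_ne hle (Ne.symm hne)
  exact hD.1.ne (hD'.2 D hlt hD.1.le)

/-- Two distinct maximal subgroups generate `B`; so their common fixed points are `Fix B`. -/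
theorem normMap_eq_one_of_ne (B D D' : Subgroup (MulAut M))
    (hBc : ∀ a ∈ B, ∀ b ∈ B, a * b = b * a) (hBfix : fixedPts B = ⊥)
    (hD : IsMaxIn B D) (hD' : IsMaxIn B D') (hne : D ≠ D') (m : M) (hm : m ∈ fixedPts D') :
    normMap D m = 1 := by
  classical
  have := Fintype.ofFinite ↥D
  have h1 : normMap D m ∈ fixedPts D := normMap_mem_fixedPts D m
  have h2 : normMap D m ∈ fixedPts D' := by
    intro d' hd'
    rw [normMap_eq_prod, map_prod]
    refine Finset.prod_congr rfl (fun d _ => ?_)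
    have hcomm : d' * (d : MulAut M) = (d : MulAut M) * d' :=
      hBc d' (hD'.1.le hd') d (hD.1.le d.2)
    have : (d' * (d : MulAut M)) m = ((d : MulAut M) * d') m := by rw [hcomm]
    simp only [MulAut.mul_apply] at this
    rw [this, hm d' hd']
  have h3 : normMap D m ∈ fixedPts (D ⊔ D') := by
    rw [fixedPts_sup]; exact ⟨h1, h2⟩
  rw [isMaxIn_sup_eq B D D' hD hD' hne, hBfix, Subgroup.mem_bot] at h3
  exact h3

/-- A nontrivial subgroup of automorphisms does not fix everything. -/
theorem fixedPts_ne_top (D : Subgroup (MulAut M)) (hD : D ≠ ⊥) : fixedPts D ≠ ⊤ := by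
  intro h
  apply hD
  rw [eq_bot_iff]
  intro d hd
  rw [Subgroup.mem_bot]
  ext m
  have : m ∈ fixedPts D := by rw [h]; trivial
  exact this d hd

theorem card_fixedPts_lt (D : Subgroup (MulAut M)) (hD : D ≠ ⊥) :
    Nat.card ↥(fixedPts D) < Nat.card M := by
  refine lt_of_le_of_ne (Subgroup.card_le_card_group _) (fun h => ?_)
  exact fixedPts_ne_top D hD (Subgroup.eq_top_of_card_eq _ h)

end NORM

end Cfsg.Agent.Lib.helper38.RO
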