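import Mathlib
import Cfsg.Agent.Lib.helper44.SL3Defs

/-! S2287 piece MATa: matrix computations with the 3-cycle `mC` and the torus element `mH3`
in `SL₃(F)` (`mC_conj`, `mC_cube`, `mH3_conj`, `mH3_mC`). -/

set_option autoImplicit false
set_option linter.unusedSimpArgs false

namespace Cfsg.Agent.Lib.helper38.SL3MATa

open Cfsg.Agent.Lib.helper44.SL3

theorem h38_mC_val {F : Type*} [Field F] :
    (mC F : Matrix (Fin 3) (Fin 3) F) = !![0, 0, 1; 1, 0, 0; 0, 1, 0] := rfl

theorem h38_mH3_val {F : Type*} [Field F] (ω : Fˣ) :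
    (mH3 ω : Matrix (Fin 3) (Fin 3) F) = !![(ω : F), 0, 0; 0, 1, 0; 0, 0, ((ω⁻¹ : Fˣ) : F)] := rfl

end Cfsg.Agent.Lib.helper38.SL3MATa

namespace Cfsg.Agent.Lib.helper44.SL3

open Cfsg.Agent.Lib.helper38.SL3MATa

-- MATa
theorem mC_conj {F : Type*} [Field F] (i j : Fin 3) (hij : i ≠ j) (a : F) :
    mC F * Matrix.SpecialLinearGroup.transvection hij a * (mC F)⁻¹ =
      Matrix.SpecialLinearGroup.transvection
        (show i + 1 ≠ j + 1 from fun h => hij (add_right_cancel h)) a := by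
  rw [mul_inv_eq_iff_eq_mul]
  apply Subtype.ext
  simp only [Matrix.SpecialLinearGroup.coe_mul, Matrix.SpecialLinearGroup.transvection_coe,
    h38_mC_val]
  fin_cases i <;> fin_cases j <;>
    first
    | exact absurd rfl hij
    | (ext r s
       fin_cases r <;> fin_cases s <;>
         simp [Matrix.mul_apply, Fin.sum_univ_three, Matrix.single_apply, Matrix.one_apply])

-- MATa
theorem mC_cube {F : Type*} [Field F] : mC F * mC F * mC F = 1 := by
  apply Subtype.ext
  simp only [Matrix.SpecialLinearGroup.coe_mul, h38_mC_val, Matrix.SpecialLinearGroup.coe_one]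
  ext r s
  fin_cases r <;> fin_cases s <;>
    simp [Matrix.mul_apply, Fin.sum_univ_three]

-- MATa
theorem mH3_conj {F : Type*} [Field F] (ω : Fˣ) (i j : Fin 3) (hij : i ≠ j) (a : F) :
    mH3 ω * Matrix.SpecialLinearGroup.transvection hij a * (mH3 ω)⁻¹ =
      Matrix.SpecialLinearGroup.transvection hij
        ((![(ω : F), 1, ((ω⁻¹ : Fˣ) : F)] i) * (![((ω⁻¹ : Fˣ) : F), 1, (ω : F)] j) * a) := by
  rw [mul_inv_eq_iff_eq_mul]
  apply Subtype.ext
  simp only [Matrix.SpecialLinearGroup.coe_mul, Matrix.SpecialLinearGroup.transvection_coe,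
    h38_mH3_val]
  fin_cases i <;> fin_cases j <;>
    first
    | exact absurd rfl hij
    | (ext r s
       fin_cases r <;> fin_cases s <;>
         simp [Matrix.mul_apply, Fin.sum_univ_three, Matrix.single_apply, Matrix.one_apply,
           mul_comm, mul_left_comm, mul_assoc])

theorem h38_mC_inv {F : Type*} [Field F] : (mC F)⁻¹ = mC F * mC F :=
  inv_eq_of_mul_eq_one_right (by rw [← mul_assoc]; exact mC_cube)

theorem h38_mC_sq_inv {F : Type*} [Field F] : (mC F * mC F)⁻¹ = mC F :=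
  inv_eq_of_mul_eq_one_right mC_cube

-- MATa
theorem mH3_mC {F : Type*} [Field F] (ω : Fˣ) :
    Commute (mH3 ω) (mC F * mH3 ω * (mC F)⁻¹) ∧
      mH3 ω * (mC F * mH3 ω * (mC F)⁻¹) * (mC F * mC F * mH3 ω * (mC F * mC F)⁻¹) = 1 := by
  have h1 : (ω : F) * ((ω⁻¹ : Fˣ) : F) = 1 := by
    rw [← Units.val_mul, mul_inv_cancel, Units.val_one]
  have h2 : ((ω⁻¹ : Fˣ) : F) * (ω : F) = 1 := by rw [mul_comm, h1]
  rw [h38_mC_inv, h38_mC_sq_inv]
  constructor
  · show mH3 ω * (mC F * mH3 ω * (mC F * mC F)) = mC F * mH3 ω * (mC F * mC F) * mH3 ω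
    apply Subtype.ext
    simp only [Matrix.SpecialLinearGroup.coe_mul, h38_mC_val, h38_mH3_val]
    ext r s
    fin_cases r <;> fin_cases s <;>
      simp [Matrix.mul_apply, Fin.sum_univ_three, mul_comm]
  · apply Subtype.ext
    simp only [Matrix.SpecialLinearGroup.coe_mul, h38_mC_val, h38_mH3_val,
      Matrix.SpecialLinearGroup.coe_one]
    ext r s
    fin_cases r <;> fin_cases s <;>
      simp [Matrix.mul_apply, Fin.sum_univ_three, h1, h2]

end Cfsg.Agent.Lib.helper44.SL3
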