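import Mathlib
import Cfsg.Agent.Lib.helper44.SL3Defs
import Cfsg.Agent.Lib.helper45.SLGen
import Cfsg.Agent.Lib.helper38.SL3MATa

/-! S2287 piece MATw: the Weyl word `w21` and the torus word `w12` in `SL₃(F)`
(`mat_weyl`, `mat_torus`). -/

set_option autoImplicit false
set_option linter.unusedSimpArgs false
set_option linter.unnecessarySeqFocus false

namespace Cfsg.Agent.Lib.helper38.SL3MATw

open Cfsg.Agent.Lib.helper44.SL3 Cfsg.Agent.Lib.helper38.SL3MATa
open Matrix.SpecialLinearGroup (transvection)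

/-- `c x₁₂(a) c⁻¹ = x₂₃(a)`. -/
theorem h38_c_x01 {F : Type*} [Field F] (a : F) :
    mC F * mX01 F a * (mC F)⁻¹ = transvection (show (1 : Fin 3) ≠ 2 by decide) a :=
  mC_conj 0 1 (by decide) a

/-- `c x₂₃(a) c⁻¹ = x₃₁(a)`. -/
theorem h38_c_x12 {F : Type*} [Field F] (a : F) :
    mC F * transvection (show (1 : Fin 3) ≠ 2 by decide) a * (mC F)⁻¹ =
      transvection (show (2 : Fin 3) ≠ 0 by decide) a :=
  mC_conj 1 2 (by decide) a

/-- `c x₁₃(a) c⁻¹ = x₂₁(a)`. -/
theorem h38_c_x02 {F : Type*} [Field F] (a : F) :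
    mC F * transvection (show (0 : Fin 3) ≠ 2 by decide) a * (mC F)⁻¹ =
      transvection (show (1 : Fin 3) ≠ 0 by decide) a :=
  mC_conj 0 2 (by decide) a

/-- `c x₂₁(a) c⁻¹ = x₃₂(a)`. -/
theorem h38_c_x10 {F : Type*} [Field F] (a : F) :
    mC F * transvection (show (1 : Fin 3) ≠ 0 by decide) a * (mC F)⁻¹ =
      transvection (show (2 : Fin 3) ≠ 1 by decide) a :=
  mC_conj 1 0 (by decide) a

/-- `c² x₁₂(a) c⁻² = x₃₁(a)`. -/
theorem h38_cc_x01 {F : Type*} [Field F] (a : F) :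
    mC F * mC F * mX01 F a * (mC F * mC F)⁻¹ =
      transvection (show (2 : Fin 3) ≠ 0 by decide) a := by
  rw [← h38_c_x12, ← h38_c_x01]
  group

/-- `[x₁₂(a), x₂₃(b)] = x₁₃(ab)`. -/
theorem h38_cm_x01_x12 {F : Type*} [Field F] (a b : F) :
    cm (mX01 F a) (transvection (show (1 : Fin 3) ≠ 2 by decide) b) =
      transvection (show (0 : Fin 3) ≠ 2 by decide) (a * b) :=
  Cfsg.Agent.Lib.helper45.transvection_comm (show (0 : Fin 3) ≠ 1 by decide)
    (show (1 : Fin 3) ≠ 2 by decide) (show (0 : Fin 3) ≠ 2 by decide) a b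

/-- `wz = x₁₃(1)`. -/
theorem h38_wz {F : Type*} [Field F] :
    wz (mX01 F 1) (mC F) = transvection (show (0 : Fin 3) ≠ 2 by decide) (1 : F) := by
  unfold wz
  rw [h38_c_x01, h38_cm_x01_x12, mul_one]

/-- `h x₁₂(a) h⁻¹ = x₁₂(ω a)`. -/
theorem h38_h_x01 {F : Type*} [Field F] (ω : Fˣ) (a : F) :
    mH3 ω * mX01 F a * (mH3 ω)⁻¹ = mX01 F ((ω : F) * a) := by
  have h := mH3_conj ω 0 1 (by decide) a
  simpa [mX01] using h

/-- `wZω = x₁₃(ω)`. -/
theorem h38_wZω {F : Type*} [Field F] (ω : Fˣ) :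
    wZω (mX01 F 1) (mH3 ω) (mC F) = transvection (show (0 : Fin 3) ≠ 2 by decide) (ω : F) := by
  unfold wZω
  rw [h38_c_x01, h38_h_x01, h38_cm_x01_x12, mul_one, mul_one]

theorem h38_mX01_inv {F : Type*} [Field F] (a : F) : (mX01 F a)⁻¹ = mX01 F (-a) := by
  unfold mX01
  rw [Matrix.SpecialLinearGroup.transvection_inv]

/-- `h⁻¹ x₁₂(-1) h = x₁₂(-ω⁻¹)`. -/
theorem h38_hinv_x01 {F : Type*} [Field F] (ω : Fˣ) :
    (mH3 ω)⁻¹ * (mX01 F 1)⁻¹ * mH3 ω = mX01 F (-((ω⁻¹ : Fˣ) : F)) := by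
  have h1 : (ω : F) * ((ω⁻¹ : Fˣ) : F) = 1 := by
    rw [← Units.val_mul, mul_inv_cancel, Units.val_one]
  have h := h38_h_x01 ω (-((ω⁻¹ : Fˣ) : F))
  rw [mul_neg, h1] at h
  rw [h38_mX01_inv, ← h]
  group

/-- The Weyl element `x₂₁(1) x₁₂(-1) x₂₁(1)`. -/
theorem h38_n10 {F : Type*} [Field F] :
    ((transvection (show (1 : Fin 3) ≠ 0 by decide) (1 : F) * mX01 F (-1) *
        transvection (show (1 : Fin 3) ≠ 0 by decide) (1 : F) :
          Matrix.SpecialLinearGroup (Fin 3) F) : Matrix (Fin 3) (Fin 3) F) =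
      !![0, -1, 0; 1, 0, 0; 0, 0, 1] := by
  simp only [mX01, Matrix.SpecialLinearGroup.coe_mul, Matrix.SpecialLinearGroup.transvection_coe]
  ext r s
  fin_cases r <;> fin_cases s <;>
    simp [Matrix.mul_apply, Fin.sum_univ_three, Matrix.single_apply, Matrix.one_apply]

/-- The Weyl element `x₃₂(1) x₂₃(-1) x₃₂(1)`. -/
theorem h38_n21 {F : Type*} [Field F] :
    ((transvection (show (2 : Fin 3) ≠ 1 by decide) (1 : F) *
        transvection (show (1 : Fin 3) ≠ 2 by decide) (-1 : F) *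
        transvection (show (2 : Fin 3) ≠ 1 by decide) (1 : F) :
          Matrix.SpecialLinearGroup (Fin 3) F) : Matrix (Fin 3) (Fin 3) F) =
      !![1, 0, 0; 0, 0, -1; 0, 1, 0] := by
  simp only [Matrix.SpecialLinearGroup.coe_mul, Matrix.SpecialLinearGroup.transvection_coe]
  ext r s
  fin_cases r <;> fin_cases s <;>
    simp [Matrix.mul_apply, Fin.sum_univ_three, Matrix.single_apply, Matrix.one_apply]

/-- `x₁₃(a) x₃₁(b) x₁₃(a)` as a matrix. -/
theorem h38_n02 {F : Type*} [Field F] (a b : F) :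
    ((transvection (show (0 : Fin 3) ≠ 2 by decide) a *
        transvection (show (2 : Fin 3) ≠ 0 by decide) b *
        transvection (show (0 : Fin 3) ≠ 2 by decide) a :
          Matrix.SpecialLinearGroup (Fin 3) F) : Matrix (Fin 3) (Fin 3) F) =
      !![1 + a * b, 0, a + (1 + a * b) * a; 0, 1, 0; b, 0, b * a + 1] := by
  simp only [Matrix.SpecialLinearGroup.coe_mul, Matrix.SpecialLinearGroup.transvection_coe]
  ext r s
  fin_cases r <;> fin_cases s <;>
    simp [Matrix.mul_apply, Fin.sum_univ_three, Matrix.single_apply, Matrix.one_apply] <;> ring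

end Cfsg.Agent.Lib.helper38.SL3MATw

namespace Cfsg.Agent.Lib.helper44.SL3

open Cfsg.Agent.Lib.helper38.SL3MATa Cfsg.Agent.Lib.helper38.SL3MATw
open Matrix.SpecialLinearGroup (transvection)

-- MATw
theorem mat_weyl {F : Type*} [Field F] :
    mC F = w21 (mX01 F 1) (mC F) * (mC F * w21 (mX01 F 1) (mC F) * (mC F)⁻¹) := by
  have hw : w21 (mX01 F 1) (mC F) =
      transvection (show (1 : Fin 3) ≠ 0 by decide) (1 : F) * mX01 F (-1) *
        transvection (show (1 : Fin 3) ≠ 0 by decide) (1 : F) := by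
    unfold w21
    rw [h38_wz, h38_c_x02, h38_mX01_inv]
  have hcw : mC F * w21 (mX01 F 1) (mC F) * (mC F)⁻¹ =
      transvection (show (2 : Fin 3) ≠ 1 by decide) (1 : F) *
        transvection (show (1 : Fin 3) ≠ 2 by decide) (-1 : F) *
        transvection (show (2 : Fin 3) ≠ 1 by decide) (1 : F) := by
    rw [hw, ← h38_c_x10, ← h38_c_x01]
    group
  rw [hcw, hw]
  apply Subtype.ext
  rw [Matrix.SpecialLinearGroup.coe_mul, h38_n10, h38_n21, h38_mC_val]
  ext r s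
  fin_cases r <;> fin_cases s <;>
    simp [Matrix.mul_apply, Fin.sum_univ_three]

-- MATw
theorem mat_torus {F : Type*} [Field F] (ω : Fˣ) :
    mH3 ω = w12 (mX01 F 1) (mH3 ω) (mC F) := by
  have h1 : (ω : F) * ((ω⁻¹ : Fˣ) : F) = 1 := by
    rw [← Units.val_mul, mul_inv_cancel, Units.val_one]
  have h2 : ((ω⁻¹ : Fˣ) : F) * (ω : F) = 1 := by rw [mul_comm, h1]
  have hw : w12 (mX01 F 1) (mH3 ω) (mC F) =
      (transvection (show (0 : Fin 3) ≠ 2 by decide) (ω : F) *
        transvection (show (2 : Fin 3) ≠ 0 by decide) (-((ω⁻¹ : Fˣ) : F)) *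
        transvection (show (0 : Fin 3) ≠ 2 by decide) (ω : F)) *
      (transvection (show (0 : Fin 3) ≠ 2 by decide) (-1 : F) *
        transvection (show (2 : Fin 3) ≠ 0 by decide) (1 : F) *
        transvection (show (0 : Fin 3) ≠ 2 by decide) (-1 : F)) := by
    unfold w12
    rw [h38_wZω, h38_wz, h38_hinv_x01, h38_cc_x01, h38_cc_x01,
      Matrix.SpecialLinearGroup.transvection_inv]
    simp only [mul_assoc]
  rw [hw]
  apply Subtype.ext
  rw [Matrix.SpecialLinearGroup.coe_mul, h38_n02, h38_n02, h38_mH3_val]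
  ext r s
  fin_cases r <;> fin_cases s <;>
    simp [Matrix.mul_apply, Fin.sum_univ_three, h1, h2]

end Cfsg.Agent.Lib.helper44.SL3
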