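import Mathlib
import Cfsg.Prelude.Def_Local
import Cfsg.Agent.Lib.helper38.HallHigman2

/-!
Shared lemmas (helper38) on `Cfsg.IsPSolvable`: a nontrivial `p`-soluble group has a nontrivial
normal subgroup which is a `p`-group or a `p'`-group.
-/

set_option autoImplicit false

namespace Cfsg.Agent.Lib.helper38

open Subgroup

/-- A nontrivial `p`-soluble group has a nontrivial normal `p`-subgroup or a nontrivial normal
`p'`-subgroup. -/
theorem exists_normal_ne_bot_pgroup_or_pprime {G : Type*} [Group G] [Nontrivial G] {p : ℕ}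
    [Fact p.Prime] (hS : Cfsg.IsPSolvable p G) :
    ∃ M : Subgroup G, M.Normal ∧ M ≠ ⊥ ∧ (IsPGroup p M ∨ (Nat.card M).Coprime p) := by
  obtain ⟨n, H, h0, hlast, hmono, hnorm, hstep⟩ := hS
  by_contra hcon
  have key : ∀ i : Fin (n + 1), H i = ⊥ := by
    intro i
    induction i using Fin.induction with
    | zero => exact h0
    | succ i ih =>
      by_contra hne
      apply hcon
      refine ⟨H i.succ, hnorm _, hne, ?_⟩
      have h1 := hstep i
      rw [ih, Subgroup.relIndex_bot_left] at h1
      rcases h1 with ⟨m, hm⟩ | h1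
      · exact Or.inl (IsPGroup.of_card hm)
      · exact Or.inr h1
  have h1 := key (Fin.last n)
  rw [hlast] at h1
  exact top_ne_bot h1

end Cfsg.Agent.Lib.helper38
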