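import Mathlib
import Cfsg.Prelude.Def_Transfer
import Cfsg.Prelude.Def_CaseTheorems

/-!
# S4404 (Thompson, N-groups): shared definitions (helper38)

`Hyp M Q` packages the hypotheses on the normal elementary abelian `2`-subgroup `M` and the cyclic
`3`-subgroup `Q` (cubes of `Q` centralize `M`, `[Q, M]` has order `4`); `Good M Q` is the conclusion
of the statement.
-/

set_option autoImplicit false

namespace Cfsg.Agent.Lib.helper38.FQ

/-- The hypotheses of S4404 on `M` and `Q`. -/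
structure Hyp {S : Type*} [Group S] (M Q : Subgroup S) : Prop where
  normal : M.Normal
  elem : Cfsg.IsElementaryAbelian 2 M
  cyc : IsCyclic ↥Q
  three : IsPGroup 3 ↥Q
  cube : ∀ x ∈ Q, x ^ 3 ∈ Subgroup.centralizer (M : Set S)
  card : Nat.card ↥⁅Q, M⁆ = 4

/-- The conclusion of S4404. -/
def Good {S : Type*} [Group S] (M Q : Subgroup S) : Prop :=
  ∃ (r : ℕ) (F : Subgroup S), r.Prime ∧ r ≠ 2 ∧ Cfsg.IsElementaryAbelian r F ∧
    Nat.card ↥F = r ^ 3 ∧
      ¬ IsCyclic ↥(F ⊓ Subgroup.centralizer ((⁅Q, M⁆ : Subgroup S) : Set S))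

end Cfsg.Agent.Lib.helper38.FQ
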