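import Mathlib

/-!
Shared lemma (helper38): a 1-cocycle of a finite group `L` with values in a finite abelian
`p`-group `M`, vanishing on a subgroup `T` of index prime to `p`, is a coboundary
(restriction `H¹(L, M) → H¹(T, M)` is injective).
-/

set_option autoImplicit false

namespace Cfsg.Agent.Lib.helper38

/-- A 1-cocycle `δ : L → M` (`δ (g h) = δ g * g • δ h`) into a finite abelian `p`-group, trivial on a
subgroup `T` of index prime to `p`, is a coboundary: `δ g = u⁻¹ * g • u`. -/
theorem cocycle_eq_coboundary {L : Type*} [Group L] [Finite L] {M : Type*} [CommGroup M] [Finite M]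
    [MulDistribMulAction L M] {p : ℕ} [Fact p.Prime] (hM : IsPGroup p M) (T : Subgroup L)
    (hT : (T.index).Coprime p) (δ : L → M) (hδ : ∀ g h : L, δ (g * h) = δ g * g • δ h)
    (hδT : ∀ t ∈ T, δ t = 1) : ∃ u : M, ∀ g : L, δ g = u⁻¹ * g • u := by
  classical
  have hfin : Fintype (L ⧸ T) := Fintype.ofFinite _
  have hconst : ∀ (g t : L), t ∈ T → δ (g * t) = δ g := by
    intro g t ht
    rw [hδ, hδT t ht, smul_one, mul_one]
  obtain ⟨w, hw⟩ : ∃ w : M, w = ∏ q : L ⧸ T, δ q.out := ⟨_, rfl⟩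
  have key : ∀ h : L, w = δ h ^ T.index * h • w := by
    intro h
    have e1 : ∏ q : L ⧸ T, δ (h * q.out) = δ h ^ T.index * h • w := by
      simp_rw [hδ]
      rw [Finset.prod_mul_distrib, Finset.prod_const, Finset.card_univ, Subgroup.index_eq_card,
        Nat.card_eq_fintype_card, hw, Finset.smul_prod']
    have e2 : ∏ q : L ⧸ T, δ (h * q.out) = w := by
      have h1 : ∀ q : L ⧸ T, δ (h * q.out) = δ ((h • q).out) := by
        intro q
        have hq : ((h • q : L ⧸ T)) = QuotientGroup.mk (h * q.out) := by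
          conv_lhs => rw [← QuotientGroup.out_eq' q]
          rfl
        have hmem : ((h • q).out)⁻¹ * (h * q.out) ∈ T := by
          rw [← QuotientGroup.eq, QuotientGroup.out_eq', hq]
        have := hconst ((h • q).out) _ hmem
        rw [mul_inv_cancel_left] at this
        exact this
      simp_rw [h1]
      rw [hw]
      exact Equiv.prod_comp (MulAction.toPerm h) (fun q : L ⧸ T => δ q.out)
    exact e2.symm.trans e1
  obtain ⟨e, he⟩ := (IsPGroup.iff_card (p := p) (G := M)).mp hM
  have hpe : ∀ c : M, c ^ (p ^ e) = 1 := by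
    intro c
    rw [← he]; exact pow_card_eq_one'
  have hk : Nat.Coprime T.index (p ^ e) := Nat.Coprime.pow_right e hT
  have hbez := Nat.gcd_eq_gcd_ab T.index (p ^ e)
  rw [hk.gcd_eq_one] at hbez
  obtain ⟨a, ha⟩ : ∃ a : ℤ, a = Nat.gcdA T.index (p ^ e) := ⟨_, rfl⟩
  obtain ⟨b, hb⟩ : ∃ b : ℤ, b = Nat.gcdB T.index (p ^ e) := ⟨_, rfl⟩
  rw [← ha, ← hb] at hbez
  refine ⟨(w ^ a)⁻¹, fun g => ?_⟩
  have h1 : δ g ^ T.index = w * (g • w)⁻¹ := by
    have := key g
    rw [eq_mul_inv_iff_mul_eq]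
    exact this.symm
  have h2 : δ g = (δ g ^ T.index) ^ a := by
    have h3 : δ g = δ g ^ ((1 : ℕ) : ℤ) := by simp
    conv_lhs => rw [h3, hbez, zpow_add, zpow_mul, zpow_mul, zpow_natCast, zpow_natCast, hpe, one_zpow,
      mul_one]
  rw [h2, h1, mul_zpow, inv_zpow, inv_inv, smul_inv', smul_zpow']

end Cfsg.Agent.Lib.helper38
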