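import Mathlib

set_option autoImplicit false

namespace Cfsg.Agent.Lib.helper38

/-- In a dihedral group of order `2n ≥ 4`, every element outside a cyclic subgroup of index 2 is an
involution. -/
theorem dihedral_orderOf_two_of_not_mem (n : ℕ) (hn : 2 ≤ n) (C : Subgroup (DihedralGroup n)) [IsCyclic C]
    (hC : C.index = 2) (y : DihedralGroup n) (hy : y ∉ C) : orderOf y = 2 := by
  have hn0 : NeZero n := ⟨by omega⟩
  have hcardC : Nat.card C = n := by
    have h1 := Subgroup.card_mul_index C
    rw [hC, DihedralGroup.nat_card] at h1
    omega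
  obtain ⟨g, hg⟩ := IsCyclic.exists_generator (α := C)
  have hgord : orderOf (g : DihedralGroup n) = n := by
    rw [Subgroup.orderOf_coe, orderOf_eq_card_of_forall_mem_zpowers hg, hcardC]
  cases y with
  | sr i => exact DihedralGroup.orderOf_sr i
  | r i =>
    obtain ⟨g0, hg0⟩ : ∃ g0 : DihedralGroup n, g0 = (g : DihedralGroup n) := ⟨_, rfl⟩
    rw [← hg0] at hgord
    have hg0C : g0 ∈ C := by rw [hg0]; exact g.2
    cases g0 with
    | r j =>
      exfalso
      apply hy
      -- the rotation subgroup
      let φ : Multiplicative (ZMod n) →* DihedralGroup n :=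
        { toFun := fun i => DihedralGroup.r (Multiplicative.toAdd i)
          map_one' := rfl
          map_mul' := fun a b => by simp }
      have hφinj : Function.Injective φ := by
        intro a b hab
        have : DihedralGroup.r (Multiplicative.toAdd a) = DihedralGroup.r (Multiplicative.toAdd b) := hab
        exact Multiplicative.toAdd.injective (DihedralGroup.r.inj this)
      have hcardR : Nat.card φ.range = n := by
        rw [← Nat.card_congr (MonoidHom.ofInjective hφinj).toEquiv, Nat.card_congr Multiplicative.toAdd]
        simp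
      have hle : Subgroup.zpowers (DihedralGroup.r j) ≤ φ.range := by
        rw [Subgroup.zpowers_le]
        exact ⟨Multiplicative.ofAdd j, rfl⟩
      have heq : Subgroup.zpowers (DihedralGroup.r j) = φ.range := by
        apply Subgroup.eq_of_le_of_card_ge hle
        rw [hcardR, Nat.card_zpowers, hgord]
      have hmem : DihedralGroup.r i ∈ Subgroup.zpowers (DihedralGroup.r j) := by
        rw [heq]
        exact ⟨Multiplicative.ofAdd i, rfl⟩
      exact (Subgroup.zpowers_le.mpr hg0C) hmem
    | sr j =>
      rw [DihedralGroup.orderOf_sr] at hgord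
      subst hgord
      apply orderOf_eq_prime
      · rw [pow_two, DihedralGroup.r_mul_r]
        have : i + i = 0 := by
          have h2 : (2 : ZMod 2) = 0 := rfl
          calc i + i = 2 * i := by ring
            _ = 0 := by rw [h2, zero_mul]
        rw [this]; rfl
      · intro h1
        apply hy
        rw [h1]
        exact C.one_mem

/-- Transport: in a subgroup `D` isomorphic to a dihedral group of order `≥ 4`, every element outside a
cyclic subgroup `C` of index 2 is an involution. -/
theorem orderOf_two_of_dihedral_of_not_mem {G : Type*} [Group G] (D C : Subgroup G) (n : ℕ) (hn : 2 ≤ n)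
    (e : ↥D ≃* DihedralGroup n) (hCD : C ≤ D) (hC : IsCyclic ↥C) (hCi : C.relIndex D = 2)
    (x : G) (hxD : x ∈ D) (hxC : x ∉ C) : orderOf x = 2 := by
  have hcyc1 : IsCyclic (C.subgroupOf D) :=
    isCyclic_of_surjective (Subgroup.subgroupOfEquivOfLe hCD).symm.toMonoidHom
      (Subgroup.subgroupOfEquivOfLe hCD).symm.surjective
  have hcyc2 : IsCyclic ((C.subgroupOf D).map e.toMonoidHom) :=
    isCyclic_of_surjective ((C.subgroupOf D).equivMapOfInjective e.toMonoidHom e.injective).toMonoidHom
      ((C.subgroupOf D).equivMapOfInjective e.toMonoidHom e.injective).surjective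
  have hidx : ((C.subgroupOf D).map e.toMonoidHom).index = 2 := by
    have := Subgroup.index_map_equiv (C.subgroupOf D) e
    rw [← hCi]
    exact this
  have hy : e ⟨x, hxD⟩ ∉ (C.subgroupOf D).map e.toMonoidHom := by
    rintro ⟨z, hz, hze⟩
    have : z = ⟨x, hxD⟩ := e.injective hze
    subst this
    exact hxC hz
  have h1 := dihedral_orderOf_two_of_not_mem n hn _ hidx _ hy
  rw [MulEquiv.orderOf_eq, Subgroup.orderOf_mk] at h1
  exact h1

end Cfsg.Agent.Lib.helper38
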