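import Mathlib
import Cfsg.Agent.Lib.helper38.FQ1

/-!
# S4404 (Thompson, N-groups): shared elementary facts (helper38)

`EA M`: `M` is a normal subgroup of exponent `2` (hence abelian).  For `s : S` the map
`m ↦ s m s⁻¹ m⁻¹` is a homomorphism on `M` with range `⁅zpowers s, M⁆`.
-/

set_option autoImplicit false

namespace Cfsg.Agent.Lib.helper38.FQ

variable {S : Type*} [Group S] {M Q : Subgroup S}

/-- `M` is a normal elementary abelian `2`-subgroup. -/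
structure EA (M : Subgroup S) : Prop where
  normal : M.Normal
  comm : ∀ m ∈ M, ∀ n ∈ M, m * n = n * m
  sq : ∀ m ∈ M, m * m = 1

theorem Hyp.ea (h : Hyp M Q) : EA M :=
  ⟨h.normal, fun m hm n hn => congrArg Subtype.val (h.elem.1.is_comm.comm ⟨m, hm⟩ ⟨n, hn⟩),
    fun m hm => by have := h.elem.2 m hm; rwa [pow_two] at this⟩

namespace EA

theorem conj_mem (e : EA M) {m : S} (hm : m ∈ M) (s : S) : s * m * s⁻¹ ∈ M :=
  e.normal.conj_mem m hm s

theorem inv_eq (e : EA M) {m : S} (hm : m ∈ M) : m⁻¹ = m :=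
  inv_eq_of_mul_eq_one_right (e.sq m hm)

/-- the commutator homomorphism `m ↦ s m s⁻¹ m⁻¹` on `M` -/
def beta (e : EA M) (s : S) : ↥M →* S :=
  MonoidHom.mk' (fun m => s * (m : S) * s⁻¹ * (m : S)⁻¹) (by
    intro m n
    have hc : (s * (n : S) * s⁻¹ * (n : S)⁻¹) * (m : S)⁻¹
        = (m : S)⁻¹ * (s * (n : S) * s⁻¹ * (n : S)⁻¹) :=
      e.comm _ (M.mul_mem (e.conj_mem n.2 s) (M.inv_mem n.2)) _ (M.inv_mem m.2)
    calc s * ((m * n : ↥M) : S) * s⁻¹ * ((m * n : ↥M) : S)⁻¹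
        = (s * (m : S) * s⁻¹) * ((s * (n : S) * s⁻¹ * (n : S)⁻¹) * (m : S)⁻¹) := by
          rw [Subgroup.coe_mul]; group
      _ = (s * (m : S) * s⁻¹) * ((m : S)⁻¹ * (s * (n : S) * s⁻¹ * (n : S)⁻¹)) := by rw [hc]
      _ = _ := by group)

theorem beta_apply (e : EA M) (s : S) (m : ↥M) :
    e.beta s m = s * (m : S) * s⁻¹ * (m : S)⁻¹ := rfl

theorem beta_mem (e : EA M) (s : S) (m : ↥M) : e.beta s m ∈ M :=
  M.mul_mem (e.conj_mem m.2 s) (M.inv_mem m.2)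

theorem range_le (e : EA M) (s : S) : (e.beta s).range ≤ M := by
  rintro _ ⟨m, rfl⟩; exact e.beta_mem s m

/-- the elements of `S` acting trivially on `M` modulo `U` -/
def trivOn (e : EA M) (U : Subgroup S) (hU : U ≤ M) : Subgroup S where
  carrier := {g | ∀ m ∈ M, g * m * g⁻¹ * m⁻¹ ∈ U}
  one_mem' := by intro m _; simp
  mul_mem' := by
    intro g g' hg hg' m hm
    have h1 := hg' m hm
    have h2 := hg _ (hU h1)
    have h3 := hg m hm
    have : g * g' * m * (g * g')⁻¹ * m⁻¹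
        = (g * (g' * m * g'⁻¹ * m⁻¹) * g⁻¹ * (g' * m * g'⁻¹ * m⁻¹)⁻¹) * (g' * m * g'⁻¹ * m⁻¹)
          * (g * m * g⁻¹ * m⁻¹) := by group
    rw [this]
    exact U.mul_mem (U.mul_mem h2 h1) h3
  inv_mem' := by
    intro g hg m hm
    have hm' : g⁻¹ * m * g ∈ M := by simpa using e.conj_mem hm g⁻¹
    have h1 := hg _ hm'
    have : g⁻¹ * m * g⁻¹⁻¹ * m⁻¹ = (g * (g⁻¹ * m * g) * g⁻¹ * (g⁻¹ * m * g)⁻¹)⁻¹ := by group
    rw [this]
    exact U.inv_mem h1

theorem mem_trivOn (e : EA M) (U : Subgroup S) (hU : U ≤ M) (g : S) :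
    g ∈ e.trivOn U hU ↔ ∀ m ∈ M, g * m * g⁻¹ * m⁻¹ ∈ U := Iff.rfl

/-- If `s` acts trivially on `M / U` then `⁅zpowers s, M⁆ ≤ U`. -/
theorem comm_zpowers_le (e : EA M) (s : S) (U : Subgroup S) (hU : U ≤ M)
    (hs : ∀ m ∈ M, s * m * s⁻¹ * m⁻¹ ∈ U) : ⁅Subgroup.zpowers s, M⁆ ≤ U := by
  rw [Subgroup.commutator_le]
  intro g hg m hm
  have h1 : Subgroup.zpowers s ≤ e.trivOn U hU := by
    rw [Subgroup.zpowers_le]; exact hs
  have := h1 hg m hm
  rwa [commutatorElement_def]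

theorem comm_zpowers_eq_range (e : EA M) (s : S) :
    ⁅Subgroup.zpowers s, M⁆ = (e.beta s).range := by
  apply le_antisymm
  · exact e.comm_zpowers_le s _ (e.range_le s) (fun m hm => ⟨⟨m, hm⟩, rfl⟩)
  · rintro _ ⟨m, rfl⟩
    rw [beta_apply, ← commutatorElement_def]
    exact Subgroup.commutator_mem_commutator (Subgroup.mem_zpowers s) m.2

theorem mem_comm_zpowers_iff (e : EA M) (s w : S) :
    w ∈ ⁅Subgroup.zpowers s, M⁆ ↔ ∃ m ∈ M, w = s * m * s⁻¹ * m⁻¹ := by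
  rw [e.comm_zpowers_eq_range]
  constructor
  · rintro ⟨m, rfl⟩; exact ⟨m, m.2, rfl⟩
  · rintro ⟨m, hm, rfl⟩; exact ⟨⟨m, hm⟩, rfl⟩

theorem comm_zpowers_le_M (e : EA M) (s : S) : ⁅Subgroup.zpowers s, M⁆ ≤ M := by
  rw [e.comm_zpowers_eq_range]; exact e.range_le s

/-- `s` normalizes `⁅zpowers s, M⁆`. -/
theorem conj_mem_comm_zpowers (e : EA M) (s w : S) (hw : w ∈ ⁅Subgroup.zpowers s, M⁆) :
    s * w * s⁻¹ ∈ ⁅Subgroup.zpowers s, M⁆ := by
  rw [e.mem_comm_zpowers_iff] at hw ⊢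
  obtain ⟨m, hm, rfl⟩ := hw
  exact ⟨s * m * s⁻¹, e.conj_mem hm s, by group⟩

/-- **Fixed-point-freeness**: if `s ^ n` centralizes `M` with `n` odd, then `s` has no nontrivial
fixed point on `⁅zpowers s, M⁆`. -/
theorem fpf (e : EA M) (s : S) (n : ℕ) (hn : Odd n)
    (hs : s ^ n ∈ Subgroup.centralizer (M : Set S)) (w : S)
    (hw : w ∈ ⁅Subgroup.zpowers s, M⁆) (hfix : s * w * s⁻¹ = w) : w = 1 := by
  rw [e.mem_comm_zpowers_iff] at hw
  obtain ⟨m, hm, rfl⟩ := hw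
  have hA : s * m * s⁻¹ ∈ M := e.conj_mem hm s
  have hB : s * (s * m * s⁻¹) * s⁻¹ ∈ M := e.conj_mem hA s
  -- `s² m s⁻² = m`
  have h2 : s * (s * m * s⁻¹) * s⁻¹ = m := by
    have h3 : s * (s * m * s⁻¹) * s⁻¹ * (s * m * s⁻¹)⁻¹ = s * m * s⁻¹ * m⁻¹ := by
      rw [← hfix]; group
    rw [e.inv_eq hA, e.inv_eq hm] at h3
    have h4 : s * (s * m * s⁻¹) * s⁻¹ = s * m * s⁻¹ * m * (s * m * s⁻¹) := by
      have h5 : s * (s * m * s⁻¹) * s⁻¹ * ((s * m * s⁻¹) * (s * m * s⁻¹))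
          = s * m * s⁻¹ * m * (s * m * s⁻¹) := by
        rw [← mul_assoc, h3]
      rwa [e.sq _ hA, mul_one] at h5
    rw [h4, e.comm _ hA _ hm, mul_assoc, e.sq _ hA, mul_one]
  have hc2 : Commute (s ^ 2) m := by
    rw [Commute, SemiconjBy]
    have : s ^ 2 * m = (s * (s * m * s⁻¹) * s⁻¹) * s ^ 2 := by rw [pow_two]; group
    rw [this, h2]
  have hcn : Commute (s ^ n) m := by
    rw [Commute, SemiconjBy]
    exact (Subgroup.mem_centralizer_iff.mp hs m hm).symm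
  obtain ⟨k, rfl⟩ := hn
  have hck : Commute (s ^ (2 * k)) m := by rw [pow_mul]; exact hc2.pow_left k
  have hcs : Commute s m := by
    have h5 : s = (s ^ (2 * k))⁻¹ * s ^ (2 * k + 1) := by rw [pow_succ]; group
    rw [h5]
    exact hck.inv_left.mul_left hcn
  have : s * m * s⁻¹ = m := by rw [hcs.eq]; group
  rw [this, mul_inv_cancel]

/-- **Decomposition**: if `s ^ n` centralizes `M` with `n` odd, then `M = C_M(s) ⁅zpowers s, M⁆`. -/
theorem decomp [Finite S] (e : EA M) (s : S) (n : ℕ) (hn : Odd n)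
    (hs : s ^ n ∈ Subgroup.centralizer (M : Set S)) (m : S) (hm : m ∈ M) :
    ∃ a ∈ M, s * a * s⁻¹ = a ∧ ∃ b ∈ ⁅Subgroup.zpowers s, M⁆, m = a * b := by
  have hker : ∀ v : ↥M, e.beta s v = 1 → s * (v : S) * s⁻¹ = v := by
    intro v hv
    rw [beta_apply] at hv
    exact mul_inv_eq_one.mp hv
  let φ : ↥(e.beta s).range → ↥(e.beta s).range := fun v =>
    ⟨e.beta s ⟨v, e.range_le s v.2⟩, ⟨_, rfl⟩⟩
  have hinj : Function.Injective φ := by
    intro v v' hvv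
    have h1 : e.beta s ⟨v, e.range_le s v.2⟩ = e.beta s ⟨v', e.range_le s v'.2⟩ :=
      congrArg Subtype.val hvv
    have h2 : e.beta s (⟨v, e.range_le s v.2⟩ * ⟨v', e.range_le s v'.2⟩⁻¹) = 1 := by
      rw [map_mul, map_inv, h1, mul_inv_cancel]
    have h3 := hker _ h2
    have h4 : ((v : S) * (v' : S)⁻¹) = 1 := by
      apply e.fpf s n hn hs
      · rw [e.comm_zpowers_eq_range]
        exact Subgroup.mul_mem _ v.2 (Subgroup.inv_mem _ v'.2)
      · exact h3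
    exact Subtype.ext (mul_inv_eq_one.mp h4)
  have hsurj : Function.Surjective φ := Finite.surjective_of_injective hinj
  obtain ⟨v, hv⟩ := hsurj ⟨e.beta s ⟨m, hm⟩, ⟨_, rfl⟩⟩
  have h1 : e.beta s ⟨v, e.range_le s v.2⟩ = e.beta s ⟨m, hm⟩ := congrArg Subtype.val hv
  have h2 : e.beta s (⟨m, hm⟩ * ⟨v, e.range_le s v.2⟩⁻¹) = 1 := by
    rw [map_mul, map_inv, h1, mul_inv_cancel]
  refine ⟨m * (v : S)⁻¹, M.mul_mem hm (M.inv_mem (e.range_le s v.2)), hker _ h2, v, ?_, by group⟩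
  rw [e.comm_zpowers_eq_range]
  exact v.2

/-- **Stability**: an element of odd order `n` centralizing `U ≤ M` and acting trivially on
`M / U` centralizes `M`. -/
theorem stab (e : EA M) (g : S) (n : ℕ) (hn : Odd n) (hgn : g ^ n = 1) (U : Subgroup S)
    (hU : U ≤ M) (h1 : ∀ u ∈ U, g * u * g⁻¹ = u) (h2 : ∀ m ∈ M, g * m * g⁻¹ * m⁻¹ ∈ U) :
    g ∈ Subgroup.centralizer (M : Set S) := by
  rw [Subgroup.mem_centralizer_iff]
  intro m hm
  set u := g * m * g⁻¹ * m⁻¹ with hu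
  have huU : u ∈ U := h2 m hm
  have key : ∀ k : ℕ, g ^ k * m * (g ^ k)⁻¹ = u ^ k * m := by
    intro k
    induction k with
    | zero => simp
    | succ k ih =>
      have hfix : g * u ^ k * g⁻¹ = u ^ k := by
        have := h1 (u ^ k) (U.pow_mem huU k)
        exact this
      calc g ^ (k + 1) * m * (g ^ (k + 1))⁻¹ = g * (g ^ k * m * (g ^ k)⁻¹) * g⁻¹ := by
            rw [pow_succ']; group
        _ = g * (u ^ k * m) * g⁻¹ := by rw [ih]
        _ = (g * u ^ k * g⁻¹) * (g * m * g⁻¹ * m⁻¹) * m := by group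
        _ = u ^ k * u * m := by rw [hfix]
        _ = u ^ (k + 1) * m := by rw [pow_succ]
  have h3 := key n
  rw [hgn] at h3
  have h4 : u ^ n = 1 := by
    have : m = u ^ n * m := by simpa using h3
    exact (mul_eq_right (a := u ^ n) (b := m)).mp this.symm
  have hu2 : u ^ 2 = 1 := by rw [pow_two]; exact e.sq u (hU huU)
  have hu1 : u = 1 := by
    obtain ⟨k, rfl⟩ := hn
    rw [pow_succ, pow_mul, hu2, one_pow, one_mul] at h4
    exact h4
  have : g * m * g⁻¹ = m := by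
    have h5 : g * m * g⁻¹ = u * m := by rw [hu]; group
    rw [h5, hu1, one_mul]
  calc m * g = (g * m * g⁻¹) * g := by rw [this]
    _ = g * m := by group

/-- Elements acting in the same way on `M` have the same commutator subgroup with `M`. -/
theorem comm_zpowers_congr (e : EA M) (s s' : S)
    (hss : ∀ m ∈ M, s * m * s⁻¹ = s' * m * s'⁻¹) :
    ⁅Subgroup.zpowers s, M⁆ = ⁅Subgroup.zpowers s', M⁆ := by
  ext w
  rw [e.mem_comm_zpowers_iff, e.mem_comm_zpowers_iff]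
  constructor
  · rintro ⟨m, hm, rfl⟩; exact ⟨m, hm, by rw [hss m hm]⟩
  · rintro ⟨m, hm, rfl⟩; exact ⟨m, hm, by rw [hss m hm]⟩

theorem comm_zpowers_mul_centralizer (e : EA M) (s c : S)
    (hc : c ∈ Subgroup.centralizer (M : Set S)) :
    ⁅Subgroup.zpowers (s * c), M⁆ = ⁅Subgroup.zpowers s, M⁆ := by
  apply e.comm_zpowers_congr
  intro m hm
  have h1 : c * m * c⁻¹ = m := by
    have := Subgroup.mem_centralizer_iff.mp hc m hm
    rw [← this]; group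
  calc s * c * m * (s * c)⁻¹ = s * (c * m * c⁻¹) * s⁻¹ := by group
    _ = s * m * s⁻¹ := by rw [h1]

theorem comm_zpowers_pow_le (s : S) (j : ℕ) (M : Subgroup S) :
    ⁅Subgroup.zpowers (s ^ j), M⁆ ≤ ⁅Subgroup.zpowers s, M⁆ :=
  Subgroup.commutator_mono
    (by rw [Subgroup.zpowers_le]; exact Subgroup.pow_mem _ (Subgroup.mem_zpowers s) j) le_rfl

theorem map_conj_self (e : EA M) (g : S) : M.map (MulAut.conj g).toMonoidHom = M := by
  ext w
  constructor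
  · rintro ⟨m, hm, rfl⟩
    exact e.conj_mem hm g
  · intro hw
    refine ⟨g⁻¹ * w * g, by simpa using e.conj_mem hw g⁻¹, ?_⟩
    simp [mul_assoc]

/-- `g ⁅H, M⁆ g⁻¹ = ⁅g H g⁻¹, M⁆`. -/
theorem map_conj_comm (e : EA M) (H : Subgroup S) (g : S) :
    (⁅H, M⁆).map (MulAut.conj g).toMonoidHom = ⁅H.map (MulAut.conj g).toMonoidHom, M⁆ := by
  rw [Subgroup.map_commutator, e.map_conj_self]

theorem map_conj_zpowers (s g : S) :
    (Subgroup.zpowers s).map (MulAut.conj g).toMonoidHom = Subgroup.zpowers (g * s * g⁻¹) := by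
  rw [MonoidHom.map_zpowers]; rfl

end EA

/-! ### Facts about `Hyp` -/

theorem Hyp.exists_gen (h : Hyp M Q) : ∃ x : S, Subgroup.zpowers x = Q := by
  have := h.cyc
  obtain ⟨g, hg⟩ := IsCyclic.exists_generator (α := ↥Q)
  refine ⟨g, ?_⟩
  have h1 : Subgroup.zpowers g = ⊤ := by
    rw [Subgroup.eq_top_iff']; exact hg
  have h2 := congrArg (Subgroup.map Q.subtype) h1
  rw [MonoidHom.map_zpowers, ← MonoidHom.range_eq_map, Subgroup.range_subtype] at h2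
  exact h2

theorem Hyp.W_le (h : Hyp M Q) : ⁅Q, M⁆ ≤ M := by
  have := h.normal
  exact Subgroup.commutator_le_right Q M

/-- The conjugate configuration. -/
theorem Hyp.conj (h : Hyp M Q) (g : S) : Hyp M (Q.map (MulAut.conj g).toMonoidHom) := by
  refine ⟨h.normal, h.elem, ?_, h.three.map _, ?_, ?_⟩
  · have := h.cyc
    have e := Q.equivMapOfInjective (MulAut.conj g).toMonoidHom (MulAut.conj g).injective
    exact isCyclic_of_surjective e e.surjective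
  · rintro _ ⟨x, hx, rfl⟩
    have h1 := h.cube x hx
    rw [Subgroup.mem_centralizer_iff] at h1 ⊢
    intro m hm
    have hm' : g⁻¹ * m * g ∈ M := by simpa using h.ea.conj_mem hm g⁻¹
    have h2 := h1 _ hm'
    have h3 : (MulAut.conj g).toMonoidHom x ^ 3 = g * x ^ 3 * g⁻¹ := by
      rw [← map_pow]; rfl
    rw [h3]
    calc m * (g * x ^ 3 * g⁻¹) = g * ((g⁻¹ * m * g) * x ^ 3) * g⁻¹ := by group
      _ = g * (x ^ 3 * (g⁻¹ * m * g)) * g⁻¹ := by rw [h2]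
      _ = g * x ^ 3 * g⁻¹ * m := by group
  · rw [← h.ea.map_conj_comm, Subgroup.card_map_of_injective (MulAut.conj g).injective]
    exact h.card

section Gen

variable (h : Hyp M Q) {x : S} (hx : Subgroup.zpowers x = Q)
include h hx

theorem Hyp.x_mem : x ∈ Q := by
  have := h.normal
  rw [← hx]; exact Subgroup.mem_zpowers x

theorem Hyp.x_cube : x ^ 3 ∈ Subgroup.centralizer (M : Set S) := h.cube x (h.x_mem hx)

/-- `x` has no nontrivial fixed point on `W = ⁅Q, M⁆`. -/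
theorem Hyp.fpf (w : S) (hw : w ∈ ⁅Q, M⁆) (hfix : x * w * x⁻¹ = w) : w = 1 := by
  subst hx
  exact h.ea.fpf x 3 (by decide) (h.x_cube rfl) w hw hfix

/-- `x` normalizes `W`. -/
theorem Hyp.conj_mem_W (w : S) (hw : w ∈ ⁅Q, M⁆) : x * w * x⁻¹ ∈ ⁅Q, M⁆ := by
  subst hx
  exact h.ea.conj_mem_comm_zpowers x w hw

omit hx in
theorem Hyp.W_ne_bot : (⁅Q, M⁆ : Subgroup S) ≠ ⊥ := by
  intro h0
  have := h.card
  rw [h0, Subgroup.card_bot] at this
  omega

/-- An `x`-invariant subgroup of `W` is trivial or `W`. -/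
theorem Hyp.invariant_sub [Finite S] (N : Subgroup S) (hN : N ≤ ⁅Q, M⁆)
    (hinv : ∀ n ∈ N, x * n * x⁻¹ ∈ N) : N = ⊥ ∨ N = ⁅Q, M⁆ := by
  have hdvd : Nat.card ↥N ∣ 4 := by
    rw [← h.card]; exact Subgroup.card_dvd_of_le hN
  have hle : Nat.card ↥N ≤ 4 := Nat.le_of_dvd (by norm_num) hdvd
  have hpos : 0 < Nat.card ↥N := Nat.card_pos
  interval_cases hc : Nat.card ↥N
  · left; exact Subgroup.card_eq_one.mp hc
  · exfalso
    obtain ⟨b, hb1, hb2⟩ := (Nat.card_eq_two_iff' (1 : ↥N)).mp hc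
    have h1 : (b : S) ≠ 1 := fun h0 => hb1 (Subtype.ext h0)
    have h2 : x * (b : S) * x⁻¹ ≠ 1 := by
      intro h0
      apply h1
      have : (b : S) = x⁻¹ * (x * (b : S) * x⁻¹) * x := by group
      rw [this, h0]; group
    have h3 : (⟨x * (b : S) * x⁻¹, hinv b b.2⟩ : ↥N) = b :=
      hb2 _ (fun h0 => h2 (congrArg Subtype.val h0))
    exact h1 (h.fpf hx b (hN b.2) (congrArg Subtype.val h3))
  · omega
  · right
    exact Subgroup.eq_of_le_of_card_ge hN (by rw [h.card, hc])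

/-- **Dichotomy**: if `M = N₁ N₂` with `N₁, N₂` invariant under `Q`, then `W ≤ N₁` or `W ≤ N₂`. -/
theorem Hyp.dichotomy [Finite S] (N₁ N₂ : Subgroup S) (h1 : N₁ ≤ M) (h2 : N₂ ≤ M)
    (hM : ∀ m ∈ M, ∃ a ∈ N₁, ∃ b ∈ N₂, m = a * b)
    (hi1 : ∀ y ∈ Q, ∀ n ∈ N₁, y * n * y⁻¹ ∈ N₁) (hi2 : ∀ y ∈ Q, ∀ n ∈ N₂, y * n * y⁻¹ ∈ N₂) :
    ⁅Q, M⁆ ≤ N₁ ∨ ⁅Q, M⁆ ≤ N₂ := by
  have aux : ∀ N : Subgroup S, N ≤ M → (∀ y ∈ Q, ∀ n ∈ N, y * n * y⁻¹ ∈ N) →
      ⁅Q, N⁆ ≤ N ∧ (⁅Q, N⁆ = ⊥ ∨ ⁅Q, N⁆ = ⁅Q, M⁆) := by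
    intro N hNM hi
    have hle : ⁅Q, N⁆ ≤ N := by
      rw [Subgroup.commutator_le]
      intro y hy n hn
      rw [commutatorElement_def]
      exact N.mul_mem (hi y hy n hn) (N.inv_mem hn)
    refine ⟨hle, h.invariant_sub hx _ (Subgroup.commutator_mono le_rfl hNM) ?_⟩
    intro n hn
    have h3 : (⁅Q, N⁆).map (MulAut.conj x).toMonoidHom ≤ ⁅Q, N⁆ := by
      rw [Subgroup.map_commutator]
      apply Subgroup.commutator_mono
      · rintro _ ⟨q, hq, rfl⟩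
        exact Q.mul_mem (Q.mul_mem (h.x_mem hx) hq) (Q.inv_mem (h.x_mem hx))
      · rintro _ ⟨n, hn, rfl⟩
        exact hi x (h.x_mem hx) n hn
    exact h3 ⟨n, hn, rfl⟩
  obtain ⟨hle1, hc1⟩ := aux N₁ h1 hi1
  obtain ⟨hle2, hc2⟩ := aux N₂ h2 hi2
  rcases hc1 with hc1 | hc1
  · rcases hc2 with hc2 | hc2
    · exfalso
      apply h.W_ne_bot
      rw [Subgroup.commutator_eq_bot_iff_le_centralizer] at hc1 hc2 ⊢
      intro y hy
      rw [Subgroup.mem_centralizer_iff]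
      intro m hm
      obtain ⟨a, ha, b, hb, rfl⟩ := hM m hm
      have ha' := Subgroup.mem_centralizer_iff.mp (hc1 hy) a ha
      have hb' := Subgroup.mem_centralizer_iff.mp (hc2 hy) b hb
      rw [mul_assoc, hb', ← mul_assoc, ha', mul_assoc]
    · right; rw [← hc2]; exact hle2
  · left; rw [← hc1]; exact hle1

end Gen

/-! ### Non-cyclicity -/

theorem not_isCyclic_of_sq_le [Finite S] {r : ℕ} (hr : r.Prime) (A : Subgroup S)
    (hexp : ∀ a ∈ A, a ^ r = 1) (hcard : r ^ 2 ≤ Nat.card ↥A) : ¬ IsCyclic ↥A := by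
  intro hc
  obtain ⟨g, hg⟩ := IsCyclic.exists_generator (α := ↥A)
  have h1 : orderOf g = Nat.card ↥A := orderOf_eq_card_of_forall_mem_zpowers hg
  have h2 : g ^ r = 1 := Subtype.ext (by simpa using hexp g g.2)
  have h3 : orderOf g ∣ r := orderOf_dvd_of_pow_eq_one h2
  have h4 : Nat.card ↥A ≤ r := by rw [← h1]; exact Nat.le_of_dvd hr.pos h3
  have h5 : r < r ^ 2 := by
    have := hr.one_lt
    nlinarith
  omega

/-- A subgroup `K ≤ F ⊓ C(W)` of order at least `r²` witnesses `Good`. -/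
theorem good_of_card [Finite S] {r : ℕ} (hr : r.Prime) (hr2 : r ≠ 2) (F : Subgroup S)
    (hF : Cfsg.IsElementaryAbelian r F) (hF3 : Nat.card ↥F = r ^ 3) (K : Subgroup S)
    (hKF : K ≤ F) (hKC : K ≤ Subgroup.centralizer ((⁅Q, M⁆ : Subgroup S) : Set S))
    (hK : r ^ 2 ≤ Nat.card ↥K) : Good M Q := by
  refine ⟨r, F, hr, hr2, hF, hF3, ?_⟩
  apply not_isCyclic_of_sq_le hr
  · intro a ha; exact hF.2 a ha.1
  · exact hK.trans (Subgroup.card_le_of_le (le_inf hKF hKC))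

end Cfsg.Agent.Lib.helper38.FQ
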