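import Mathlib

set_option autoImplicit false

namespace Cfsg.Agent.Lib.helper38.G3

open Matrix

/-- Division-free adjugate formula for 3×3 matrices (Cayley–Hamilton). -/
theorem adj3 {R : Type*} [CommRing R] (A : Matrix (Fin 3) (Fin 3) R) :
    (2 : R) • A.adjugate =
      (2 : R) • (A * A) - (2 * A.trace) • A
        + (A.trace ^ 2 - (A * A).trace) • (1 : Matrix (Fin 3) (Fin 3) R) := by
  ext i j
  fin_cases i <;> fin_cases j <;>
    simp [Matrix.adjugate_fin_three, Matrix.mul_apply, Fin.sum_univ_three, Matrix.trace,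
      Matrix.one_apply] <;> ring

end Cfsg.Agent.Lib.helper38.G3
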