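import Mathlib
import Cfsg.Agent.Lib.helper38.G3ADJ

set_option autoImplicit false

namespace Cfsg.Agent.Lib.helper38.G3

open Matrix

/-- All `2 × 2` minors of a `3 × 3` matrix with vanishing adjugate vanish. -/
theorem minors_of_adj {F : Type*} [Field F] (P : Matrix (Fin 3) (Fin 3) F)
    (hadj : P.adjugate = 0) : ∀ i l k j : Fin 3, P i k * P l j = P i j * P l k := by
  have e := hadj
  rw [Matrix.adjugate_fin_three] at e
  have e00 := congrFun (congrFun e 0) 0
  have e01 := congrFun (congrFun e 0) 1
  have e02 := congrFun (congrFun e 0) 2
  have e10 := congrFun (congrFun e 1) 0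
  have e11 := congrFun (congrFun e 1) 1
  have e12 := congrFun (congrFun e 1) 2
  have e20 := congrFun (congrFun e 2) 0
  have e21 := congrFun (congrFun e 2) 1
  have e22 := congrFun (congrFun e 2) 2
  simp at e00 e01 e02 e10 e11 e12 e20 e21 e22
  intro i l k j
  fin_cases i <;> fin_cases l <;> fin_cases k <;> fin_cases j <;> simp <;>
    first
      | ring1
      | linear_combination e00 | linear_combination -e00
      | linear_combination e01 | linear_combination -e01
      | linear_combination e02 | linear_combination -e02
      | linear_combination e10 | linear_combination -e10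
      | linear_combination e11 | linear_combination -e11
      | linear_combination e12 | linear_combination -e12
      | linear_combination e20 | linear_combination -e20
      | linear_combination e21 | linear_combination -e21
      | linear_combination e22 | linear_combination -e22

/-- An idempotent of trace 1 has rank one. -/
theorem rank_one {F : Type*} [Field F] (h2 : (2 : F) ≠ 0) (P : Matrix (Fin 3) (Fin 3) F)
    (hP : P * P = P) (ht : P.trace = 1) (A : Matrix (Fin 3) (Fin 3) F) :
    P * A * P = (A * P).trace • P := by
  have h3 := adj3 P
  rw [hP, ht] at h3
  have hadj : P.adjugate = 0 := by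
    have h4 : (2 : F) • P.adjugate = 0 := by
      rw [h3]
      ext i j
      simp
    rcases smul_eq_zero.mp h4 with h | h
    · exact absurd h h2
    · exact h
  have hm := minors_of_adj P hadj
  ext i j
  simp only [Matrix.mul_apply, Matrix.trace, Matrix.diag, Matrix.smul_apply, smul_eq_mul,
    Finset.sum_mul]
  rw [Finset.sum_comm]
  refine Finset.sum_congr rfl (fun k _ => Finset.sum_congr rfl (fun l _ => ?_))
  have h5 := hm i l k j
  linear_combination (A k l) * h5

end Cfsg.Agent.Lib.helper38.G3
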