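import Mathlib
import Cfsg.Agent.Lib.helper38.G3ADJ

set_option autoImplicit false

namespace Cfsg.Agent.Lib.helper38.G3

open Matrix

/-- A non-identity involution of determinant 1 has trace -1. -/
theorem inv_trace {F : Type*} [Field F] (h2 : (2 : F) ≠ 0) (c : Matrix (Fin 3) (Fin 3) F)
    (hc : c * c = 1) (hd : c.det = 1) (hn : c ≠ 1) : c.trace = -1 := by
  have hadj : c.adjugate = c := by
    calc c.adjugate = c.adjugate * (c * c) := by rw [hc, mul_one]
      _ = (c.adjugate * c) * c := by rw [mul_assoc]
      _ = c := by rw [Matrix.adjugate_mul, hd, one_smul, one_mul]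
  have h3 := adj3 c
  rw [hadj, hc, Matrix.trace_one, Fintype.card_fin] at h3
  by_contra ht
  have ht' : c.trace + 1 ≠ 0 := fun h => ht (by linear_combination h)
  have h4 : ∀ i j, (2 * (c.trace + 1)) * c i j
      = (c.trace - 1) * (c.trace + 1) * (1 : Matrix (Fin 3) (Fin 3) F) i j := by
    intro i j
    have h5 := congrFun (congrFun h3 i) j
    simp only [Matrix.smul_apply, Matrix.add_apply, Matrix.sub_apply, smul_eq_mul] at h5
    push_cast at h5
    linear_combination h5
  have h6 : c = ((c.trace - 1) / 2) • (1 : Matrix (Fin 3) (Fin 3) F) := by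
    ext i j
    rw [Matrix.smul_apply, smul_eq_mul]
    have h7 := h4 i j
    field_simp
    have h8 : (2 * (c.trace + 1)) * (c i j * 2)
        = (2 * (c.trace + 1)) * ((c.trace - 1) * (1 : Matrix (Fin 3) (Fin 3) F) i j) := by
      linear_combination 2 * h7
    exact mul_left_cancel₀ (mul_ne_zero h2 ht') h8
  set κ : F := (c.trace - 1) / 2 with hκ
  have hk2 : κ * κ = 1 := by
    have h7 := congrFun (congrFun hc 0) 0
    rw [h6] at h7
    simpa [Matrix.mul_apply, Fin.sum_univ_three, Matrix.one_apply] using h7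
  have hk3 : κ ^ 3 = 1 := by
    have h7 := hd
    rw [h6, Matrix.det_smul, Matrix.det_one, Fintype.card_fin, mul_one] at h7
    exact h7
  have hk1 : κ = 1 := by
    have : κ ^ 3 = κ * (κ * κ) := by ring
    rw [this, hk2, mul_one] at hk3
    exact hk3
  apply hn
  rw [h6, hk1, one_smul]

end Cfsg.Agent.Lib.helper38.G3
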