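import Mathlib
import Cfsg.Agent.Lib.helper66.ConjRep

set_option autoImplicit false

namespace Cfsg.Agent.Lib.helper38.HHB

open Module Polynomial

section Alg

variable {K : Type*} [Field K] {U : Type*} [AddCommGroup U] [Module K U]

/-- `(A - 1)^(p^k) = A^(p^k) - 1` in characteristic `p`. -/
theorem sub_one_pow_char_pow (p : ℕ) [Fact p.Prime] [CharP K p] (A : Module.End K U) (k : ℕ) :
    (A - 1) ^ (p ^ k) = A ^ (p ^ k) - 1 := by
  have h : ((X : K[X]) - 1) ^ (p ^ k) = X ^ (p ^ k) - 1 := by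
    rw [sub_pow_char_pow, one_pow]
  have h2 := congrArg (Polynomial.aeval A) h
  simpa using h2

/-- `(A - 1)^(p^k - 1) = ∑_{i < p^k} A^i` in characteristic `p`. -/
theorem sub_one_pow_pred (p : ℕ) [Fact p.Prime] [CharP K p] (A : Module.End K U) (k : ℕ) :
    (A - 1) ^ (p ^ k - 1) = ∑ i ∈ Finset.range (p ^ k), A ^ i := by
  have hpos : 0 < p ^ k := pow_pos (Fact.out : p.Prime).pos k
  have h : ((X : K[X]) - 1) ^ (p ^ k - 1) = ∑ i ∈ Finset.range (p ^ k), X ^ i := by
    have hne : (X : K[X]) - 1 ≠ 0 := X_sub_C_ne_zero (1 : K)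
    have h1 : ((X : K[X]) - 1) * (X - 1) ^ (p ^ k - 1)
        = (X - 1) * ∑ i ∈ Finset.range (p ^ k), X ^ i := by
      rw [mul_geom_sum, ← pow_succ', Nat.sub_add_cancel hpos, sub_pow_char_pow, one_pow]
    exact mul_left_cancel₀ hne h1
  have h2 := congrArg (Polynomial.aeval A) h
  simpa using h2

/-- `(A - c)^(p^k) = A^(p^k) - c^(p^k)`. -/
theorem sub_smul_pow_char_pow (p : ℕ) [Fact p.Prime] [CharP K p] (A : Module.End K U) (c : K)
    (k : ℕ) : (A - c • (1 : Module.End K U)) ^ (p ^ k) = A ^ (p ^ k) - (c ^ (p ^ k)) • 1 := by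
  have h : ((X : K[X]) - C c) ^ (p ^ k) = X ^ (p ^ k) - C (c ^ (p ^ k)) := by
    rw [sub_pow_char_pow, C_pow]
  have h2 := congrArg (Polynomial.aeval A) h
  simpa [Algebra.algebraMap_eq_smul_one, _root_.smul_pow] using h2

/-- A finite-order (order prime to `p`) endomorphism with a single generalised eigenvalue is a
scalar. -/
theorem scalar_of_nilpotent_sub (p : ℕ) [Fact p.Prime] [CharP K p] (A : Module.End K U) (c : K)
    (m : ℕ) (hm : Nat.Coprime m p) (hA : A ^ m = 1) (k : ℕ)
    (hN : (A - c • (1 : Module.End K U)) ^ k = 0) : ∃ c' : K, A = c' • (1 : Module.End K U) := by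
  have hp : p.Prime := Fact.out
  rcases Nat.lt_or_ge 1 m with h1 | h1
  swap
  · rcases Nat.eq_zero_or_pos m with h0 | h0
    · subst h0
      rw [Nat.coprime_zero_left] at hm
      exact absurd hm hp.ne_one
    · have : m = 1 := by omega
      subst this
      exact ⟨1, by rw [one_smul, ← hA, pow_one]⟩
  have hk : k ≤ p ^ k := (Nat.lt_pow_self hp.one_lt).le
  have h2 : (A - c • (1 : Module.End K U)) ^ (p ^ k) = 0 := pow_eq_zero_of_le hk hN
  rw [sub_smul_pow_char_pow] at h2
  have h3 : A ^ (p ^ k) = (c ^ (p ^ k)) • (1 : Module.End K U) := sub_eq_zero.mp h2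
  have hcop : Nat.Coprime (p ^ k) m := (Nat.Coprime.pow_right k hm).symm
  obtain ⟨a, -, ha⟩ := Nat.exists_mul_mod_eq_one_of_coprime hcop h1
  have h4 : p ^ k * a = m * (p ^ k * a / m) + 1 := by
    have := Nat.div_add_mod (p ^ k * a) m
    rw [ha] at this
    exact this.symm
  refine ⟨(c ^ (p ^ k)) ^ a, ?_⟩
  have h5 : A ^ (p ^ k * a) = A := by
    rw [h4, pow_succ, pow_mul, hA, one_pow, one_mul]
  rw [← h5, pow_mul, h3, _root_.smul_pow, one_pow]

/-- An endomorphism of order prime to the characteristic that is unipotent of index 2 is trivial. -/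
theorem eq_one_of_sq_zero (A : Module.End K U) (h2 : (A - 1) * (A - 1) = 0) (m : ℕ)
    (hm : (m : K) ≠ 0) (hA : A ^ m = 1) : A = 1 := by
  have h3 := Cfsg.Agent.Lib.helper66.one_add_pow_of_mul_self_eq_zero (A - 1) h2 m
  rw [add_sub_cancel, hA] at h3
  have h4 : m • (A - 1) = 0 := by
    have h3' : (1 : Module.End K U) + 0 = 1 + m • (A - 1) := by rw [add_zero]; exact h3
    exact (add_left_cancel h3').symm
  rw [← Nat.cast_smul_eq_nsmul K] at h4
  rcases smul_eq_zero.mp h4 with h5 | h5
  · exact absurd h5 hm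
  · exact sub_eq_zero.mp h5

/-- An endomorphism acting trivially on `W` and on `U/W`, of order prime to the characteristic,
is trivial. -/
theorem eq_one_of_trivial_sub_quot (A : Module.End K U) (W : Submodule K U)
    (h1 : ∀ w ∈ W, A w = w) (h2 : ∀ v, A v - v ∈ W) (m : ℕ) (hm : (m : K) ≠ 0)
    (hA : A ^ m = 1) : A = 1 := by
  apply eq_one_of_sq_zero A _ m hm hA
  ext v
  have h3 := h1 _ (h2 v)
  simp only [Module.End.mul_apply, LinearMap.sub_apply, Module.End.one_apply, LinearMap.zero_apply]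
  rw [h3, sub_self]

/-- Nonzero vectors from an independent family have nonzero sum. -/
theorem sum_ne_zero_of_indep {ι : Type*} [Fintype ι] [Nonempty ι] (W : ι → Submodule K U)
    (h : iSupIndep W) (v : ι → U) (hv : ∀ i, v i ∈ W i) (hv0 : ∀ i, v i ≠ 0) :
    ∑ i, v i ≠ 0 := by
  intro hs
  have hli := iSupIndep.linearIndependent W h hv hv0
  rw [Fintype.linearIndependent_iff] at hli
  have h1 := hli (fun _ => (1 : K)) (by simpa using hs)
  exact one_ne_zero (h1 (Classical.arbitrary ι))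

end Alg

section Stab

variable {K : Type*} [Field K] {U : Type*} [AddCommGroup U] [Module K U]
  {G : Type*} [Group G]

/-- A subspace invariant under `Q` and under a finite-order element `x` is invariant under
`Q ⊔ ⟨x⟩`. -/
theorem inv_of_mem_sup (ρ : G →* Module.End K U) (Q : Subgroup G) (x : G) (N : ℕ)
    (hx : x ^ N = 1) (hN : 0 < N) (T : Submodule K U)
    (hQ : ∀ u ∈ Q, ∀ w ∈ T, ρ u w ∈ T) (hxT : ∀ w ∈ T, ρ x w ∈ T) :
    ∀ g ∈ Q ⊔ Subgroup.zpowers x, ∀ w ∈ T, ρ g w ∈ T := by
  have hinv : ∀ g : G, ∀ w : U, ρ g⁻¹ (ρ g w) = w := by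
    intro g w
    rw [← Module.End.mul_apply, ← map_mul, inv_mul_cancel, map_one, Module.End.one_apply]
  have hinv' : ∀ g : G, ∀ w : U, ρ g (ρ g⁻¹ w) = w := by
    intro g w
    rw [← Module.End.mul_apply, ← map_mul, mul_inv_cancel, map_one, Module.End.one_apply]
  let St : Subgroup G :=
    { carrier := {g | ∀ w, w ∈ T ↔ ρ g w ∈ T}
      mul_mem' := by
        intro a b ha hb w
        rw [map_mul, Module.End.mul_apply, ← ha, ← hb]
      one_mem' := by
        intro w
        rw [map_one, Module.End.one_apply]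
      inv_mem' := by
        intro a ha w
        have := ha (ρ a⁻¹ w)
        rw [hinv'] at this
        exact this.symm }
  have hQS : Q ≤ St := by
    intro u hu w
    refine ⟨hQ u hu w, fun h => ?_⟩
    have := hQ u⁻¹ (Q.inv_mem hu) _ h
    rwa [hinv] at this
  have hxpow : ∀ j : ℕ, ∀ w ∈ T, ρ (x ^ j) w ∈ T := by
    intro j
    induction j with
    | zero => intro w hw; simpa using hw
    | succ j ih =>
      intro w hw
      rw [pow_succ, map_mul, Module.End.mul_apply]
      exact ih _ (hxT w hw)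
  have hxS : x ∈ St := by
    intro w
    refine ⟨hxT w, fun h => ?_⟩
    have h1 := hxpow (N - 1) _ h
    rw [← Module.End.mul_apply, ← map_mul, ← pow_succ, Nat.sub_add_cancel hN, hx, map_one,
      Module.End.one_apply] at h1
    exact h1
  have hle : Q ⊔ Subgroup.zpowers x ≤ St := sup_le hQS ((Subgroup.zpowers_le).mpr hxS)
  intro g hg w hw
  exact (hle hg w).mp hw

end Stab

end Cfsg.Agent.Lib.helper38.HHB
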