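import Mathlib

set_option autoImplicit false

namespace Cfsg.Agent.Lib.helper38

/-- If `y * x = z * x * y` with `z` commuting with `x` and `y`, then `y^n * x = z^n * x * y^n`. -/
theorem pow_mul_of_central_comm {G : Type*} [Group G] (x y z : G) (hz : y * x = z * x * y)
    (hzy : z * y = y * z) (n : ℕ) : y ^ n * x = z ^ n * x * y ^ n := by
  induction n with
  | zero => simp
  | succ n ih =>
    have hzyn : y ^ n * z = z * y ^ n := ((Commute.pow_right (show Commute z y from hzy) n).eq).symm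
    calc y ^ (n + 1) * x = y ^ n * (y * x) := by rw [pow_succ, mul_assoc]
      _ = y ^ n * (z * x * y) := by rw [hz]
      _ = (y ^ n * z) * x * y := by simp only [mul_assoc]
      _ = (z * y ^ n) * x * y := by rw [hzyn]
      _ = z * (y ^ n * x) * y := by simp only [mul_assoc]
      _ = z * (z ^ n * x * y ^ n) * y := by rw [ih]
      _ = z ^ (n + 1) * x * y ^ (n + 1) := by rw [pow_succ' z, pow_succ y]; simp only [mul_assoc]

/-- Power formula in class 2: if `y * x = z * x * y` with `z` commuting with `x` and `y`, then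
`(x * y)^n = x^n * y^n * z^(n(n-1)/2)`. -/
theorem mul_pow_of_central_comm {G : Type*} [Group G] (x y z : G) (hz : y * x = z * x * y)
    (hzx : z * x = x * z) (hzy : z * y = y * z) (n : ℕ) :
    (x * y) ^ n = x ^ n * y ^ n * z ^ (n * (n - 1) / 2) := by
  induction n with
  | zero => simp
  | succ n ih =>
    have h1 := pow_mul_of_central_comm x y z hz hzy n
    have hzxn : ∀ k m : ℕ, z ^ k * x ^ m = x ^ m * z ^ k := fun k m =>
      ((Commute.pow_pow (show Commute z x from hzx) k m).eq)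
    have hzyn : ∀ k m : ℕ, z ^ k * y ^ m = y ^ m * z ^ k := fun k m =>
      ((Commute.pow_pow (show Commute z y from hzy) k m).eq)
    have hzx1 : ∀ k : ℕ, z ^ k * x = x * z ^ k := fun k => by simpa using hzxn k 1
    have hzy1 : ∀ k : ℕ, z ^ k * y = y * z ^ k := fun k => by simpa using hzyn k 1
    rw [Nat.triangle_succ, pow_succ, ih]
    calc x ^ n * y ^ n * z ^ (n * (n - 1) / 2) * (x * y)
        = x ^ n * y ^ n * (z ^ (n * (n - 1) / 2) * x) * y := by simp only [mul_assoc]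
      _ = x ^ n * y ^ n * (x * z ^ (n * (n - 1) / 2)) * y := by rw [hzx1]
      _ = x ^ n * (y ^ n * x) * (z ^ (n * (n - 1) / 2) * y) := by simp only [mul_assoc]
      _ = x ^ n * (z ^ n * x * y ^ n) * (y * z ^ (n * (n - 1) / 2)) := by rw [h1, hzy1]
      _ = x ^ n * (z ^ n * x) * (y ^ n * y) * z ^ (n * (n - 1) / 2) := by simp only [mul_assoc]
      _ = x ^ n * (x * z ^ n) * (y ^ n * y) * z ^ (n * (n - 1) / 2) := by rw [hzx1]
      _ = (x ^ n * x) * (z ^ n * (y ^ n * y)) * z ^ (n * (n - 1) / 2) := by simp only [mul_assoc]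
      _ = (x ^ n * x) * ((y ^ n * y) * z ^ n) * z ^ (n * (n - 1) / 2) := by
          rw [← pow_succ y, hzyn]
      _ = x ^ (n + 1) * y ^ (n + 1) * z ^ (n * (n - 1) / 2 + n) := by
          have e1 : x ^ n * x = x ^ (n + 1) := (pow_succ x n).symm
          have e2 : y ^ n * y = y ^ (n + 1) := (pow_succ y n).symm
          have e3 : z ^ n * z ^ (n * (n - 1) / 2) = z ^ (n * (n - 1) / 2 + n) := by
            rw [add_comm, pow_add]
          rw [e1, e2, mul_assoc (x ^ (n + 1)), mul_assoc (y ^ (n + 1)), e3, ← mul_assoc]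

/-- A `p`-element killed by an exponent prime to `p` is trivial. -/
theorem eq_one_of_pow_prime_pow_of_pow_coprime {G : Type*} [Group G] {p : ℕ} (c : G) (j m : ℕ)
    (h1 : c ^ (p ^ j) = 1) (h2 : c ^ m = 1) (hcop : m.Coprime p) : c = 1 := by
  have d1 : orderOf c ∣ p ^ j := orderOf_dvd_of_pow_eq_one h1
  have d2 : orderOf c ∣ m := orderOf_dvd_of_pow_eq_one h2
  have : orderOf c ∣ Nat.gcd m (p ^ j) := Nat.dvd_gcd d2 d1
  rw [Nat.Coprime.pow_right j hcop] at this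
  exact orderOf_eq_one_iff.mp (Nat.dvd_one.mp this)

/-- Stability: if `g` has order prime to `p`, normalizes the `p`-group `Q`, and every "commutator"
`g x g⁻¹ x⁻¹` (`x ∈ Q`) is fixed by `g`, then `g` centralizes `Q`. -/
theorem conj_eq_of_commutator_fixed {G : Type*} [Group G] {p : ℕ} (Q : Subgroup G) (hQ : IsPGroup p Q)
    (g : G) (hcop : (orderOf g).Coprime p) (hgQ : ∀ x ∈ Q, g * x * g⁻¹ ∈ Q)
    (hfix : ∀ x ∈ Q, g * (g * x * g⁻¹ * x⁻¹) * g⁻¹ = g * x * g⁻¹ * x⁻¹) :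
    ∀ x ∈ Q, g * x * g⁻¹ = x := by
  intro x hx
  obtain ⟨c, hc⟩ : ∃ c, c = g * x * g⁻¹ * x⁻¹ := ⟨_, rfl⟩
  have hcQ : c ∈ Q := by rw [hc]; exact Q.mul_mem (hgQ x hx) (Q.inv_mem hx)
  have hcfix : g * c * g⁻¹ = c := by rw [hc]; exact hfix x hx
  have hgx : g * x * g⁻¹ = c * x := by rw [hc]; group
  have hpow : ∀ k : ℕ, g ^ k * x * (g ^ k)⁻¹ = c ^ k * x := by
    intro k
    induction k with
    | zero => simp
    | succ k ih =>
      have h1 : g ^ (k + 1) * x * (g ^ (k + 1))⁻¹ = g * (g ^ k * x * (g ^ k)⁻¹) * g⁻¹ := by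
        rw [pow_succ']; group
      have h2 : g * (c ^ k * x) * g⁻¹ = (g * c * g⁻¹) ^ k * (g * x * g⁻¹) := by
        rw [conj_pow]; group
      rw [h1, ih, h2, hcfix, hgx, pow_succ, mul_assoc]
  have h4 := hpow (orderOf g)
  rw [pow_orderOf_eq_one] at h4
  have h5 : c ^ orderOf g = 1 := by
    have : c ^ orderOf g * x = x := by rw [← h4]; simp
    exact mul_eq_right.mp this
  obtain ⟨j, hj⟩ := hQ ⟨c, hcQ⟩
  have hj' : c ^ (p ^ j) = 1 := by
    have := congrArg Subtype.val hj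
    simpa using this
  have hc1 : c = 1 := eq_one_of_pow_prime_pow_of_pow_coprime c j _ hj' h5 hcop
  rw [hgx, hc1, one_mul]

/-- A closure of a set stable under conjugation by `g` is stable under conjugation by `g`. -/
theorem closure_conj_invariant {G : Type*} [Group G] (s : Set G) (g : G)
    (h : ∀ c ∈ s, g * c * g⁻¹ ∈ Subgroup.closure s) :
    ∀ y ∈ Subgroup.closure s, g * y * g⁻¹ ∈ Subgroup.closure s := by
  intro y hy
  have hle : Subgroup.closure s ≤ (Subgroup.closure s).comap (MulAut.conj g).toMonoidHom := by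
    rw [Subgroup.closure_le]
    intro c hc
    have := h c hc
    simpa [Subgroup.mem_comap, MulAut.conj_apply] using this
  have := hle hy
  simpa [Subgroup.mem_comap, MulAut.conj_apply] using this

open scoped commutatorElement in
/-- Minimal non-centralized configuration: if the `p'`-element `g` normalizes the `p`-group `Q`,
centralizes every proper `g`-invariant subgroup of `Q`, but does not centralize `Q`, then `Q` is
generated by the commutators `g x g⁻¹ x⁻¹` and has exponent `p` (resp. dividing 4 if `p = 2`). -/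
theorem exponent_of_minimal_noncentralized {G : Type*} [Group G] [Finite G] {p : ℕ} [Fact p.Prime]
    (Q : Subgroup G) (hQ : IsPGroup p Q) (g : G) (hg : g ∈ Subgroup.normalizer (Q : Set G))
    (hcop : (orderOf g).Coprime p)
    (hmin : ∀ Y : Subgroup G, Y ≤ Q → Y ≠ Q → g ∈ Subgroup.normalizer (Y : Set G) →
      ∀ y ∈ Y, g * y * g⁻¹ = y)
    (hnc : ∃ x ∈ Q, g * x * g⁻¹ ≠ x) :
    Q ≤ Subgroup.closure {c : G | ∃ x ∈ Q, c = g * x * g⁻¹ * x⁻¹} ∧
    ∀ a ∈ Q, a ^ p = 1 ∨ (p = 2 ∧ a ^ 4 = 1) := by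
  classical
  have hp : p.Prime := Fact.out
  have hgQ : ∀ x, x ∈ Q ↔ g * x * g⁻¹ ∈ Q := Subgroup.mem_normalizer_iff.mp hg
  have hgQ1 : ∀ x ∈ Q, g * x * g⁻¹ ∈ Q := fun x hx => (hgQ x).mp hx
  have hgQ2 : ∀ x ∈ Q, g⁻¹ * x * g ∈ Q := by
    intro x hx
    rw [hgQ]
    have : g * (g⁻¹ * x * g) * g⁻¹ = x := by group
    rw [this]; exact hx
  have hnorm : ∀ Y : Subgroup G, (∀ y ∈ Y, g * y * g⁻¹ ∈ Y) → (∀ y ∈ Y, g⁻¹ * y * g ∈ Y) →
      g ∈ Subgroup.normalizer (Y : Set G) := by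
    intro Y h1 h2
    rw [Subgroup.mem_normalizer_iff]
    intro y
    constructor
    · exact h1 y
    · intro hy
      have := h2 _ hy
      have e : g⁻¹ * (g * y * g⁻¹) * g = y := by group
      rw [e] at this; exact this
  obtain ⟨W, hWdef⟩ : ∃ W, W = Subgroup.closure {c : G | ∃ x ∈ Q, c = g * x * g⁻¹ * x⁻¹} := ⟨_, rfl⟩
  have hWQ : W ≤ Q := by
    rw [hWdef, Subgroup.closure_le]
    rintro c ⟨x, hx, rfl⟩
    exact Q.mul_mem (hgQ1 x hx) (Q.inv_mem hx)
  have hcW : ∀ x ∈ Q, g * x * g⁻¹ * x⁻¹ ∈ W := by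
    intro x hx; rw [hWdef]; exact Subgroup.subset_closure ⟨x, hx, rfl⟩
  have hW1 : ∀ y ∈ W, g * y * g⁻¹ ∈ W := by
    rw [hWdef]
    apply closure_conj_invariant
    rintro c ⟨x, hx, rfl⟩
    apply Subgroup.subset_closure
    exact ⟨g * x * g⁻¹, hgQ1 x hx, by group⟩
  have hW2 : ∀ y ∈ W, g⁻¹ * y * g ∈ W := by
    have h := closure_conj_invariant {c : G | ∃ x ∈ Q, c = g * x * g⁻¹ * x⁻¹} g⁻¹ (by
      rintro c ⟨x, hx, rfl⟩
      apply Subgroup.subset_closure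
      exact ⟨g⁻¹ * x * g, hgQ2 x hx, by group⟩)
    rw [hWdef]
    intro y hy
    have := h y hy
    rw [inv_inv] at this
    exact this
  have hWeq : W = Q := by
    by_contra hne
    have hcent := hmin W hWQ hne (hnorm W hW1 hW2)
    obtain ⟨x, hx, hxne⟩ := hnc
    apply hxne
    exact conj_eq_of_commutator_fixed Q hQ g hcop hgQ1 (fun x hx => hcent _ (hcW x hx)) x hx
  refine ⟨by rw [← hWdef, hWeq], ?_⟩
  -- Claim 1: proper g-invariant normal subgroups of Q are central in Q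
  have claim1 : ∀ Y : Subgroup G, Y ≤ Q → Y ≠ Q → (∀ y ∈ Y, g * y * g⁻¹ ∈ Y) →
      (∀ y ∈ Y, g⁻¹ * y * g ∈ Y) → (∀ q ∈ Q, ∀ y ∈ Y, q⁻¹ * y * q ∈ Y) →
      ∀ q ∈ Q, ∀ y ∈ Y, q * y = y * q := by
    intro Y hYQ hYne h1 h2 hYn
    have hcent := hmin Y hYQ hYne (hnorm Y h1 h2)
    have hle : Q ≤ Subgroup.centralizer (Y : Set G) := by
      rw [← hWeq, hWdef, Subgroup.closure_le]
      rintro c ⟨x, hx, rfl⟩
      rw [SetLike.mem_coe, Subgroup.mem_centralizer_iff]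
      intro y hy
      have e1 : g * (x⁻¹ * y * x) * g⁻¹ = x⁻¹ * y * x := hcent _ (hYn x hx y hy)
      have e2 : g * y * g⁻¹ = y := hcent y hy
      have e3 : g⁻¹ * (x⁻¹ * y * x) * g = x⁻¹ * y * x := by
        calc g⁻¹ * (x⁻¹ * y * x) * g = g⁻¹ * (g * (x⁻¹ * y * x) * g⁻¹) * g := by rw [e1]
          _ = x⁻¹ * y * x := by group
      have e4 : (g * x * g⁻¹ * x⁻¹) * y * (g * x * g⁻¹ * x⁻¹)⁻¹
          = g * x * (g⁻¹ * (x⁻¹ * y * x) * g) * x⁻¹ * g⁻¹ := by group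
      rw [e3] at e4
      have e5 : g * x * (x⁻¹ * y * x) * x⁻¹ * g⁻¹ = g * y * g⁻¹ := by group
      rw [e5, e2] at e4
      exact (mul_inv_eq_iff_eq_mul.mp e4).symm
    intro q hq y hy
    have := hle hq
    rw [Subgroup.mem_centralizer_iff] at this
    exact (this y hy).symm
  have hQne : Q ≠ ⊥ := by
    rintro rfl
    obtain ⟨x, hx, hxne⟩ := hnc
    rw [Subgroup.mem_bot] at hx
    apply hxne
    rw [hx]; group
  -- commutators are central in Q
  have hcomm : ∀ a ∈ Q, ∀ b ∈ Q, ∀ q ∈ Q, q * (a * b * a⁻¹ * b⁻¹) = (a * b * a⁻¹ * b⁻¹) * q := by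
    have hmapQ : ∀ h : G, (∀ x ∈ Q, h * x * h⁻¹ ∈ Q) → (∀ x ∈ Q, h⁻¹ * x * h ∈ Q) →
        ∀ y ∈ ⁅Q, Q⁆, h * y * h⁻¹ ∈ ⁅Q, Q⁆ := by
      intro h h1 h2 y hy
      have hmap : Q.map (MulAut.conj h).toMonoidHom = Q := by
        apply le_antisymm
        · rintro _ ⟨x, hx, rfl⟩
          simpa [MulAut.conj_apply] using h1 x hx
        · intro x hx
          refine ⟨h⁻¹ * x * h, h2 x hx, ?_⟩
          simp [MulAut.conj_apply]; group
      have h3 : (MulAut.conj h).toMonoidHom y ∈ (⁅Q, Q⁆).map (MulAut.conj h).toMonoidHom :=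
        Subgroup.mem_map_of_mem _ hy
      rw [Subgroup.map_commutator, hmap] at h3
      simpa [MulAut.conj_apply] using h3
    have hYQ : ⁅Q, Q⁆ ≤ Q := by
      rw [← Subgroup.map_subtype_commutator]
      exact Subgroup.map_subtype_le _
    have hYne : ⁅Q, Q⁆ ≠ Q := by
      intro heq
      have hnt : Nontrivial Q := (Subgroup.nontrivial_iff_ne_bot Q).mpr hQne
      have hnil : Group.IsNilpotent Q := hQ.isNilpotent
      have hlt : commutator Q < ⊤ := Group.IsSolvable.commutator_lt_top_of_nontrivial Q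
      apply hlt.ne
      rw [← Subgroup.map_subtype_commutator] at heq
      apply Subgroup.map_injective Q.subtype_injective
      rw [heq, ← MonoidHom.range_eq_map, Subgroup.range_subtype]
    have h1 : ∀ y ∈ ⁅Q, Q⁆, g * y * g⁻¹ ∈ ⁅Q, Q⁆ := hmapQ g hgQ1 hgQ2
    have h2 : ∀ y ∈ ⁅Q, Q⁆, g⁻¹ * y * g ∈ ⁅Q, Q⁆ := by
      intro y hy
      have := hmapQ g⁻¹ (fun x hx => by simpa using hgQ2 x hx) (fun x hx => by simpa using hgQ1 x hx) y hy
      simpa using this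
    have h3 : ∀ q ∈ Q, ∀ y ∈ ⁅Q, Q⁆, q⁻¹ * y * q ∈ ⁅Q, Q⁆ := by
      intro q hq y hy
      have := hmapQ q⁻¹ (fun x hx => Q.mul_mem (Q.mul_mem (Q.inv_mem hq) hx) (by simpa using hq))
        (fun x hx => by simpa using Q.mul_mem (Q.mul_mem hq hx) (Q.inv_mem hq)) y hy
      simpa using this
    intro a ha b hb q hq
    exact claim1 _ hYQ hYne h1 h2 h3 q hq _ (Subgroup.commutator_mem_commutator ha hb)
  -- the centre Z of Q (inside G)
  obtain ⟨Z, hZdef⟩ : ∃ Z : Subgroup G, Z = Q ⊓ Subgroup.centralizer (Q : Set G) := ⟨_, rfl⟩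
  have hZmem : ∀ w, w ∈ Z ↔ w ∈ Q ∧ ∀ q ∈ Q, q * w = w * q := by
    intro w
    rw [hZdef, Subgroup.mem_inf, Subgroup.mem_centralizer_iff]
    rfl
  have hZQ : Z ≤ Q := fun w hw => ((hZmem w).mp hw).1
  have hcommZ : ∀ a ∈ Q, ∀ b ∈ Q, a * b * a⁻¹ * b⁻¹ ∈ Z := by
    intro a ha b hb
    rw [hZmem]
    exact ⟨Q.mul_mem (Q.mul_mem (Q.mul_mem ha hb) (Q.inv_mem ha)) (Q.inv_mem hb),
      fun q hq => hcomm a ha b hb q hq⟩
  -- conjugation-invariance of Z
  have hZinv : ∀ h : G, (∀ x ∈ Q, h * x * h⁻¹ ∈ Q) → (∀ x ∈ Q, h⁻¹ * x * h ∈ Q) →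
      ∀ w ∈ Z, h * w * h⁻¹ ∈ Z := by
    intro h h1 h2 w hw
    rw [hZmem] at hw ⊢
    refine ⟨h1 w hw.1, ?_⟩
    intro q hq
    have e := hw.2 (h⁻¹ * q * h) (h2 q hq)
    calc q * (h * w * h⁻¹) = h * ((h⁻¹ * q * h) * w) * h⁻¹ := by group
      _ = h * (w * (h⁻¹ * q * h)) * h⁻¹ := by rw [e]
      _ = h * w * h⁻¹ * q := by group
  -- the power formula inside Q
  have hpowmul : ∀ x ∈ Q, ∀ y ∈ Q, ∀ n : ℕ,
      (x * y) ^ n = x ^ n * y ^ n * (y * x * y⁻¹ * x⁻¹) ^ (n * (n - 1) / 2) := by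
    intro x hx y hy n
    apply mul_pow_of_central_comm x y (y * x * y⁻¹ * x⁻¹)
    · group
    · exact (hcomm y hy x hx x hx).symm
    · exact (hcomm y hy x hx y hy).symm
  -- p-th powers are central
  have hpowZ : ∀ x ∈ Q, x ^ p ∈ Z := by
    let Y₁ : Subgroup G :=
      { carrier := {x | x ∈ Q ∧ x ^ p ∈ Z}
        mul_mem' := by
          rintro x y ⟨hx, hxp⟩ ⟨hy, hyp⟩
          refine ⟨Q.mul_mem hx hy, ?_⟩
          rw [hpowmul x hx y hy p]
          exact Z.mul_mem (Z.mul_mem hxp hyp) (Z.pow_mem (hcommZ y hy x hx) _)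
        one_mem' := ⟨Q.one_mem, by rw [one_pow]; exact Z.one_mem⟩
        inv_mem' := by
          rintro x ⟨hx, hxp⟩
          refine ⟨Q.inv_mem hx, ?_⟩
          rw [inv_pow]; exact Z.inv_mem hxp }
    have hY₁mem : ∀ x, x ∈ Y₁ ↔ x ∈ Q ∧ x ^ p ∈ Z := fun x => Iff.rfl
    intro x hx
    by_cases hY : Y₁ = Q
    · have : x ∈ Y₁ := by rw [hY]; exact hx
      exact ((hY₁mem x).mp this).2
    · have hY₁Q : Y₁ ≤ Q := fun x hx => ((hY₁mem x).mp hx).1
      have h1 : ∀ y ∈ Y₁, g * y * g⁻¹ ∈ Y₁ := by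
        intro y hy
        rw [hY₁mem] at hy ⊢
        refine ⟨hgQ1 y hy.1, ?_⟩
        rw [conj_pow]
        exact hZinv g hgQ1 hgQ2 _ hy.2
      have h2 : ∀ y ∈ Y₁, g⁻¹ * y * g ∈ Y₁ := by
        intro y hy
        rw [hY₁mem] at hy ⊢
        refine ⟨hgQ2 y hy.1, ?_⟩
        have e : (g⁻¹ * y * g) ^ p = g⁻¹ * y ^ p * g⁻¹⁻¹ := by
          rw [← conj_pow, inv_inv]
        rw [e]
        exact hZinv g⁻¹ (fun x hx => by simpa using hgQ2 x hx) (fun x hx => by simpa using hgQ1 x hx) _ hy.2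
      have h3 : ∀ q ∈ Q, ∀ y ∈ Y₁, q⁻¹ * y * q ∈ Y₁ := by
        intro q hq y hy
        rw [hY₁mem] at hy ⊢
        refine ⟨Q.mul_mem (Q.mul_mem (Q.inv_mem hq) hy.1) hq, ?_⟩
        have e : (q⁻¹ * y * q) ^ p = q⁻¹ * y ^ p * q⁻¹⁻¹ := by
          rw [← conj_pow, inv_inv]
        rw [e]
        exact hZinv q⁻¹ (fun x hx => Q.mul_mem (Q.mul_mem (Q.inv_mem hq) hx) (by simpa using hq))
          (fun x hx => by simpa using Q.mul_mem (Q.mul_mem hq hx) (Q.inv_mem hq)) _ hy.2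
      have hcl := claim1 Y₁ hY₁Q hY h1 h2 h3
      have hY₁Z : ∀ y ∈ Y₁, y ∈ Z := by
        intro y hy
        rw [hZmem]
        exact ⟨hY₁Q hy, fun q hq => hcl q hq y hy⟩
      have hdesc : ∀ j : ℕ, ∀ x ∈ Q, x ^ (p ^ j) ∈ Z → x ∈ Z := by
        intro j
        induction j with
        | zero => intro x _ h; simpa using h
        | succ j ih =>
          intro x hx h
          apply ih x hx
          apply hY₁Z
          rw [hY₁mem]
          refine ⟨Q.pow_mem hx _, ?_⟩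
          rw [← pow_mul, ← pow_succ]; exact h
      have hallZ : ∀ x ∈ Q, x ∈ Z := by
        intro x hx
        obtain ⟨j, hj⟩ := hQ ⟨x, hx⟩
        have hj' : x ^ (p ^ j) = 1 := by
          have := congrArg Subtype.val hj
          simpa using this
        apply hdesc j x hx
        rw [hj']; exact Z.one_mem
      exact hallZ _ (Q.pow_mem hx _)
  -- commutators have order dividing p
  have hzp : ∀ x ∈ Q, ∀ y ∈ Q, (y * x * y⁻¹ * x⁻¹) ^ p = 1 := by
    intro x hx y hy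
    have h1 := pow_mul_of_central_comm x y (y * x * y⁻¹ * x⁻¹) (by group)
      ((hcomm y hy x hx y hy).symm) p
    have h2 : y ^ p * x = x * y ^ p := (((hZmem _).mp (hpowZ y hy)).2 x hx).symm
    rw [h2, mul_assoc] at h1
    exact (mul_eq_right.mp h1.symm)
  -- the exponent e
  obtain ⟨e, hedef⟩ : ∃ e : ℕ, e = if p = 2 then 4 else p := ⟨_, rfl⟩
  have hpe : p ∣ e := by
    rw [hedef]
    split_ifs with h2
    · rw [h2]; norm_num
    · exact dvd_rfl
  have hdivT : p ∣ e * (e - 1) / 2 := by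
    rw [hedef]
    split_ifs with h2
    · rw [h2]; norm_num
    · rcases hp.eq_two_or_odd with h | h
      · exact absurd h h2
      · have h3 : 2 ∣ p - 1 := by omega
        rw [Nat.mul_div_assoc p h3]
        exact Dvd.intro _ rfl
  have hhom : ∀ x ∈ Q, ∀ y ∈ Q, (x * y) ^ e = x ^ e * y ^ e := by
    intro x hx y hy
    rw [hpowmul x hx y hy e]
    obtain ⟨k, hk⟩ := hdivT
    rw [hk, pow_mul, hzp x hx y hy, one_pow, mul_one]
  -- the image of the e-th power map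
  let Pw : Subgroup G :=
    { carrier := {w | w ∈ Q ∧ ∃ x ∈ Q, w = x ^ e}
      mul_mem' := by
        rintro w w' ⟨hw, x, hx, rfl⟩ ⟨hw', y, hy, rfl⟩
        exact ⟨Q.mul_mem hw hw', x * y, Q.mul_mem hx hy, (hhom x hx y hy).symm⟩
      one_mem' := ⟨Q.one_mem, 1, Q.one_mem, by rw [one_pow]⟩
      inv_mem' := by
        rintro w ⟨hw, x, hx, rfl⟩
        exact ⟨Q.inv_mem hw, x⁻¹, Q.inv_mem hx, by rw [inv_pow]⟩ }
  have hPwmem : ∀ w, w ∈ Pw ↔ w ∈ Q ∧ ∃ x ∈ Q, w = x ^ e := fun w => Iff.rfl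
  have hPwQ : Pw ≤ Q := fun w hw => ((hPwmem w).mp hw).1
  have hPwne : Pw ≠ Q := by
    intro heq
    have hsurj : ∀ w ∈ Q, ∃ x ∈ Q, w = x ^ e := by
      intro w hw
      have : w ∈ Pw := by rw [heq]; exact hw
      exact ((hPwmem w).mp this).2
    have hkill : ∀ j : ℕ, (∀ x ∈ Q, x ^ (e ^ j) = 1) → ∀ x ∈ Q, x = 1 := by
      intro j
      induction j with
      | zero => intro h x hx; simpa using h x hx
      | succ j ih =>
        intro h
        apply ih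
        intro w hw
        obtain ⟨x, hx, rfl⟩ := hsurj w hw
        rw [← pow_mul, ← pow_succ']
        exact h x hx
    obtain ⟨k, hk⟩ := (IsPGroup.iff_card).mp hQ
    have hall : ∀ x ∈ Q, x ^ (e ^ k) = 1 := by
      intro x hx
      have h1 : (⟨x, hx⟩ : Q) ^ Nat.card Q = 1 := pow_card_eq_one'
      have h2 : x ^ (p ^ k) = 1 := by
        rw [hk] at h1
        have := congrArg Subtype.val h1
        simpa using this
      obtain ⟨m, hm⟩ := pow_dvd_pow_of_dvd hpe k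
      rw [hm, pow_mul, h2, one_pow]
    apply hQne
    rw [eq_bot_iff]
    intro x hx
    rw [Subgroup.mem_bot]
    exact hkill k hall x hx
  have hPw1 : ∀ y ∈ Pw, g * y * g⁻¹ ∈ Pw := by
    rintro y ⟨hy, x, hx, rfl⟩
    exact ⟨hgQ1 _ hy, g * x * g⁻¹, hgQ1 x hx, by rw [conj_pow]⟩
  have hPw2 : ∀ y ∈ Pw, g⁻¹ * y * g ∈ Pw := by
    rintro y ⟨hy, x, hx, rfl⟩
    refine ⟨hgQ2 _ hy, g⁻¹ * x * g, hgQ2 x hx, ?_⟩
    have e1 : (g⁻¹ * x * g) ^ e = g⁻¹ * x ^ e * g⁻¹⁻¹ := by rw [← conj_pow, inv_inv]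
    rw [e1, inv_inv]
  have hPwcent := hmin Pw hPwQ hPwne (hnorm Pw hPw1 hPw2)
  -- all generators are killed by e
  let E : Subgroup G :=
    { carrier := {x | x ∈ Q ∧ x ^ e = 1}
      mul_mem' := by
        rintro x y ⟨hx, hxe⟩ ⟨hy, hye⟩
        exact ⟨Q.mul_mem hx hy, by rw [hhom x hx y hy, hxe, hye, one_mul]⟩
      one_mem' := ⟨Q.one_mem, one_pow _⟩
      inv_mem' := by
        rintro x ⟨hx, hxe⟩
        exact ⟨Q.inv_mem hx, by rw [inv_pow, hxe, inv_one]⟩ }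
  have hEmem : ∀ x, x ∈ E ↔ x ∈ Q ∧ x ^ e = 1 := fun x => Iff.rfl
  have hWE : W ≤ E := by
    rw [hWdef, Subgroup.closure_le]
    rintro c ⟨x, hx, rfl⟩
    rw [SetLike.mem_coe, hEmem]
    refine ⟨Q.mul_mem (hgQ1 x hx) (Q.inv_mem hx), ?_⟩
    rw [hhom _ (hgQ1 x hx) _ (Q.inv_mem hx), conj_pow,
      hPwcent (x ^ e) ⟨Q.pow_mem hx _, x, hx, rfl⟩, inv_pow, mul_inv_cancel]
  intro a ha
  have haE : a ∈ E := hWE (by rw [hWeq]; exact ha)
  have hae := ((hEmem a).mp haE).2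
  rw [hedef] at hae
  by_cases h2 : p = 2
  · right
    rw [if_pos h2] at hae
    exact ⟨h2, hae⟩
  · left
    rw [if_neg h2] at hae
    exact hae

end Cfsg.Agent.Lib.helper38
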