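import Mathlib
import Cfsg.Agent.Lib.helper38.MinimalCoprime

set_option autoImplicit false

namespace Cfsg.Agent.Lib.helper38.HHB

open scoped commutatorElement

section Grp

variable {G : Type*} [Group G]

/-- In a cyclic `p`-group `⟨x⟩`, `x^(p^n) = 1`, every subgroup containing a nontrivial power of
`x` contains `x^(p^(n-1))`. -/
theorem pow_mem_of_ne_one (p : ℕ) [Fact p.Prime] (x : G) (n : ℕ) (hn : 1 ≤ n)
    (hx : x ^ p ^ n = 1) (H : Subgroup G) (j : ℕ) (hgH : x ^ j ∈ H) (hg1 : x ^ j ≠ 1) :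
    x ^ p ^ (n - 1) ∈ H := by
  have hp : p.Prime := Fact.out
  have hj0 : j ≠ 0 := by
    rintro rfl
    exact hg1 (pow_zero x)
  obtain ⟨a, j', hj', rfl⟩ := Nat.exists_eq_pow_mul_and_not_dvd hj0 p hp.ne_one
  have han : a < n := by
    by_contra hcon
    push Not at hcon
    apply hg1
    obtain ⟨b, rfl⟩ := Nat.exists_eq_add_of_le hcon
    rw [pow_add, mul_assoc, pow_mul, hx, one_pow]
  have hcop : Nat.Coprime j' p := (Nat.Coprime.symm ((Nat.Prime.coprime_iff_not_dvd hp).mpr hj'))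
  obtain ⟨m, -, hm⟩ := Nat.exists_mul_mod_eq_one_of_coprime hcop hp.one_lt
  have h1 : (x ^ (p ^ a * j')) ^ (p ^ (n - 1 - a) * m) ∈ H := H.pow_mem hgH _
  have h2 : (x ^ (p ^ a * j')) ^ (p ^ (n - 1 - a) * m) = x ^ p ^ (n - 1) := by
    have e1 : p ^ a * j' * (p ^ (n - 1 - a) * m) = p ^ (n - 1) * (j' * m) := by
      have : p ^ (n - 1) = p ^ a * p ^ (n - 1 - a) := by
        rw [← pow_add]; congr 1; omega
      rw [this]; ring
    have e2 : j' * m = p * (j' * m / p) + 1 := by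
      have := Nat.div_add_mod (j' * m) p
      rw [hm] at this
      exact this.symm
    have e3 : p ^ (n - 1) * p = p ^ n := by
      rw [← pow_succ]; congr 1; omega
    rw [← pow_mul, e1, e2, mul_add, mul_one, ← mul_assoc, e3, pow_add, pow_mul, hx, one_pow,
      one_mul]
  rwa [h2] at h1

/-- Every element of `Q ⊔ ⟨x⟩ = ⊤` (with `Q` normal, `x` of finite order) is `u * x^i`. -/
theorem exists_decomp (Q : Subgroup G) [Q.Normal] (x : G) (N : ℕ) (hN : 0 < N) (hx : x ^ N = 1)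
    (hgen : Q ⊔ Subgroup.zpowers x = ⊤) (g : G) : ∃ u ∈ Q, ∃ i : ℕ, g = u * x ^ i := by
  have hg : g ∈ ((Q ⊔ Subgroup.zpowers x : Subgroup G) : Set G) := by
    rw [hgen]; exact Set.mem_univ g
  rw [Subgroup.normal_mul] at hg
  obtain ⟨u, hu, v, hv, rfl⟩ := Set.mem_mul.mp hg
  have hfin : IsOfFinOrder x := isOfFinOrder_iff_pow_eq_one.mpr ⟨N, hN, hx⟩
  have hv' : v ∈ Submonoid.powers x := hfin.mem_powers_iff_mem_zpowers.mpr hv
  obtain ⟨i, rfl⟩ := hv'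
  exact ⟨u, hu, i, rfl⟩

/-- The data of a minimal configuration. -/
structure MinData (p q : ℕ) (Q : Subgroup G) (x : G) (n : ℕ) : Prop where
  hpq : p ≠ q
  hQ : IsPGroup q Q
  hxQ : ∀ u ∈ Q, x * u * x⁻¹ ∈ Q
  hn : 1 ≤ n
  hx : x ^ p ^ n = 1
  hy : ∃ u ∈ Q, x ^ p ^ (n - 1) * u ≠ u * x ^ p ^ (n - 1)
  hmin : ∀ Y : Subgroup G, Y ≤ Q → (∀ u ∈ Y, x * u * x⁻¹ ∈ Y) → Y ≠ Q →
    ∀ u ∈ Y, x ^ p ^ (n - 1) * u = u * x ^ p ^ (n - 1)

variable {p q : ℕ} [Fact p.Prime] [Fact q.Prime] {Q : Subgroup G} {x : G} {n : ℕ}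

theorem MinData.y_pow (h : MinData p q Q x n) : (x ^ p ^ (n - 1)) ^ p = 1 := by
  rw [← pow_mul, ← pow_succ]
  have : n - 1 + 1 = n := Nat.sub_add_cancel h.hn
  rw [this, h.hx]

theorem MinData.xQ_pow (h : MinData p q Q x n) (k : ℕ) :
    ∀ u ∈ Q, x ^ k * u * (x ^ k)⁻¹ ∈ Q := by
  induction k with
  | zero => intro u hu; simpa using hu
  | succ k ih =>
    intro u hu
    have h1 := h.hxQ _ (ih u hu)
    have e : x ^ (k + 1) * u * (x ^ (k + 1))⁻¹ = x * (x ^ k * u * (x ^ k)⁻¹) * x⁻¹ := by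
      rw [pow_succ']; group
    rw [e]; exact h1

theorem MinData.yQ (h : MinData p q Q x n) : ∀ u ∈ Q, x ^ p ^ (n - 1) * u * (x ^ p ^ (n - 1))⁻¹ ∈ Q :=
  h.xQ_pow _

theorem MinData.xQ_inv (h : MinData p q Q x n) : ∀ u ∈ Q, x⁻¹ * u * x ∈ Q := by
  intro u hu
  have hp : p.Prime := Fact.out
  have hpos : 0 < p ^ n := pow_pos hp.pos n
  have h1 := h.xQ_pow (p ^ n - 1) u hu
  have e : x ^ (p ^ n - 1) = x⁻¹ := by
    apply eq_inv_of_mul_eq_one_left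
    rw [← pow_succ, Nat.sub_add_cancel hpos, h.hx]
  rw [e, inv_inv] at h1
  exact h1

theorem MinData.y_coprime (h : MinData p q Q x n) : (orderOf (x ^ p ^ (n - 1))).Coprime q := by
  have hp : p.Prime := Fact.out
  have hq : q.Prime := Fact.out
  have hd : orderOf (x ^ p ^ (n - 1)) ∣ p := orderOf_dvd_of_pow_eq_one h.y_pow
  exact Nat.Coprime.coprime_dvd_left hd ((Nat.coprime_primes hp hq).mpr h.hpq)

theorem MinData.comm_xy (h : MinData p q Q x n) : x * x ^ p ^ (n - 1) = x ^ p ^ (n - 1) * x := by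
  rw [← pow_succ', ← pow_succ]

/-- `Q = [Q, y]`. -/
theorem MinData.le_closure (h : MinData p q Q x n) :
    Q ≤ Subgroup.closure {c : G | ∃ u ∈ Q, c = x ^ p ^ (n - 1) * u * (x ^ p ^ (n - 1))⁻¹ * u⁻¹} := by
  obtain ⟨y, hy⟩ : ∃ y, y = x ^ p ^ (n - 1) := ⟨_, rfl⟩
  have hxy : x * y = y * x := by rw [hy]; exact h.comm_xy
  have hyQ : ∀ u ∈ Q, y * u * y⁻¹ ∈ Q := by rw [hy]; exact h.yQ
  rw [← hy]
  obtain ⟨S, hS⟩ : ∃ S : Set G, S = {c : G | ∃ u ∈ Q, c = y * u * y⁻¹ * u⁻¹} := ⟨_, rfl⟩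
  rw [← hS]
  have hSQ : Subgroup.closure S ≤ Q := by
    rw [Subgroup.closure_le]
    rintro c hc
    rw [hS] at hc
    obtain ⟨u, hu, rfl⟩ := hc
    exact Q.mul_mem (hyQ u hu) (Q.inv_mem hu)
  by_contra hcon
  have hne : Subgroup.closure S ≠ Q := fun e => hcon (e ▸ le_rfl)
  have hinv : ∀ c ∈ Subgroup.closure S, x * c * x⁻¹ ∈ Subgroup.closure S := by
    apply closure_conj_invariant
    intro c hc
    rw [hS] at hc
    obtain ⟨u, hu, rfl⟩ := hc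
    apply Subgroup.subset_closure
    rw [hS]
    refine ⟨x * u * x⁻¹, h.hxQ u hu, ?_⟩
    have e1 : x * y⁻¹ = y⁻¹ * x := by
      have : y⁻¹ * (x * y) * y⁻¹ = y⁻¹ * (y * x) * y⁻¹ := by rw [hxy]
      have e2 : y⁻¹ * (x * y) * y⁻¹ = y⁻¹ * x := by group
      have e3 : y⁻¹ * (y * x) * y⁻¹ = x * y⁻¹ := by group
      rw [e2, e3] at this
      exact this.symm
    calc x * (y * u * y⁻¹ * u⁻¹) * x⁻¹ = (x * y) * u * (y⁻¹ * x⁻¹) * (x * u⁻¹ * x⁻¹) := by group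
      _ = (y * x) * u * (y⁻¹ * x⁻¹) * (x * u⁻¹ * x⁻¹) := by rw [hxy]
      _ = y * (x * u) * (x * y)⁻¹ * (x * u⁻¹ * x⁻¹) := by group
      _ = y * (x * u) * (y * x)⁻¹ * (x * u⁻¹ * x⁻¹) := by rw [hxy]
      _ = y * (x * u * x⁻¹) * y⁻¹ * (x * u * x⁻¹)⁻¹ := by group
  have hcent := h.hmin (Subgroup.closure S) hSQ hinv hne
  rw [← hy] at hcent
  have hfix : ∀ u ∈ Q, y * (y * u * y⁻¹ * u⁻¹) * y⁻¹ = y * u * y⁻¹ * u⁻¹ := by
    intro u hu
    have hc : y * u * y⁻¹ * u⁻¹ ∈ Subgroup.closure S := by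
      apply Subgroup.subset_closure
      rw [hS]
      exact ⟨u, hu, rfl⟩
    rw [hcent _ hc, mul_inv_cancel_right]
  have hcop : (orderOf y).Coprime q := by rw [hy]; exact h.y_coprime
  have hall := conj_eq_of_commutator_fixed Q h.hQ y hcop hyQ hfix
  obtain ⟨u, hu, hne'⟩ := h.hy
  rw [← hy] at hne'
  apply hne'
  have := hall u hu
  calc y * u = y * u * y⁻¹ * y := by group
    _ = u * y := by rw [this]

/-- Commutators of `Q` are centralized by `y`. -/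
theorem MinData.comm_comm [Finite G] (h : MinData p q Q x n) (a b : G) (ha : a ∈ Q) (hb : b ∈ Q) :
    x ^ p ^ (n - 1) * (a * b * a⁻¹ * b⁻¹) = (a * b * a⁻¹ * b⁻¹) * x ^ p ^ (n - 1) := by
  have hle : ⁅Q, Q⁆ ≤ Q := by
    rw [Subgroup.commutator_le]
    intro g₁ h₁ g₂ h₂
    rw [commutatorElement_def]
    exact Q.mul_mem (Q.mul_mem (Q.mul_mem h₁ h₂) (Q.inv_mem h₁)) (Q.inv_mem h₂)
  have hne : ⁅Q, Q⁆ ≠ Q := by
    intro e
    have hnil : Group.IsNilpotent Q := h.hQ.isNilpotent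
    have hnt : Nontrivial Q := by
      obtain ⟨u, hu, hne'⟩ := h.hy
      refine ⟨⟨⟨u, hu⟩, 1, ?_⟩⟩
      intro e1
      have : u = 1 := congrArg Subtype.val e1
      rw [this] at hne'
      simp at hne'
    have hlt := Group.IsSolvable.commutator_lt_top_of_nontrivial Q
    have h1 : (commutator Q).map Q.subtype = (⊤ : Subgroup Q).map Q.subtype := by
      rw [Subgroup.map_subtype_commutator, e, ← MonoidHom.range_eq_map, Subgroup.range_subtype]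
    have h2 := Subgroup.map_injective Q.subtype_injective h1
    exact (ne_of_lt hlt) h2
  have hinv : ∀ c ∈ ⁅Q, Q⁆, x * c * x⁻¹ ∈ ⁅Q, Q⁆ := by
    rw [Subgroup.commutator_def]
    apply closure_conj_invariant
    rintro c ⟨g₁, h₁, g₂, h₂, rfl⟩
    apply Subgroup.subset_closure
    refine ⟨x * g₁ * x⁻¹, h.hxQ _ h₁, x * g₂ * x⁻¹, h.hxQ _ h₂, ?_⟩
    rw [commutatorElement_def, commutatorElement_def]
    group
  have hcent := h.hmin ⁅Q, Q⁆ hle hinv hne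
  apply hcent
  have : a * b * a⁻¹ * b⁻¹ = ⁅a, b⁆ := (commutatorElement_def a b).symm
  rw [this]
  exact Subgroup.commutator_mem_commutator ha hb

/-- `C_Q(y) ≤ Z(Q)`. -/
theorem MinData.cent_le_center [Finite G] (h : MinData p q Q x n) (d : G) (hd : d ∈ Q)
    (hyd : x ^ p ^ (n - 1) * d = d * x ^ p ^ (n - 1)) : ∀ u ∈ Q, d * u = u * d := by
  have hcc := h.comm_comm
  have hcl := h.le_closure
  obtain ⟨y, hy⟩ : ∃ y, y = x ^ p ^ (n - 1) := ⟨_, rfl⟩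
  rw [← hy] at hyd hcc hcl
  have hyd' : y⁻¹ * d = d * y⁻¹ := by
    have : y⁻¹ * (y * d) * y⁻¹ = y⁻¹ * (d * y) * y⁻¹ := by rw [hyd]
    have e2 : y⁻¹ * (y * d) * y⁻¹ = d * y⁻¹ := by group
    have e3 : y⁻¹ * (d * y) * y⁻¹ = y⁻¹ * d := by group
    rw [e2, e3] at this
    exact this.symm
  have key : ∀ u ∈ Q, (y * u * y⁻¹ * u⁻¹) * d = d * (y * u * y⁻¹ * u⁻¹) := by
    intro u hu
    -- e = u⁻¹ d u commutes with y
    have hc := hcc d⁻¹ u⁻¹ (Q.inv_mem hd) (Q.inv_mem hu)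
    rw [inv_inv, inv_inv] at hc
    have he : y * (u⁻¹ * d * u) = (u⁻¹ * d * u) * y := by
      have e1 : u⁻¹ * d * u = d * (d⁻¹ * u⁻¹ * d * u) := by group
      rw [e1]
      calc y * (d * (d⁻¹ * u⁻¹ * d * u)) = (y * d) * (d⁻¹ * u⁻¹ * d * u) :=
            (mul_assoc _ _ _).symm
        _ = (d * y) * (d⁻¹ * u⁻¹ * d * u) := by rw [hyd]
        _ = d * (y * (d⁻¹ * u⁻¹ * d * u)) := mul_assoc _ _ _
        _ = d * ((d⁻¹ * u⁻¹ * d * u) * y) := by rw [hc]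
        _ = d * (d⁻¹ * u⁻¹ * d * u) * y := (mul_assoc _ _ _).symm
    have he' : y⁻¹ * (u⁻¹ * d * u) = (u⁻¹ * d * u) * y⁻¹ := by
      have : y⁻¹ * (y * (u⁻¹ * d * u)) * y⁻¹ = y⁻¹ * ((u⁻¹ * d * u) * y) * y⁻¹ := by rw [he]
      have e2 : y⁻¹ * (y * (u⁻¹ * d * u)) * y⁻¹ = (u⁻¹ * d * u) * y⁻¹ := by group
      have e3 : y⁻¹ * ((u⁻¹ * d * u) * y) * y⁻¹ = y⁻¹ * (u⁻¹ * d * u) := by group
      rw [e2, e3] at this
      exact this.symm
    calc (y * u * y⁻¹ * u⁻¹) * d = y * u * (y⁻¹ * (u⁻¹ * d * u)) * u⁻¹ := by group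
      _ = y * u * ((u⁻¹ * d * u) * y⁻¹) * u⁻¹ := by rw [he']
      _ = (y * d) * u * y⁻¹ * u⁻¹ := by group
      _ = (d * y) * u * y⁻¹ * u⁻¹ := by rw [hyd]
      _ = d * (y * u * y⁻¹ * u⁻¹) := by group
  have hle : Subgroup.closure {c : G | ∃ u ∈ Q, c = y * u * y⁻¹ * u⁻¹}
      ≤ Subgroup.centralizer {d} := by
    rw [Subgroup.closure_le]
    rintro c ⟨u, hu, rfl⟩
    rw [SetLike.mem_coe, Subgroup.mem_centralizer_iff]
    intro d' hd'
    rw [Set.mem_singleton_iff] at hd'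
    subst hd'
    exact (key u hu).symm
  intro u hu
  have := hle (hcl hu)
  rw [Subgroup.mem_centralizer_iff] at this
  exact this d (Set.mem_singleton d)

/-- If `Q` is nonabelian then `Z(Q) ≤ C(y)`. -/
theorem MinData.center_le_cent (h : MinData p q Q x n) (hnab : ∃ a ∈ Q, ∃ b ∈ Q, a * b ≠ b * a)
    (z : G) (hz : z ∈ Q) (hzc : ∀ u ∈ Q, z * u = u * z) :
    x ^ p ^ (n - 1) * z = z * x ^ p ^ (n - 1) := by
  let Y : Subgroup G := Q ⊓ Subgroup.centralizer (Q : Set G)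
  have hY : ∀ g, g ∈ Y ↔ g ∈ Q ∧ ∀ u ∈ Q, u * g = g * u := by
    intro g
    rw [Subgroup.mem_inf, Subgroup.mem_centralizer_iff]
    rfl
  have hle : Y ≤ Q := inf_le_left
  have hne : Y ≠ Q := by
    intro e
    obtain ⟨a, ha, b, hb, hab⟩ := hnab
    have : b ∈ Y := by rw [e]; exact hb
    exact hab (((hY b).mp this).2 a ha)
  have hinv : ∀ u ∈ Y, x * u * x⁻¹ ∈ Y := by
    intro g hg
    obtain ⟨hgQ, hgc⟩ := (hY g).mp hg
    refine (hY _).mpr ⟨h.hxQ g hgQ, fun u hu => ?_⟩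
    have h1 := hgc _ (h.xQ_inv u hu)
    calc u * (x * g * x⁻¹) = x * ((x⁻¹ * u * x) * g) * x⁻¹ := by group
      _ = x * (g * (x⁻¹ * u * x)) * x⁻¹ := by rw [h1]
      _ = x * g * x⁻¹ * u := by group
  exact h.hmin Y hle hinv hne z ((hY z).mpr ⟨hz, fun u hu => (hzc u hu).symm⟩)

/-- Fixed-point-freeness of `x` on `Q / Z(Q)`. -/
theorem MinData.fpf [Finite G] (h : MinData p q Q x n) (hnab : ∃ a ∈ Q, ∃ b ∈ Q, a * b ≠ b * a)
    (u : G) (hu : u ∈ Q) (hcen : ∀ v ∈ Q, (x * u * x⁻¹ * u⁻¹) * v = v * (x * u * x⁻¹ * u⁻¹)) :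
    ∀ v ∈ Q, u * v = v * u := by
  have hp : p.Prime := Fact.out
  have hq : q.Prime := Fact.out
  -- the centre of Q as a subgroup of G
  let Z : Subgroup G := Q ⊓ Subgroup.centralizer (Q : Set G)
  have hZ : ∀ g, g ∈ Z ↔ g ∈ Q ∧ ∀ v ∈ Q, v * g = g * v := by
    intro g
    rw [Subgroup.mem_inf, Subgroup.mem_centralizer_iff]
    rfl
  have hZinv : ∀ g ∈ Z, x * g * x⁻¹ ∈ Z := by
    intro g hg
    obtain ⟨hgQ, hgc⟩ := (hZ g).mp hg
    refine (hZ _).mpr ⟨h.hxQ g hgQ, fun v hv => ?_⟩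
    have h1 := hgc _ (h.xQ_inv v hv)
    calc v * (x * g * x⁻¹) = x * ((x⁻¹ * v * x) * g) * x⁻¹ := by group
      _ = x * (g * (x⁻¹ * v * x)) * x⁻¹ := by rw [h1]
      _ = x * g * x⁻¹ * v := by group
  have hc1 : x * u * x⁻¹ * u⁻¹ ∈ Z :=
    (hZ _).mpr ⟨Q.mul_mem (h.hxQ u hu) (Q.inv_mem hu), fun v hv => (hcen v hv).symm⟩
  have hck : ∀ k : ℕ, x ^ k * u * (x ^ k)⁻¹ * u⁻¹ ∈ Z := by
    intro k
    induction k with
    | zero => simp
    | succ k ih =>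
      have e : x ^ (k + 1) * u * (x ^ (k + 1))⁻¹ * u⁻¹
          = (x * (x ^ k * u * (x ^ k)⁻¹ * u⁻¹) * x⁻¹) * (x * u * x⁻¹ * u⁻¹) := by
        rw [pow_succ']; group
      rw [e]
      exact Z.mul_mem (hZinv _ ih) hc1
  obtain ⟨y, hy⟩ : ∃ y, y = x ^ p ^ (n - 1) := ⟨_, rfl⟩
  have hz' := hck (p ^ (n - 1))
  rw [← hy] at hz'
  obtain ⟨z', hz'def⟩ : ∃ z', z' = y * u * y⁻¹ * u⁻¹ := ⟨_, rfl⟩
  rw [← hz'def] at hz'
  obtain ⟨hz'Q, hz'c⟩ := (hZ z').mp hz'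
  have hyz : y * z' = z' * y := by
    rw [hy]
    exact h.center_le_cent hnab z' hz'Q (fun v hv => (hz'c v hv).symm)
  have hyu : y * u = z' * u * y := by rw [hz'def]; group
  have hpow : ∀ j : ℕ, y ^ j * u = z' ^ j * u * y ^ j := by
    intro j
    induction j with
    | zero => simp
    | succ j ih =>
      have hyzj : y * z' ^ j = z' ^ j * y := by
        have : Commute y z' := hyz
        exact (this.pow_right j).eq
      calc y ^ (j + 1) * u = y * (y ^ j * u) := by rw [pow_succ']; group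
        _ = y * (z' ^ j * u * y ^ j) := by rw [ih]
        _ = (y * z' ^ j) * u * y ^ j := by group
        _ = (z' ^ j * y) * u * y ^ j := by rw [hyzj]
        _ = z' ^ j * (y * u) * y ^ j := by group
        _ = z' ^ j * (z' * u * y) * y ^ j := by rw [hyu]
        _ = z' ^ (j + 1) * u * y ^ (j + 1) := by rw [pow_succ, pow_succ']; group
  have hyp : y ^ p = 1 := by rw [hy]; exact h.y_pow
  have h1 := hpow p
  rw [hyp, one_mul, mul_one] at h1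
  have hz'p : z' ^ p = 1 := by
    have : z' ^ p * u = 1 * u := by rw [one_mul]; exact h1.symm
    exact mul_right_cancel this
  have hz'q : ∃ j, z' ^ q ^ j = 1 := by
    obtain ⟨j, hj⟩ := h.hQ ⟨z', hz'Q⟩
    refine ⟨j, ?_⟩
    have := congrArg Subtype.val hj
    simpa using this
  obtain ⟨j, hj⟩ := hz'q
  have hz'1 : z' = 1 :=
    eq_one_of_pow_prime_pow_of_pow_coprime z' j p hj hz'p ((Nat.coprime_primes hp hq).mpr h.hpq)
  have hyu' : y * u = u * y := by rw [hyu, hz'1, one_mul]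
  rw [hy] at hyu'
  exact h.cent_le_center u hu hyu'

end Grp

end Cfsg.Agent.Lib.helper38.HHB
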