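import Mathlib
import Cfsg.Agent.Lib.helper38.HHBAlg

set_option autoImplicit false

namespace Cfsg.Agent.Lib.helper38.HHB

open Module

section Wt

variable {K : Type*} [Field K] {U : Type*} [AddCommGroup U] [Module K U]
  {G : Type*} [Group G]

/-- Simultaneous generalised eigenspace of the conjugates of `z`. -/
def wt (ρ : G →* Module.End K U) (z : G) (χ : G → K) : Submodule K U :=
  ⨅ g : G, (ρ (g * z * g⁻¹)).maxGenEigenspace (χ g)

theorem mem_wt (ρ : G →* Module.End K U) (z : G) (χ : G → K) (w : U) :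
    w ∈ wt ρ z χ ↔
      ∀ g : G, ∃ k : ℕ, ((ρ (g * z * g⁻¹) - χ g • (1 : Module.End K U)) ^ k) w = 0 :=
  Module.End.mem_iInf_maxGenEigenspace_iff (fun g => ρ (g * z * g⁻¹)) χ w

theorem wt_map (ρ : G →* Module.End K U) (z : G) (χ : G → K) (g₀ : G) (w : U)
    (hw : w ∈ wt ρ z χ) : ρ g₀ w ∈ wt ρ z (fun g => χ (g₀⁻¹ * g)) := by
  rw [mem_wt] at hw ⊢
  intro j
  obtain ⟨k, hk⟩ := hw (g₀⁻¹ * j)
  refine ⟨k, ?_⟩
  have hsemi : (ρ (j * z * j⁻¹) - χ (g₀⁻¹ * j) • (1 : Module.End K U)) * ρ g₀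
      = ρ g₀ * (ρ (g₀⁻¹ * j * z * (g₀⁻¹ * j)⁻¹) - χ (g₀⁻¹ * j) • (1 : Module.End K U)) := by
    rw [sub_mul, mul_sub, ← map_mul, ← map_mul, smul_mul_assoc, mul_smul_comm, one_mul, mul_one]
    congr 2
    group
  have hpow : ∀ k : ℕ, (ρ (j * z * j⁻¹) - χ (g₀⁻¹ * j) • (1 : Module.End K U)) ^ k * ρ g₀
      = ρ g₀ * (ρ (g₀⁻¹ * j * z * (g₀⁻¹ * j)⁻¹) - χ (g₀⁻¹ * j) • (1 : Module.End K U)) ^ k := by
    intro k
    induction k with
    | zero => simp
    | succ k ih => rw [pow_succ, mul_assoc, hsemi, ← mul_assoc, ih, mul_assoc, ← pow_succ]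
  have h2 := congrArg (fun A : Module.End K U => A w) (hpow k)
  simp only [Module.End.mul_apply] at h2
  rw [h2, hk, map_zero]

theorem wt_comm (ρ : G →* Module.End K U) (z : G) (χ : G → K) (A : Module.End K U)
    (hA : ∀ g : G, A * ρ (g * z * g⁻¹) = ρ (g * z * g⁻¹) * A) (w : U) (hw : w ∈ wt ρ z χ) :
    A w ∈ wt ρ z χ := by
  rw [mem_wt] at hw ⊢
  intro j
  obtain ⟨k, hk⟩ := hw j
  refine ⟨k, ?_⟩
  have hc : Commute A (ρ (j * z * j⁻¹) - χ j • (1 : Module.End K U)) :=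
    Commute.sub_right (hA j) (Commute.smul_right (Commute.one_right A) _)
  have h1 := (hc.pow_right k).eq
  have h2 := congrArg (fun B : Module.End K U => B w) h1
  simp only [Module.End.mul_apply] at h2
  rw [← h2, hk, map_zero]

theorem wt_iSup [IsAlgClosed K] [FiniteDimensional K U] (ρ : G →* Module.End K U) (z : G)
    (hc : ∀ g h : G, Commute (ρ (g * z * g⁻¹)) (ρ (h * z * h⁻¹))) :
    ⨆ χ : G → K, wt ρ z χ = ⊤ :=
  Module.End.iSup_iInf_maxGenEigenspace_eq_top_of_iSup_maxGenEigenspace_eq_top_of_commute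
    (fun g => ρ (g * z * g⁻¹)) (fun i j _ => hc i j)
    (fun i => Module.End.iSup_maxGenEigenspace_eq_top _)

theorem wt_indep (ρ : G →* Module.End K U) (z : G)
    (hc : ∀ g h : G, Commute (ρ (g * z * g⁻¹)) (ρ (h * z * h⁻¹))) :
    iSupIndep (fun χ : G → K => wt ρ z χ) :=
  Module.End.independent_iInf_maxGenEigenspace_of_forall_mapsTo (fun g => ρ (g * z * g⁻¹))
    (fun i j φ => Module.End.mapsTo_maxGenEigenspace_of_comm (hc j i) φ)

theorem wt_disjoint (ρ : G →* Module.End K U) (z : G) {χ₁ χ₂ : G → K} (h : χ₁ ≠ χ₂) :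
    Disjoint (wt ρ z χ₁) (wt ρ z χ₂) :=
  Module.End.disjoint_iInf_maxGenEigenspace (fun g => ρ (g * z * g⁻¹)) h

theorem wt_top_scalar (p : ℕ) [Fact p.Prime] [CharP K p] [FiniteDimensional K U]
    (ρ : G →* Module.End K U) (z : G) (χ : G → K) (htop : wt ρ z χ = ⊤) (m : ℕ)
    (hm : Nat.Coprime m p) (hz : z ^ m = 1) : ∃ c : K, ρ z = c • (1 : Module.End K U) := by
  have h1 : (ρ z).maxGenEigenspace (χ 1) = ⊤ := by
    have h0 : wt ρ z χ ≤ (ρ (1 * z * 1⁻¹)).maxGenEigenspace (χ 1) := iInf_le _ 1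
    rw [htop] at h0
    have e : (1 : G) * z * 1⁻¹ = z := by group
    rw [e] at h0
    exact top_le_iff.mp h0
  rw [Module.End.maxGenEigenspace_eq_genEigenspace_finrank, Module.End.genEigenspace_nat,
    LinearMap.ker_eq_top] at h1
  exact scalar_of_nilpotent_sub p (ρ z) (χ 1) m hm (by rw [← map_pow, hz, map_one]) _ h1

end Wt

section CaseA

variable {K : Type*} [Field K] [IsAlgClosed K] {U : Type*} [AddCommGroup U] [Module K U]
  [FiniteDimensional K U] {G : Type*} [Group G]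

/-- The imprimitive case: a non-scalar element `z` all of whose conjugates commute and commute
with `Q` yields a system of imprimitivity permuted by `x`. -/
theorem caseA (p : ℕ) [Fact p.Prime] [CharP K p] [Nontrivial U] (ρ : G →* Module.End K U)
    (Q : Subgroup G) (x : G) (n : ℕ) (hx : x ^ p ^ n = 1)
    (hirr : ∀ T : Submodule K U, (∀ u ∈ Q, ∀ w ∈ T, ρ u w ∈ T) → (∀ w ∈ T, ρ x w ∈ T) →
      T = ⊥ ∨ T = ⊤)
    (z : G) (hzc : ∀ g h : G, Commute (ρ (g * z * g⁻¹)) (ρ (h * z * h⁻¹)))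
    (hzQ : ∀ u ∈ Q, ∀ g : G, ρ u * ρ (g * z * g⁻¹) = ρ (g * z * g⁻¹) * ρ u)
    (m : ℕ) (hm : Nat.Coprime m p) (hzm : z ^ m = 1)
    (hns : ¬ ∃ c : K, ρ z = c • (1 : Module.End K U)) :
    ∃ (k : ℕ) (W : Submodule K U), 1 ≤ k ∧ k ≤ n ∧ W ≠ ⊥ ∧ W ≠ ⊤ ∧
      (∀ u ∈ Q, ∀ w ∈ W, ρ u w ∈ W) ∧ (∀ w ∈ W, ρ (x ^ p ^ k) w ∈ W) ∧
      (∀ w ∈ W, w ≠ 0 → ∑ i ∈ Finset.range (p ^ k), ρ (x ^ i) w ≠ 0) ∧
      (∀ B : Module.End K U, (∀ i : ℕ, ∀ w ∈ W, B (ρ (x ^ i) w) = ρ (x ^ i) w) → B = 1) := by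
  classical
  have hp : p.Prime := Fact.out
  have hinj : ∀ g : G, Function.Injective (ρ g) := by
    intro g v w hvw
    have h1 := congrArg (ρ g⁻¹) hvw
    rwa [← Module.End.mul_apply, ← Module.End.mul_apply, ← map_mul, inv_mul_cancel, map_one,
      Module.End.one_apply, Module.End.one_apply] at h1
  -- a nonzero weight space
  obtain ⟨χ, hχ⟩ : ∃ χ : G → K, wt ρ z χ ≠ ⊥ := by
    by_contra hcon
    push Not at hcon
    have h1 := wt_iSup ρ z hzc
    simp only [hcon, iSup_bot] at h1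
    exact bot_ne_top h1
  -- shifted weights
  let χs : ℕ → (G → K) := fun i g => χ ((x ^ i)⁻¹ * g)
  have hχs0 : χs 0 = χ := by
    funext g
    simp [χs]
  have hstep : ∀ i : ℕ, ∀ w ∈ wt ρ z (χs i), ρ x w ∈ wt ρ z (χs (i + 1)) := by
    intro i w hw
    have h1 := wt_map ρ z (χs i) x w hw
    have e : (fun g => χs i (x⁻¹ * g)) = χs (i + 1) := by
      funext g
      simp only [χs]
      congr 1
      rw [pow_succ]
      group
    rwa [e] at h1
  have hpowmap : ∀ i : ℕ, ∀ w ∈ wt ρ z χ, ρ (x ^ i) w ∈ wt ρ z (χs i) := by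
    intro i w hw
    have h1 := wt_map ρ z χ (x ^ i) w hw
    exact h1
  have hpowinv : ∀ i : ℕ, ∀ v ∈ wt ρ z (χs i), ρ ((x ^ i)⁻¹) v ∈ wt ρ z χ := by
    intro i v hv
    have h1 := wt_map ρ z (χs i) ((x ^ i)⁻¹) v hv
    have e : (fun g => χs i (((x ^ i)⁻¹)⁻¹ * g)) = χ := by
      funext g
      simp only [χs]
      congr 1
      group
    rwa [e] at h1
  have hQinv : ∀ χ' : G → K, ∀ u ∈ Q, ∀ w ∈ wt ρ z χ', ρ u w ∈ wt ρ z χ' :=
    fun χ' u hu w hw => wt_comm ρ z χ' (ρ u) (hzQ u hu) w hw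
  -- the period
  have hpn : χs (p ^ n) = χ := by
    funext g
    simp [χs, hx]
  have hPex : ∃ t : ℕ, 0 < t ∧ χs t = χ := ⟨p ^ n, pow_pos hp.pos n, hpn⟩
  let t := Nat.find hPex
  have ht0 : 0 < t := (Nat.find_spec hPex).1
  have htχ : χs t = χ := (Nat.find_spec hPex).2
  have htmin : ∀ j : ℕ, 0 < j → j < t → χs j ≠ χ := by
    intro j hj hjt hcon
    exact Nat.find_min hPex hjt ⟨hj, hcon⟩
  have hadd : ∀ a b : ℕ, χs (a + b) = fun g => χs b ((x ^ a)⁻¹ * g) := by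
    intro a b
    funext g
    simp only [χs]
    congr 1
    rw [pow_add]
    group
  have hperiod : ∀ a : ℕ, χs (a + t) = χs a := by
    intro a
    rw [hadd a t, htχ]
  have hperiod' : ∀ m' a : ℕ, χs (a + t * m') = χs a := by
    intro m'
    induction m' with
    | zero => intro a; simp
    | succ m' ih =>
      intro a
      rw [Nat.mul_succ, ← add_assoc, hperiod, ih]
  have htdvd : t ∣ p ^ n := by
    rw [Nat.dvd_iff_mod_eq_zero]
    by_contra hcon
    have h1 : χs (p ^ n % t) = χ := by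
      have h2 := hperiod' (p ^ n / t) (p ^ n % t)
      rw [Nat.mod_add_div] at h2
      rw [← h2]
      exact hpn
    exact htmin _ (Nat.pos_of_ne_zero hcon) (Nat.mod_lt _ ht0) h1
  obtain ⟨k, hkn, hk⟩ := (Nat.dvd_prime_pow hp).mp htdvd
  have hχinj : ∀ i j : ℕ, i < j → j < t → χs i ≠ χs j := by
    intro i j hij hjt hcon
    apply htmin (j - i) (by omega) (by omega)
    have h1 : χs j = fun g => χs (j - i) ((x ^ i)⁻¹ * g) := by
      have := hadd i (j - i)
      rwa [Nat.add_sub_cancel' hij.le] at this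
    funext g
    have h2 := congrFun hcon (x ^ i * g)
    rw [h1] at h2
    simp only [χs] at h2 ⊢
    rw [inv_mul_cancel_left] at h2
    exact h2.symm
  have hindep : iSupIndep (fun i : Fin t => wt ρ z (χs i)) := by
    have h1 := wt_indep (K := K) ρ z hzc
    have hinj' : Function.Injective (fun i : Fin t => χs i) := by
      intro i j hij
      by_contra hne
      rcases lt_or_gt_of_ne (fun h => hne (Fin.ext h)) with h | h
      · exact hχinj i j h j.2 hij
      · exact hχinj j i h i.2 hij.symm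
    exact h1.comp hinj'
  -- the sum of the translates is everything
  have hTtop : (⨆ i : Fin t, wt ρ z (χs i)) = ⊤ := by
    have hT0 : (⨆ i : Fin t, wt ρ z (χs i)) ≠ ⊥ := by
      intro h0
      apply hχ
      have : wt ρ z (χs ((⟨0, ht0⟩ : Fin t) : ℕ)) ≤ ⨆ i : Fin t, wt ρ z (χs i) :=
        le_iSup (fun i : Fin t => wt ρ z (χs i)) ⟨0, ht0⟩
      rw [h0, hχs0] at this
      exact le_bot_iff.mp this
    have hTQ : ∀ u ∈ Q, ∀ w ∈ (⨆ i : Fin t, wt ρ z (χs i)),
        ρ u w ∈ (⨆ i : Fin t, wt ρ z (χs i)) := by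
      intro u hu w hw
      have hle : (⨆ i : Fin t, wt ρ z (χs i))
          ≤ (⨆ i : Fin t, wt ρ z (χs i)).comap (ρ u) := by
        apply iSup_le
        intro i w hw
        exact (le_iSup (fun i : Fin t => wt ρ z (χs i)) i) (hQinv _ u hu w hw)
      exact hle hw
    have hTx : ∀ w ∈ (⨆ i : Fin t, wt ρ z (χs i)),
        ρ x w ∈ (⨆ i : Fin t, wt ρ z (χs i)) := by
      intro w hw
      have hle : (⨆ i : Fin t, wt ρ z (χs i))
          ≤ (⨆ i : Fin t, wt ρ z (χs i)).comap (ρ x) := by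
        apply iSup_le
        intro i w hw
        have h1 := hstep i w hw
        rcases Nat.lt_or_ge ((i : ℕ) + 1) t with h2 | h2
        · exact (le_iSup (fun i : Fin t => wt ρ z (χs i)) ⟨(i : ℕ) + 1, h2⟩) h1
        · have h3 : (i : ℕ) + 1 = t := by have := i.2; omega
          rw [h3, htχ, ← hχs0] at h1
          exact (le_iSup (fun i : Fin t => wt ρ z (χs i)) ⟨0, ht0⟩) h1
      exact hle hw
    rcases hirr (⨆ i : Fin t, wt ρ z (χs i)) hTQ hTx with h | h
    · exact absurd h hT0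
    · exact h
  -- t ≠ 1
  have hk1 : 1 ≤ k := by
    by_contra hcon
    have hk0 : k = 0 := by omega
    have ht1 : t = 1 := by rw [hk, hk0, pow_zero]
    have hχ1 : χs 1 = χ := by rw [← ht1]; exact htχ
    have hWx : ∀ w ∈ wt ρ z χ, ρ x w ∈ wt ρ z χ := by
      intro w hw
      have h1 := hstep 0 w (by rw [hχs0]; exact hw)
      rwa [zero_add, hχ1] at h1
    have hW : wt ρ z χ = ⊤ := by
      rcases hirr (wt ρ z χ) (hQinv χ) hWx with h | h
      · exact absurd h hχ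
      · exact h
    exact hns (wt_top_scalar p ρ z χ hW m hm hzm)
  have ht2 : 1 < t := by
    rw [hk]
    exact Nat.one_lt_pow (by omega) hp.one_lt
  refine ⟨k, wt ρ z χ, hk1, hkn, hχ, ?_, hQinv χ, ?_, ?_, ?_⟩
  · -- W ≠ ⊤
    intro htop
    obtain ⟨w, hw, hw0⟩ := (Submodule.ne_bot_iff _).mp hχ
    have h1 : ρ x w ∈ wt ρ z (χs 1) := by
      have := hstep 0 w (by rw [hχs0]; exact hw)
      simpa using this
    have hdis := wt_disjoint ρ z (hχinj 0 1 Nat.zero_lt_one ht2)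
    rw [hχs0, htop] at hdis
    have h2 : wt ρ z (χs 1) = ⊥ := by
      have := hdis.symm
      rwa [disjoint_top] at this
    rw [h2, Submodule.mem_bot] at h1
    have : ρ x w = ρ x 0 := by rw [h1, map_zero]
    exact hw0 (hinj x this)
  · intro w hw
    have h1 := hpowmap t w hw
    rw [htχ] at h1
    rw [← hk]
    exact h1
  · intro w hw hw0
    rw [← hk]
    have hne : Nonempty (Fin t) := ⟨⟨0, ht0⟩⟩
    have h1 := sum_ne_zero_of_indep (fun i : Fin t => wt ρ z (χs i)) hindep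
      (fun i : Fin t => ρ (x ^ (i : ℕ)) w) (fun i => hpowmap i w hw)
      (fun i h0 => hw0 (hinj _ (by rw [h0, map_zero])))
    rw [Fin.sum_univ_eq_sum_range (fun i => ρ (x ^ i) w) t] at h1
    exact h1
  · intro B hB
    rw [← LinearMap.eqLocus_eq_top, ← top_le_iff, ← hTtop]
    apply iSup_le
    intro i v hv
    rw [LinearMap.mem_eqLocus]
    have h1 := hpowinv i v hv
    have h2 := hB i _ h1
    have h3 : ρ (x ^ (i : ℕ)) (ρ ((x ^ (i : ℕ))⁻¹) v) = v := by
      rw [← Module.End.mul_apply, ← map_mul, mul_inv_cancel, map_one, Module.End.one_apply]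
    rw [h3] at h2
    rw [h2, Module.End.one_apply]

end CaseA

end Cfsg.Agent.Lib.helper38.HHB
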