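import Mathlib
import Cfsg.Agent.Lib.helper38.HHBWeights
import Cfsg.Agent.Lib.helper38.HHBGroup
import Cfsg.Agent.Lib.helper73.DLinA

set_option autoImplicit false

namespace Cfsg.Agent.Lib.helper38.HHB

open Module Cfsg.Agent.Lib.helper73

universe uG uU uK

/-- The conclusion of Theorem B. -/
def Concl (p q : ℕ) {G : Type*} [Group G] (Q : Subgroup G) (n s : ℕ) : Prop :=
  p ^ n ≤ s ∨ ∃ n₀ m : ℕ, 1 ≤ n₀ ∧ n₀ ≤ n ∧ 1 ≤ m ∧ p ^ n₀ - 1 = q ^ m ∧
    (∃ a ∈ Q, ∃ b ∈ Q, a * b ≠ b * a) ∧ p ^ (n - n₀) * (p ^ n₀ - 1) ≤ s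

theorem Concl.scale {p q : ℕ} {G G' : Type*} [Group G] [Group G'] {Q : Subgroup G}
    {Q' : Subgroup G'} {n₁ N₁ k s : ℕ} (h : Concl p q Q n₁ N₁) (hs : p ^ k * N₁ ≤ s)
    (hab : (∃ a ∈ Q, ∃ b ∈ Q, a * b ≠ b * a) → ∃ a ∈ Q', ∃ b ∈ Q', a * b ≠ b * a) :
    Concl p q Q' (n₁ + k) s := by
  rcases h with h | ⟨n₀, m, h1, h2, h3, h4, h5, h6⟩
  · left
    calc p ^ (n₁ + k) = p ^ k * p ^ n₁ := by rw [pow_add, mul_comm]
      _ ≤ p ^ k * N₁ := Nat.mul_le_mul_left _ h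
      _ ≤ s := hs
  · right
    refine ⟨n₀, m, h1, by omega, h3, h4, hab h5, ?_⟩
    have e : n₁ + k - n₀ = k + (n₁ - n₀) := by omega
    calc p ^ (n₁ + k - n₀) * (p ^ n₀ - 1) = p ^ k * (p ^ (n₁ - n₀) * (p ^ n₀ - 1)) := by
          rw [e, pow_add, mul_assoc]
      _ ≤ p ^ k * N₁ := Nat.mul_le_mul_left _ h6
      _ ≤ s := hs

/-- The general statement proved by induction on the dimension `d`. -/
def GenSt (p q : ℕ) (K : Type uK) [Field K] (d : ℕ) : Prop :=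
  ∀ (G : Type uG) [Group G] [Finite G] (U : Type uU) [AddCommGroup U] [Module K U]
    [FiniteDimensional K U] (ρ : G →* Module.End K U) (Q : Subgroup G) (x : G) (n s : ℕ),
    IsPGroup q Q → (∀ u ∈ Q, x * u * x⁻¹ ∈ Q) → 1 ≤ n → x ^ p ^ n = 1 →
    (∃ u ∈ Q, ρ (x ^ p ^ (n - 1)) * ρ u ≠ ρ u * ρ (x ^ p ^ (n - 1))) →
    (ρ x - 1) ^ s = 0 → Module.finrank K U = d → Concl p q Q n s

theorem res_sub_one_pow {K : Type*} [Field K] {U : Type*} [AddCommGroup U] [Module K U]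
    (A : Module.End K U) (T : Submodule K U) (A' : Module.End K T)
    (h : ∀ w : T, ((A' w : T) : U) = A (w : U)) (s : ℕ) (w : T) :
    ((((A' - 1) ^ s) w : T) : U) = ((A - 1) ^ s) (w : U) := by
  induction s generalizing w with
  | zero => simp
  | succ s ih =>
    rw [pow_succ, pow_succ, Module.End.mul_apply, Module.End.mul_apply, ih]
    congr 1
    simp [h]

theorem quot_sub_one_pow {K : Type*} [Field K] {U : Type*} [AddCommGroup U] [Module K U]
    (A : Module.End K U) (T : Submodule K U) (A' : Module.End K (U ⧸ T))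
    (h : ∀ v : U, A' (Submodule.Quotient.mk v) = Submodule.Quotient.mk (A v)) (s : ℕ) (v : U) :
    ((A' - 1) ^ s) (Submodule.Quotient.mk v) = Submodule.Quotient.mk (((A - 1) ^ s) v) := by
  induction s generalizing v with
  | zero => simp
  | succ s ih =>
    rw [pow_succ, pow_succ, Module.End.mul_apply, Module.End.mul_apply]
    have e : (A' - 1) (Submodule.Quotient.mk v) = Submodule.Quotient.mk ((A - 1) v) := by
      simp [h]
    rw [e, ih]

section FM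

variable {p q : ℕ} [Fact p.Prime] [Fact q.Prime] {K : Type uK} [Field K] [IsAlgClosed K]
  [CharP K p] {G : Type uG} [Group G] [Finite G] {U : Type uU} [AddCommGroup U] [Module K U]
  [FiniteDimensional K U]

omit [IsAlgClosed K] in
theorem q_pow_ne_zero (hpq : p ≠ q) (j : ℕ) : ((q ^ j : ℕ) : K) ≠ 0 := by
  have hp : p.Prime := Fact.out
  have hq : q.Prime := Fact.out
  intro h0
  rw [CharP.cast_eq_zero_iff K p] at h0
  exact hpq ((Nat.prime_dvd_prime_iff_eq hp hq).mp (hp.dvd_of_dvd_pow h0))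

/-- The reducible case. -/
theorem fm_red (d : ℕ) (IH : ∀ m < d, GenSt.{uG, uU, uK} p q K m) (ρ : G →* Module.End K U)
    (hinj : Function.Injective ρ) (Q : Subgroup G) (x : G) (n s : ℕ)
    (hgen : Q ⊔ Subgroup.zpowers x = ⊤) (hmd : MinData p q Q x n)
    (hs : (ρ x - 1) ^ s = 0) (hd : Module.finrank K U = d)
    (T : Submodule K U) (hT0 : T ≠ ⊥) (hT1 : T ≠ ⊤)
    (hTQ : ∀ u ∈ Q, ∀ w ∈ T, ρ u w ∈ T) (hTx : ∀ w ∈ T, ρ x w ∈ T) : Concl p q Q n s := by
  have hp : p.Prime := Fact.out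
  have hTG : ∀ g : G, ∀ v ∈ T, ρ g v ∈ T := by
    intro g
    have hg : g ∈ Q ⊔ Subgroup.zpowers x := by rw [hgen]; trivial
    exact inv_of_mem_sup ρ Q x (p ^ n) hmd.hx (pow_pos hp.pos n) T hTQ hTx g hg
  obtain ⟨y, hy⟩ : ∃ y, y = x ^ p ^ (n - 1) := ⟨_, rfl⟩
  have key : ∀ (L : Type uU) [Monoid L] (φ : G →* L) (u : G), φ y * φ u = φ u * φ y →
      φ (y * u * y⁻¹ * u⁻¹) = 1 := by
    intro L _ φ u hc
    have e : y * u * y⁻¹ * u⁻¹ = (y * u) * (u * y)⁻¹ := by group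
    rw [e, map_mul, map_mul, hc, ← map_mul, ← map_mul, mul_inv_cancel, map_one]
  -- H3 persists on T or on U/T
  have hpers : (∃ u ∈ Q, DLin.resHom ρ T hTG y * DLin.resHom ρ T hTG u
        ≠ DLin.resHom ρ T hTG u * DLin.resHom ρ T hTG y) ∨
      (∃ u ∈ Q, DLin.quotHom ρ T hTG y * DLin.quotHom ρ T hTG u
        ≠ DLin.quotHom ρ T hTG u * DLin.quotHom ρ T hTG y) := by
    by_contra hcon
    push Not at hcon
    obtain ⟨h1, h2⟩ := hcon
    obtain ⟨u, hu, hne⟩ := hmd.hy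
    rw [← hy] at hne
    apply hne
    have hgQ : y * u * y⁻¹ * u⁻¹ ∈ Q :=
      Q.mul_mem (by rw [hy]; exact hmd.yQ u hu) (Q.inv_mem hu)
    obtain ⟨j, hj⟩ := hmd.hQ ⟨_, hgQ⟩
    have hj' : (y * u * y⁻¹ * u⁻¹) ^ q ^ j = 1 := by
      have := congrArg Subtype.val hj
      simpa using this
    have hres : DLin.resHom ρ T hTG (y * u * y⁻¹ * u⁻¹) = 1 := key _ _ u (h1 u hu)
    have hquot : DLin.quotHom ρ T hTG (y * u * y⁻¹ * u⁻¹) = 1 := key _ _ u (h2 u hu)
    have hone : ρ (y * u * y⁻¹ * u⁻¹) = 1 := by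
      apply eq_one_of_trivial_sub_quot (ρ (y * u * y⁻¹ * u⁻¹)) T
        (fun w hw => DLin.res_trivial ρ (MonoidHom.mem_ker.mpr hres) w hw)
        (fun v => DLin.quot_trivial ρ (MonoidHom.mem_ker.mpr hquot) v) (q ^ j)
        (q_pow_ne_zero hmd.hpq j)
      rw [← map_pow, hj', map_one]
    have h3 : y * u * y⁻¹ * u⁻¹ = 1 := hinj (by rw [hone, map_one])
    calc y * u = (y * u * y⁻¹ * u⁻¹) * (u * y) := by group
      _ = u * y := by rw [h3, one_mul]
  rcases hpers with ⟨u, hu, hne⟩ | ⟨u, hu, hne⟩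
  · have hlt : Module.finrank K T < d := by
      rw [← hd]
      exact Submodule.finrank_lt hT1
    have hs' : (DLin.resHom ρ T hTG x - 1) ^ s = 0 := by
      apply LinearMap.ext
      intro w
      apply Subtype.ext
      rw [res_sub_one_pow (ρ x) T _ (fun w => DLin.resHom_apply ρ T hTG x w), hs]
      simp
    exact IH _ hlt G T (DLin.resHom ρ T hTG) Q x n s hmd.hQ hmd.hxQ hmd.hn hmd.hx
      ⟨u, hu, by rw [← hy]; exact hne⟩ hs' rfl
  · have hlt : Module.finrank K (U ⧸ T) < d := by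
      rw [← hd]
      have h1 := Submodule.finrank_quotient_add_finrank T
      have hpos : 0 < Module.finrank K T := by
        obtain ⟨w, hw, hw0⟩ := (Submodule.ne_bot_iff _).mp hT0
        exact Module.finrank_pos_iff_exists_ne_zero.mpr
          ⟨⟨w, hw⟩, fun h => hw0 (congrArg Subtype.val h)⟩
      omega
    have hs' : (DLin.quotHom ρ T hTG x - 1) ^ s = 0 := by
      apply LinearMap.ext
      intro v'
      obtain ⟨v, rfl⟩ := Submodule.Quotient.mk_surjective T v'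
      rw [quot_sub_one_pow (ρ x) T _ (fun v => DLin.quotHom_apply ρ T hTG x v), hs]
      simp
    exact IH _ hlt G (U ⧸ T) (DLin.quotHom ρ T hTG) Q x n s hmd.hQ hmd.hxQ hmd.hn hmd.hx
      ⟨u, hu, by rw [← hy]; exact hne⟩ hs' rfl

end FM

end Cfsg.Agent.Lib.helper38.HHB
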