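import Mathlib
import Cfsg.Agent.Lib.helper38.HHBCore
import Cfsg.Agent.Lib.helper66.ExtraRepD

set_option autoImplicit false

namespace Cfsg.Agent.Lib.helper38.HHB

open Module Cfsg.Agent.Lib.helper73

universe uG uU uK

section FM

variable {p q : ℕ} [Fact p.Prime] [Fact q.Prime] {K : Type uK} [Field K] [IsAlgClosed K]
  [CharP K p] {G : Type uG} [Group G] [Finite G] {U : Type uU} [AddCommGroup U] [Module K U]
  [FiniteDimensional K U]

/-- The irreducible, imprimitive case. -/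
theorem fm_caseA (d : ℕ) (IH : ∀ m < d, GenSt.{uG, uU, uK} p q K m) (ρ : G →* Module.End K U)
    (hinj : Function.Injective ρ) (Q : Subgroup G) [hQn : Q.Normal] (x : G) (n s : ℕ)
    (hmd : MinData p q Q x n) (hs : (ρ x - 1) ^ s = 0) (hd : Module.finrank K U = d)
    [Nontrivial U]
    (hirr : ∀ T : Submodule K U, (∀ u ∈ Q, ∀ w ∈ T, ρ u w ∈ T) → (∀ w ∈ T, ρ x w ∈ T) →
      T = ⊥ ∨ T = ⊤)
    (z : G) (hzQ : z ∈ Q) (hzc : ∀ u ∈ Q, z * u = u * z)
    (hns : ¬ ∃ c : K, ρ z = c • (1 : Module.End K U)) : Concl p q Q n s := by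
  classical
  have hp : p.Prime := Fact.out
  have hq : q.Prime := Fact.out
  -- conjugates of z are central in Q
  have hconjQ : ∀ g : G, g * z * g⁻¹ ∈ Q := fun g => hQn.conj_mem z hzQ g
  have hconjc : ∀ g : G, ∀ u ∈ Q, (g * z * g⁻¹) * u = u * (g * z * g⁻¹) := by
    intro g u hu
    have h1 : g⁻¹ * u * g ∈ Q := by
      have := hQn.conj_mem u hu g⁻¹
      simpa using this
    have h2 := hzc _ h1
    calc (g * z * g⁻¹) * u = g * (z * (g⁻¹ * u * g)) * g⁻¹ := by group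
      _ = g * ((g⁻¹ * u * g) * z) * g⁻¹ := by rw [h2]
      _ = u * (g * z * g⁻¹) := by group
  have hzc' : ∀ g h : G, Commute (ρ (g * z * g⁻¹)) (ρ (h * z * h⁻¹)) := by
    intro g h
    show ρ (g * z * g⁻¹) * ρ (h * z * h⁻¹) = ρ (h * z * h⁻¹) * ρ (g * z * g⁻¹)
    rw [← map_mul, ← map_mul, hconjc g _ (hconjQ h)]
  have hzQ' : ∀ u ∈ Q, ∀ g : G, ρ u * ρ (g * z * g⁻¹) = ρ (g * z * g⁻¹) * ρ u := by
    intro u hu g
    rw [← map_mul, ← map_mul, hconjc g u hu]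
  obtain ⟨j, hj⟩ := hmd.hQ ⟨z, hzQ⟩
  have hj' : z ^ q ^ j = 1 := by
    have := congrArg Subtype.val hj
    simpa using this
  have hcop : Nat.Coprime (q ^ j) p :=
    Nat.Coprime.pow_left j ((Nat.coprime_primes hq hp).mpr hmd.hpq.symm)
  obtain ⟨k, W, hk1, hkn, hW0, hW1, hWQ, hWx, hsum, hB⟩ :=
    caseA p ρ Q x n hmd.hx hirr z hzc' hzQ' (q ^ j) hcop hj' hns
  rcases Nat.lt_or_ge k n with hkn' | hkn'
  swap
  · -- k = n
    have hkn2 : k = n := le_antisymm hkn hkn'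
    subst hkn2
    left
    by_contra hcon
    push Not at hcon
    obtain ⟨w, hw, hw0⟩ := (Submodule.ne_bot_iff _).mp hW0
    have h1 : (ρ x - 1) ^ (p ^ k - 1) = 0 := pow_eq_zero_of_le (by omega) hs
    rw [sub_one_pow_pred p (ρ x) k] at h1
    apply hsum w hw hw0
    have h2 := congrArg (fun A : Module.End K U => A w) h1
    simp only [LinearMap.sum_apply, LinearMap.zero_apply, ← map_pow] at h2
    exact h2
  · -- k < n
    obtain ⟨xk, hxk⟩ : ∃ xk, xk = x ^ p ^ k := ⟨_, rfl⟩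
    have hxkpow : xk ^ p ^ (n - k) = 1 := by
      rw [hxk, ← pow_mul, ← pow_add, Nat.add_sub_cancel' hkn, hmd.hx]
    have hxkpow' : xk ^ p ^ (n - k - 1) = x ^ p ^ (n - 1) := by
      rw [hxk, ← pow_mul, ← pow_add]
      congr 2
      omega
    obtain ⟨S₁, hS₁⟩ : ∃ S₁ : Subgroup G, S₁ = Q ⊔ Subgroup.zpowers xk := ⟨_, rfl⟩
    have hWS : ∀ g ∈ S₁, ∀ w ∈ W, ρ g w ∈ W := by
      rw [hS₁]
      exact inv_of_mem_sup ρ Q xk (p ^ (n - k)) hxkpow (pow_pos hp.pos _) W hWQ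
        (by rw [hxk]; exact hWx)
    have hxkS : xk ∈ S₁ := by
      rw [hS₁]
      exact (le_sup_right : Subgroup.zpowers xk ≤ _) (Subgroup.mem_zpowers xk)
    have hQS : Q ≤ S₁ := by rw [hS₁]; exact le_sup_left
    obtain ⟨ρW, hρW⟩ : ∃ ρW : S₁ →* Module.End K W,
        ∀ (g : S₁) (w : W), ((ρW g w : W) : U) = ρ (g : G) (w : U) :=
      ⟨Cfsg.Agent.Lib.helper66.restrictHom ρ S₁ W hWS, fun g w => rfl⟩
    obtain ⟨x₁, hx₁⟩ : ∃ x₁ : S₁, (x₁ : G) = xk := ⟨⟨xk, hxkS⟩, rfl⟩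
    have hx₁pow : ∀ m : ℕ, ((x₁ ^ m : S₁) : G) = xk ^ m := by
      intro m
      rw [Subgroup.coe_pow, hx₁]
    have hρWpow : (ρW x₁ - 1) ^ (p ^ (n - k)) = 0 := by
      rw [sub_one_pow_char_pow p (ρW x₁) (n - k), ← map_pow]
      have : x₁ ^ p ^ (n - k) = 1 := Subtype.ext (by rw [hx₁pow, hxkpow]; rfl)
      rw [this, map_one, sub_self]
    have hex : ∃ N, (ρW x₁ - 1) ^ N = 0 := ⟨_, hρWpow⟩
    obtain ⟨N₁, hN₁, hN₁min⟩ : ∃ N₁, (ρW x₁ - 1) ^ N₁ = 0 ∧ ∀ k' < N₁, (ρW x₁ - 1) ^ k' ≠ 0 :=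
      ⟨Nat.find hex, Nat.find_spec hex, fun k' hk' => Nat.find_min hex hk'⟩
    have hWnt : Nontrivial W := Submodule.nontrivial_iff_ne_bot.mpr hW0
    have hN₁pos : 1 ≤ N₁ := by
      by_contra hcon
      have h0 : N₁ = 0 := by omega
      rw [h0, pow_zero] at hN₁
      exact one_ne_zero hN₁
    -- the hypothesis H3 for the restriction
    have hH3 : ∃ u ∈ Q.subgroupOf S₁, ρW (x₁ ^ p ^ (n - k - 1)) * ρW u
        ≠ ρW u * ρW (x₁ ^ p ^ (n - k - 1)) := by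
      by_contra hcon
      push Not at hcon
      obtain ⟨u₀, hu₀, hne⟩ := hmd.hy
      apply hne
      obtain ⟨y, hy⟩ : ∃ y, y = x ^ p ^ (n - 1) := ⟨_, rfl⟩
      rw [← hy]
      have hy₁ : ((x₁ ^ p ^ (n - k - 1) : S₁) : G) = y := by rw [hx₁pow, hxkpow', hy]
      have htriv : ∀ u ∈ Q, ∀ w ∈ W, ρ (y * u * y⁻¹ * u⁻¹) w = w := by
        intro u hu w hw
        have hc := hcon ⟨u, hQS hu⟩ (Subgroup.mem_subgroupOf.mpr hu)
        have h1 : ρW (x₁ ^ p ^ (n - k - 1) * ⟨u, hQS hu⟩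
            * (⟨u, hQS hu⟩ * x₁ ^ p ^ (n - k - 1))⁻¹) = 1 := by
          rw [map_mul, map_mul, hc, ← map_mul, ← map_mul, mul_inv_cancel, map_one]
        have h2 := congrArg (fun A : Module.End K W => ((A ⟨w, hw⟩ : W) : U)) h1
        simp only [hρW, Module.End.one_apply] at h2
        have e : ((x₁ ^ p ^ (n - k - 1) * ⟨u, hQS hu⟩
            * (⟨u, hQS hu⟩ * x₁ ^ p ^ (n - k - 1))⁻¹ : S₁) : G) = y * u * y⁻¹ * u⁻¹ := by
          rw [Subgroup.coe_mul, Subgroup.coe_mul, Subgroup.coe_inv, Subgroup.coe_mul, hy₁]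
          simp only [mul_inv_rev]
          group
        rw [e] at h2
        exact h2
      have hall : ∀ u ∈ Q, ρ (y * u * y⁻¹ * u⁻¹) = 1 := by
        intro u hu
        apply hB
        intro i w hw
        have hu' : (x ^ i)⁻¹ * u * x ^ i ∈ Q := by
          have := hQn.conj_mem u hu (x ^ i)⁻¹
          simpa using this
        have h1 := htriv _ hu' w hw
        have hxy : x ^ i * y = y * x ^ i := by rw [hy, ← pow_add, ← pow_add, add_comm]
        have e1 : x ^ i * y * (x ^ i)⁻¹ = y := by rw [hxy, mul_inv_cancel_right]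
        have e1' : x ^ i * y⁻¹ * (x ^ i)⁻¹ = y⁻¹ := by
          have : x ^ i * y⁻¹ * (x ^ i)⁻¹ = (x ^ i * y * (x ^ i)⁻¹)⁻¹ := by group
          rw [this, e1]
        have e2 : y * u * y⁻¹ * u⁻¹ * x ^ i
            = x ^ i * (y * ((x ^ i)⁻¹ * u * x ^ i) * y⁻¹ * ((x ^ i)⁻¹ * u * x ^ i)⁻¹) := by
          calc y * u * y⁻¹ * u⁻¹ * x ^ i
              = (x ^ i * y * (x ^ i)⁻¹) * u * (x ^ i * y⁻¹ * (x ^ i)⁻¹) * u⁻¹ * x ^ i := by
                rw [e1, e1']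
            _ = x ^ i * (y * ((x ^ i)⁻¹ * u * x ^ i) * y⁻¹ * ((x ^ i)⁻¹ * u * x ^ i)⁻¹) := by
                group
        rw [← Module.End.mul_apply, ← map_mul, e2, map_mul, Module.End.mul_apply, h1]
      have h3 : y * u₀ * y⁻¹ * u₀⁻¹ = 1 := hinj (by rw [hall u₀ hu₀, map_one])
      calc y * u₀ = (y * u₀ * y⁻¹ * u₀⁻¹) * (u₀ * y) := by group
        _ = u₀ * y := by rw [h3, one_mul]
    -- the bound
    have hmul : p ^ k * N₁ ≤ s := by
      by_contra hcon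
      push Not at hcon
      have hne := hN₁min (N₁ - 1) (by omega)
      obtain ⟨w₀, hw₀⟩ : ∃ w₀ : W, ((ρW x₁ - 1) ^ (N₁ - 1)) w₀ ≠ 0 := by
        by_contra h
        push Not at h
        exact hne (LinearMap.ext h)
      have hw' : ((((ρW x₁ - 1) ^ (N₁ - 1)) w₀ : W) : U) = ((ρ xk - 1) ^ (N₁ - 1)) (w₀ : U) :=
        res_sub_one_pow (ρ xk) W (ρW x₁) (fun w => by rw [hρW, hx₁]) (N₁ - 1) w₀
      have hw'W : ((ρ xk - 1) ^ (N₁ - 1)) (w₀ : U) ∈ W := by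
        rw [← hw']
        exact Subtype.mem _
      have hw'0 : ((ρ xk - 1) ^ (N₁ - 1)) (w₀ : U) ≠ 0 := by
        rw [← hw']
        intro h0
        exact hw₀ (Subtype.ext h0)
      have hpos : 0 < p ^ k := pow_pos hp.pos k
      have h1 : (ρ x - 1) ^ ((p ^ k - 1) + p ^ k * (N₁ - 1)) = 0 := by
        apply pow_eq_zero_of_le _ hs
        have : p ^ k * N₁ = p ^ k * (N₁ - 1) + p ^ k := by
          have e : N₁ = (N₁ - 1) + 1 := by omega
          conv_lhs => rw [e]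
          rw [Nat.mul_succ]
        omega
      have h2 : (ρ x - 1) ^ ((p ^ k - 1) + p ^ k * (N₁ - 1))
          = (∑ i ∈ Finset.range (p ^ k), ρ x ^ i) * (ρ xk - 1) ^ (N₁ - 1) := by
        rw [pow_add, pow_mul, sub_one_pow_char_pow p (ρ x) k, sub_one_pow_pred p (ρ x) k,
          ← map_pow, ← hxk]
      apply hsum _ hw'W hw'0
      have h3 := congrArg (fun A : Module.End K U => A (w₀ : U)) (h2.symm.trans h1)
      simp only [Module.End.mul_apply, LinearMap.sum_apply, LinearMap.zero_apply, ← map_pow] at h3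
      exact h3
    have hlt : Module.finrank K W < d := by
      rw [← hd]
      exact Submodule.finrank_lt hW1
    have hQ₁ : IsPGroup q (Q.subgroupOf S₁) := hmd.hQ.comap_subtype
    have hxQ₁ : ∀ u ∈ Q.subgroupOf S₁, x₁ * u * x₁⁻¹ ∈ Q.subgroupOf S₁ := by
      intro u hu
      rw [Subgroup.mem_subgroupOf] at hu ⊢
      rw [Subgroup.coe_mul, Subgroup.coe_mul, Subgroup.coe_inv, hx₁, hxk]
      exact hmd.xQ_pow _ _ hu
    have hx₁p : x₁ ^ p ^ (n - k) = 1 := Subtype.ext (by rw [hx₁pow, hxkpow]; rfl)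
    have hconcl := IH _ hlt S₁ W ρW (Q.subgroupOf S₁) x₁ (n - k) N₁ hQ₁ hxQ₁ (by omega) hx₁p
      hH3 hN₁ rfl
    have e : n - k + k = n := by omega
    rw [← e]
    exact hconcl.scale hmul (by
      rintro ⟨a, ha, b, hb, hab⟩
      exact ⟨a, Subgroup.mem_subgroupOf.mp ha, b, Subgroup.mem_subgroupOf.mp hb,
        fun h => hab (Subtype.ext h)⟩)

end FM

end Cfsg.Agent.Lib.helper38.HHB
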