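import Mathlib
import Cfsg.Agent.Lib.helper38.HHBCore
import Cfsg.Agent.Lib.helper66.ExtraRepD
import Cfsg.Agent.Lib.helper75.HHMain
import Cfsg.Agent.Lib.helper13.SylowIn

set_option autoImplicit false

namespace Cfsg.Agent.Lib.helper38.HHB

open Module Cfsg.Agent.Lib.helper73

universe uG uU uK

section FM

variable {p q : ℕ} [Fact p.Prime] [Fact q.Prime] {K : Type uK} [Field K] [IsAlgClosed K]
  [CharP K p] {G : Type uG} [Group G] [Finite G] {U : Type uU} [AddCommGroup U] [Module K U]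
  [FiniteDimensional K U]

/-- The irreducible, primitive case: reduction to the critical configuration. -/
theorem fm_caseB (ρ : G →* Module.End K U) (hinj : Function.Injective ρ) (Q : Subgroup G)
    [hQn : Q.Normal] (x : G) (n s : ℕ) (hgen : Q ⊔ Subgroup.zpowers x = ⊤)
    (hmd : MinData p q Q x n) (hs : (ρ x - 1) ^ s = 0) [Nontrivial U]
    (hirr : ∀ T : Submodule K U, (∀ u ∈ Q, ∀ w ∈ T, ρ u w ∈ T) → (∀ w ∈ T, ρ x w ∈ T) →
      T = ⊥ ∨ T = ⊤)
    (hscal : ∀ z ∈ Q, (∀ u ∈ Q, z * u = u * z) → ∃ c : K, ρ z = c • (1 : Module.End K U)) :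
    Concl p q Q n s := by
  classical
  have hp : p.Prime := Fact.out
  have hq : q.Prime := Fact.out
  have hpos : 0 < p ^ n := pow_pos hp.pos n
  obtain ⟨y, hy⟩ : ∃ y, y = x ^ p ^ (n - 1) := ⟨_, rfl⟩
  have hyu := hmd.hy
  have hcl := hmd.cent_le_center
  have hcc := hmd.comm_comm
  rw [← hy] at hyu hcl hcc
  -- Q nonabelian
  have hnab : ∃ a ∈ Q, ∃ b ∈ Q, a * b ≠ b * a := by
    by_contra hcon
    push Not at hcon
    obtain ⟨u, hu, hne⟩ := hyu
    apply hne
    obtain ⟨c, hc⟩ := hscal u hu (fun v hv => hcon u hu v hv)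
    apply hinj
    rw [map_mul, map_mul, hc, mul_smul_comm, smul_mul_assoc, mul_one, one_mul]
  -- central elements of Q are central in G
  have hcenG : ∀ z ∈ Q, (∀ u ∈ Q, z * u = u * z) → ∀ g : G, g * z = z * g := by
    intro z hz hzc g
    obtain ⟨c, hc⟩ := hscal z hz hzc
    apply hinj
    rw [map_mul, map_mul, hc, mul_smul_comm, smul_mul_assoc, mul_one, one_mul]
  have hfpf0 := hmd.fpf hnab
  let _ : Fintype Q := Fintype.ofFinite _
  obtain ⟨R, hR⟩ : ∃ R : Q →* Module.End K U, ∀ u : Q, R u = ρ (u : G) :=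
    ⟨ρ.comp Q.subtype, fun u => rfl⟩
  have hcen_iff : ∀ u : Q, u ∈ Subgroup.center Q ↔ ∀ v ∈ Q, (u : G) * v = v * u := by
    intro u
    rw [Subgroup.mem_center_iff]
    constructor
    · intro h v hv
      have h1 := congrArg Subtype.val (h ⟨v, hv⟩)
      simpa using h1.symm
    · intro h v
      apply Subtype.ext
      simpa using (h v v.2).symm
  have hd' : Cfsg.Agent.Lib.helper66.ExtraData R := by
    refine ⟨?_, ?_, ?_⟩
    · intro g hg
      rw [hR]
      exact hscal g g.2 ((hcen_iff g).mp hg)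
    · intro g _ h1
      apply Subtype.ext
      apply hinj
      rw [← hR, h1]
      simp
    · intro u v
      rw [hcen_iff]
      have h1 := hcc u v u.2 v.2
      have hmem : (u : G) * v * (u : G)⁻¹ * (v : G)⁻¹ ∈ Q := (u * v * u⁻¹ * v⁻¹ : Q).2
      have e : ((u * v * u⁻¹ * v⁻¹ : Q) : G) = (u : G) * v * (u : G)⁻¹ * (v : G)⁻¹ := rfl
      rw [e]
      exact hcl _ hmem h1
  have hxN : x ∈ Subgroup.normalizer (Q : Set G) :=
    Cfsg.Agent.Lib.helper13.mem_normalizer_of_forall_conj_mem hmd.hxQ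
  obtain ⟨σ, hσ⟩ : ∃ σ : MulAut Q, ∀ u : Q, ((σ u : Q) : G) = x * u * x⁻¹ :=
    ⟨Cfsg.Agent.Lib.helper66.conjAut Q x hxN, fun u => rfl⟩
  have hX : ∀ u : Q, ρ x * R u = R (σ u) * ρ x := by
    intro u
    rw [hR, hR, hσ, ← map_mul, ← map_mul]
    congr 1
    group
  have hXh : ρ x ^ (p ^ n) = 1 := by rw [← map_pow, hmd.hx, map_one]
  have hfpf : 1 < p ^ n → ∀ u : Q, σ u * u⁻¹ ∈ Subgroup.center Q → u ∈ Subgroup.center Q := by
    intro _ u hu
    rw [hcen_iff] at hu ⊢
    have e : ((σ u * u⁻¹ : Q) : G) = x * u * x⁻¹ * (u : G)⁻¹ := by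
      rw [Subgroup.coe_mul, hσ, Subgroup.coe_inv]
    rw [e] at hu
    exact hfpf0 u u.2 hu
  have hirrX : ∀ T : Submodule K U, (∀ u : Q, ∀ w ∈ T, R u w ∈ T) → (∀ w ∈ T, ρ x w ∈ T) →
      T = ⊥ ∨ T = ⊤ := by
    intro T h1 h2
    exact hirr T (fun u hu w hw => by have := h1 ⟨u, hu⟩ w hw; rwa [hR] at this) h2
  have hQK : (Fintype.card Q : K) ≠ 0 := by
    obtain ⟨a, ha⟩ := IsPGroup.iff_card.mp hmd.hQ
    rw [← Nat.card_eq_fintype_card, ha]
    exact q_pow_ne_zero hmd.hpq a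
  have hirrQ : ∀ W : Submodule K U, (∀ g ∈ Q, Submodule.map (ρ g) W ≤ W) → W = ⊥ ∨ W = ⊤ := by
    intro W hW
    have hW' : ∀ u : Q, ∀ w ∈ W, R u w ∈ W := by
      intro u w hw
      rw [hR]
      exact hW u u.2 (Submodule.mem_map_of_mem hw)
    have hWx := Cfsg.Agent.Lib.helper66.X_invariant hd' (ρ x) σ (p ^ n) hpos hX hXh hfpf hirrX
      hQK W hW'
    exact hirr W (fun u hu w hw => by have := hW' ⟨u, hu⟩ w hw; rwa [hR] at this) hWx
  have hxP : IsPGroup p (Subgroup.zpowers x) := by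
    rintro ⟨g, hg⟩
    obtain ⟨j, rfl⟩ := Subgroup.mem_zpowers_iff.mp hg
    refine ⟨n, Subtype.ext ?_⟩
    show (x ^ j) ^ p ^ n = 1
    rw [← zpow_natCast, ← zpow_mul, mul_comm, zpow_mul, zpow_natCast, hmd.hx, one_zpow]
  have hy1 : y ≠ 1 := by
    intro h
    obtain ⟨u, hu, hne⟩ := hyu
    rw [h] at hne
    simp at hne
  have hord : orderOf x = p ^ n := by
    have h1 := orderOf_eq_prime_pow (x := x) (p := p) (n := n - 1) (by rw [← hy]; exact hy1)
      (by rw [Nat.sub_add_cancel hmd.hn]; exact hmd.hx)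
    rwa [Nat.sub_add_cancel hmd.hn] at h1
  have hcard : Nat.card (Subgroup.zpowers x) = p ^ n := by rw [Nat.card_zpowers, hord]
  have hC : ∀ y' ∈ Subgroup.zpowers x, y' ≠ 1 →
      Subgroup.centralizer ({y'} : Set G) = Subgroup.zpowers x ⊔ Subgroup.center G := by
    intro y' hy' hy'1
    have hfin : IsOfFinOrder x := isOfFinOrder_iff_pow_eq_one.mpr ⟨p ^ n, hpos, hmd.hx⟩
    obtain ⟨j, rfl⟩ : ∃ j : ℕ, x ^ j = y' := hfin.mem_powers_iff_mem_zpowers.mpr hy'
    apply le_antisymm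
    · intro g hg
      rw [Subgroup.mem_centralizer_iff] at hg
      have hg' : x ^ j * g = g * x ^ j := hg _ (Set.mem_singleton _)
      obtain ⟨u, hu, i, rfl⟩ := exists_decomp Q x (p ^ n) hpos hmd.hx hgen g
      have hu' : x ^ j * u = u * x ^ j := by
        have h1 : x ^ j * u * x ^ i = u * x ^ j * x ^ i := by
          calc x ^ j * u * x ^ i = x ^ j * (u * x ^ i) := mul_assoc _ _ _
            _ = u * x ^ i * x ^ j := hg'
            _ = u * (x ^ i * x ^ j) := mul_assoc _ _ _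
            _ = u * (x ^ j * x ^ i) := by rw [← pow_add, ← pow_add, add_comm]
            _ = u * x ^ j * x ^ i := (mul_assoc _ _ _).symm
        exact mul_right_cancel h1
      have hmem : x ^ j ∈ Subgroup.centralizer ({u} : Set G) := by
        rw [Subgroup.mem_centralizer_iff]
        intro h hh
        rw [Set.mem_singleton_iff] at hh
        subst hh
        exact hu'.symm
      have hymem := pow_mem_of_ne_one p x n hmd.hn hmd.hx (Subgroup.centralizer ({u} : Set G)) j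
        hmem hy'1
      rw [← hy, Subgroup.mem_centralizer_iff] at hymem
      have hyu' : y * u = u * y := (hymem u (Set.mem_singleton u)).symm
      have hucen := hcenG u hu (hcl u hu hyu')
      exact (Subgroup.zpowers x ⊔ Subgroup.center G).mul_mem
        ((le_sup_right : Subgroup.center G ≤ _) (Subgroup.mem_center_iff.mpr hucen))
        ((le_sup_left : Subgroup.zpowers x ≤ _) (Subgroup.pow_mem _ (Subgroup.mem_zpowers x) i))
    · apply sup_le
      · rw [Subgroup.zpowers_le, Subgroup.mem_centralizer_iff]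
        intro h hh
        rw [Set.mem_singleton_iff] at hh
        subst hh
        rw [← pow_succ, ← pow_succ']
      · exact Subgroup.center_le_centralizer _
  have hex : ∃ N, (ρ x - 1) ^ N = 0 := ⟨s, hs⟩
  obtain ⟨s₀, hs₀, hs₀min, hs₀le⟩ : ∃ s₀, (ρ x - 1) ^ s₀ = 0 ∧
      (∀ k < s₀, (ρ x - 1) ^ k ≠ 0) ∧ s₀ ≤ s :=
    ⟨Nat.find hex, Nat.find_spec hex, fun k hk => Nat.find_min hex hk, Nat.find_min' hex hs⟩
  obtain ⟨h1, h2, h3⟩ := Cfsg.Agent.Lib.helper75.hh_critical p q hmd.hpq Q hmd.hQ x hxP hC ρ hinj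
    hirrQ s₀ hs₀ hs₀min
  rw [hcard] at h1 h2 h3
  rcases Nat.lt_or_ge s₀ (p ^ n) with hlt | hge
  · have heq : s₀ = p ^ n - 1 := by omega
    obtain ⟨⟨b, hb⟩, -⟩ := h3 heq
    right
    refine ⟨n, b, hmd.hn, le_rfl, ?_, hb, hnab, ?_⟩
    · by_contra hcon
      have hb0 : b = 0 := by omega
      rw [hb0, pow_zero] at hb
      rw [heq, hb, pow_one] at hs₀
      have hρx : ρ x = 1 := sub_eq_zero.mp hs₀
      have hx1 : x = 1 := hinj (by rw [hρx, map_one])
      apply hy1
      rw [hy, hx1, one_pow]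
    · rw [Nat.sub_self, pow_zero, one_mul]
      omega
  · left
    omega

end FM

end Cfsg.Agent.Lib.helper38.HHB
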