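import Mathlib
import Cfsg.Agent.Lib.helper38.HHBCaseA
import Cfsg.Agent.Lib.helper38.HHBCaseB
import Cfsg.Agent.Lib.helper66.PGroupAction

set_option autoImplicit false

namespace Cfsg.Agent.Lib.helper38.HHB

open Module Cfsg.Agent.Lib.helper73

universe uG uU uK

section FM

variable {p q : ℕ} [Fact p.Prime] [Fact q.Prime] {K : Type uK} [Field K] [IsAlgClosed K]
  [CharP K p] {G : Type uG} [Group G] [Finite G] {U : Type uU} [AddCommGroup U] [Module K U]
  [FiniteDimensional K U]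

/-- The faithful minimal configuration. -/
theorem fm_case (d : ℕ) (IH : ∀ m < d, GenSt.{uG, uU, uK} p q K m) (ρ : G →* Module.End K U)
    (hinj : Function.Injective ρ) (Q : Subgroup G) [hQn : Q.Normal] (x : G) (n s : ℕ)
    (hgen : Q ⊔ Subgroup.zpowers x = ⊤) (hmd : MinData p q Q x n)
    (hs : (ρ x - 1) ^ s = 0) (hd : Module.finrank K U = d) : Concl p q Q n s := by
  have hnt : Nontrivial U := by
    by_contra hcon
    rw [not_nontrivial_iff_subsingleton] at hcon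
    obtain ⟨u, hu, hne⟩ := hmd.hy
    apply hne
    apply hinj
    exact Subsingleton.elim _ _
  by_cases hred : ∃ T : Submodule K U, T ≠ ⊥ ∧ T ≠ ⊤ ∧ (∀ u ∈ Q, ∀ w ∈ T, ρ u w ∈ T) ∧
      (∀ w ∈ T, ρ x w ∈ T)
  · obtain ⟨T, hT0, hT1, hTQ, hTx⟩ := hred
    exact fm_red d IH ρ hinj Q x n s hgen hmd hs hd T hT0 hT1 hTQ hTx
  · have hirr : ∀ T : Submodule K U, (∀ u ∈ Q, ∀ w ∈ T, ρ u w ∈ T) → (∀ w ∈ T, ρ x w ∈ T) →
        T = ⊥ ∨ T = ⊤ := by
      intro T h1 h2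
      by_contra hcon
      push Not at hcon
      exact hred ⟨T, hcon.1, hcon.2, h1, h2⟩
    by_cases hA : ∃ z ∈ Q, (∀ u ∈ Q, z * u = u * z) ∧ ¬ ∃ c : K, ρ z = c • (1 : Module.End K U)
    · obtain ⟨z, hzQ, hzc, hns⟩ := hA
      exact fm_caseA d IH ρ hinj Q x n s hmd hs hd hirr z hzQ hzc hns
    · have hscal : ∀ z ∈ Q, (∀ u ∈ Q, z * u = u * z) →
          ∃ c : K, ρ z = c • (1 : Module.End K U) := by
        intro z hz hzc
        by_contra hcon
        exact hA ⟨z, hz, hzc, hcon⟩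
      exact fm_caseB ρ hinj Q x n s hgen hmd hs hirr hscal

end FM

section Gen

variable {p q : ℕ} [Fact p.Prime] [Fact q.Prime] {K : Type uK} [Field K] [IsAlgClosed K]
  [CharP K p]

/-- **Hall–Higman Theorem B**, general form for a `p`-element normalising a `q`-group. -/
theorem gen (hpq : p ≠ q) (d : ℕ) : GenSt.{uG, uU, uK} p q K d := by
  induction d using Nat.strong_induction_on with
  | _ d IH =>
  intro G _ _ U _ _ _ ρ Q x n s hQ hxQ hn hx hH3 hs hd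
  classical
  have hp : p.Prime := Fact.out
  obtain ⟨y, hy⟩ : ∃ y, y = x ^ p ^ (n - 1) := ⟨_, rfl⟩
  rw [← hy] at hH3
  -- Step 1: a minimal invariant subgroup Q₁ on which y still acts nontrivially
  have hex : ∃ c : ℕ, ∃ Q₁ : Subgroup G, Q₁ ≤ Q ∧ (∀ u ∈ Q₁, x * u * x⁻¹ ∈ Q₁) ∧
      (∃ u ∈ Q₁, ρ y * ρ u ≠ ρ u * ρ y) ∧ Nat.card Q₁ = c := ⟨_, Q, le_rfl, hxQ, hH3, rfl⟩
  obtain ⟨Q₁, hQ₁Q, hxQ₁, hH3₁, hcard⟩ := Nat.find_spec hex
  have hminQ : ∀ Y : Subgroup G, Y ≤ Q₁ → (∀ u ∈ Y, x * u * x⁻¹ ∈ Y) → Y ≠ Q₁ →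
      ∀ u ∈ Y, ρ y * ρ u = ρ u * ρ y := by
    intro Y hY hxY hne
    by_contra hcon
    push Not at hcon
    have hlt : Nat.card Y < Nat.card Q₁ := Cfsg.Agent.Lib.helper66.card_lt_card_of_lt' hY hne
    rw [hcard] at hlt
    exact Nat.find_min hex hlt ⟨Y, hY.trans hQ₁Q, hxY, hcon, rfl⟩
  -- Step 2: pass to S = Q₁⟨x⟩ modulo the kernel
  obtain ⟨S, hS⟩ : ∃ S : Subgroup G, S = Q₁ ⊔ Subgroup.zpowers x := ⟨_, rfl⟩
  have hQ₁S : Q₁ ≤ S := by rw [hS]; exact le_sup_left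
  have hxS : x ∈ S := by
    rw [hS]
    exact (le_sup_right : Subgroup.zpowers x ≤ _) (Subgroup.mem_zpowers x)
  obtain ⟨ρS, hρS⟩ : ∃ ρS : S →* Module.End K U, ∀ g : S, ρS g = ρ (g : G) :=
    ⟨ρ.comp S.subtype, fun g => rfl⟩
  obtain ⟨π, ρ', hπ, hρ', hinj'⟩ : ∃ (π : S →* S ⧸ ρS.ker)
      (ρ' : S ⧸ ρS.ker →* Module.End K U),
      Function.Surjective π ∧ (∀ g : S, ρ' (π g) = ρ (g : G)) ∧ Function.Injective ρ' := by
    refine ⟨QuotientGroup.mk' ρS.ker, QuotientGroup.lift ρS.ker ρS le_rfl,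
      QuotientGroup.mk'_surjective _, fun g => hρS g, ?_⟩
    intro a b hab
    obtain ⟨a, rfl⟩ := QuotientGroup.mk_surjective a
    obtain ⟨b, rfl⟩ := QuotientGroup.mk_surjective b
    rw [QuotientGroup.lift_mk, QuotientGroup.lift_mk] at hab
    rw [QuotientGroup.eq, MonoidHom.mem_ker, map_mul, ← hab, ← map_mul, inv_mul_cancel, map_one]
  let xS : S := ⟨x, hxS⟩
  let QS : Subgroup S := Q₁.subgroupOf S
  have hnorm : S ≤ Subgroup.normalizer (Q₁ : Set G) := by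
    rw [hS]
    apply sup_le Subgroup.le_normalizer
    rw [Subgroup.zpowers_le]
    exact Cfsg.Agent.Lib.helper13.mem_normalizer_of_forall_conj_mem hxQ₁
  have hQSn : QS.Normal := by
    constructor
    intro u hu g
    have h1 := (Subgroup.mem_normalizer_iff.mp (hnorm g.2) u).mp (Subgroup.mem_subgroupOf.mp hu)
    exact Subgroup.mem_subgroupOf.mpr (by simpa using h1)
  let Q' : Subgroup (S ⧸ ρS.ker) := QS.map π
  have hQ'n : Q'.Normal := Subgroup.Normal.map hQSn π hπ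
  let x' : S ⧸ ρS.ker := π xS
  have hgenS : QS ⊔ Subgroup.zpowers xS = ⊤ := by
    apply Subgroup.map_injective S.subtype_injective
    rw [Subgroup.map_sup, Subgroup.subgroupOf_map_subtype, MonoidHom.map_zpowers,
      ← MonoidHom.range_eq_map, Subgroup.range_subtype, inf_of_le_left hQ₁S]
    exact hS.symm
  have hgen' : Q' ⊔ Subgroup.zpowers x' = ⊤ := by
    have h1 := congrArg (Subgroup.map π) hgenS
    rw [Subgroup.map_sup, MonoidHom.map_zpowers, Subgroup.map_top_of_surjective π hπ] at h1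
    exact h1
  have hx'pow : ∀ k : ℕ, ρ' (x' ^ k) = ρ (x ^ k) := by
    intro k
    have e : x' ^ k = π (xS ^ k) := (map_pow π xS k).symm
    rw [e, hρ']
    rfl
  have hmd : MinData p q Q' x' n := by
    refine ⟨hpq, ?_, ?_, hn, ?_, ?_, ?_⟩
    · exact IsPGroup.map ((hQ.to_le hQ₁Q).comap_subtype) π
    · rintro _ ⟨u, hu, rfl⟩
      refine ⟨xS * u * xS⁻¹, ?_, by simp [x']⟩
      exact Subgroup.mem_subgroupOf.mpr (by simpa using hxQ₁ u (Subgroup.mem_subgroupOf.mp hu))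
    · apply hinj'
      rw [hx'pow, hx, map_one, map_one]
    · obtain ⟨u, hu, hne⟩ := hH3₁
      refine ⟨π ⟨u, hQ₁S hu⟩, Subgroup.mem_map_of_mem π (Subgroup.mem_subgroupOf.mpr hu), ?_⟩
      intro hcon
      apply hne
      have h1 := congrArg ρ' hcon
      rw [map_mul, map_mul, hx'pow, hρ', ← hy] at h1
      exact h1
    · intro Y' hY'Q hxY' hne u' hu'
      let Y : Subgroup G := ((Y'.comap π).map S.subtype) ⊓ Q₁
      have hYmem : ∀ g : S, (g : G) ∈ Y ↔ π g ∈ Y' ∧ (g : G) ∈ Q₁ := by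
        intro g
        rw [Subgroup.mem_inf]
        constructor
        · rintro ⟨⟨g', hg', hgg'⟩, hgQ⟩
          have : g' = g := Subtype.ext hgg'
          subst this
          exact ⟨hg', hgQ⟩
        · rintro ⟨h1, h2⟩
          exact ⟨⟨g, h1, rfl⟩, h2⟩
      have hYQ₁ : Y ≤ Q₁ := inf_le_right
      have hYx : ∀ u ∈ Y, x * u * x⁻¹ ∈ Y := by
        intro u hu
        have huS : u ∈ S := hQ₁S (hYQ₁ hu)
        have h1 := (hYmem ⟨u, huS⟩).mp hu
        have h2 : ((xS * ⟨u, huS⟩ * xS⁻¹ : S) : G) ∈ Y := by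
          rw [hYmem]
          refine ⟨?_, hxQ₁ u h1.2⟩
          rw [map_mul, map_mul, map_inv]
          exact hxY' _ h1.1
        exact h2
      have hYne : Y ≠ Q₁ := by
        intro e
        apply hne
        apply le_antisymm hY'Q
        rintro _ ⟨u, hu, rfl⟩
        have h1 : (u : G) ∈ Y := by rw [e]; exact Subgroup.mem_subgroupOf.mp hu
        exact ((hYmem u).mp h1).1
      have hcent := hminQ Y hYQ₁ hYx hYne
      obtain ⟨u, hu, rfl⟩ := hY'Q hu'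
      have h1 : (u : G) ∈ Y := (hYmem u).mpr ⟨hu', Subgroup.mem_subgroupOf.mp hu⟩
      have h2 := hcent _ h1
      apply hinj'
      rw [map_mul, map_mul, hx'pow, hρ', ← hy]
      exact h2
  have hs' : (ρ' x' - 1) ^ s = 0 := by
    have e : ρ' x' = ρ x := hρ' xS
    rw [e]
    exact hs
  have hconcl := fm_case d IH ρ' hinj' Q' x' n s hgen' hmd hs' hd
  rcases hconcl with h | ⟨n₀, m, h1, h2, h3, h4, ⟨a', ha', b', hb', hab⟩, h6⟩
  · left
    exact h
  · right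
    obtain ⟨a, ha, rfl⟩ := ha'
    obtain ⟨b, hb, rfl⟩ := hb'
    refine ⟨n₀, m, h1, h2, h3, h4, ⟨(a : G), hQ₁Q (Subgroup.mem_subgroupOf.mp ha), (b : G),
      hQ₁Q (Subgroup.mem_subgroupOf.mp hb), ?_⟩, h6⟩
    intro hcon
    apply hab
    have e : a * b = b * a := Subtype.ext hcon
    rw [← map_mul, ← map_mul, e]

end Gen

end Cfsg.Agent.Lib.helper38.HHB
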