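import Mathlib
import Cfsg.Prelude.Def_Local
import Cfsg.Prelude.Def_Solvable
import Cfsg.Agent.Lib.helper38.HHBGen
import Cfsg.Agent.Lib.helper66.DualHH
import Cfsg.Agent.Lib.helper40.Cores
import Cfsg.Agent.Lib.helper1.Coprime

set_option autoImplicit false

namespace Cfsg.Agent.Lib.helper38.HHB

open Module

/-- Extension of scalars of endomorphisms (via matrices): an injective ring homomorphism. -/
theorem exists_baseChange (F : Type*) [Field F] (V : Type*) [AddCommGroup V] [Module F V]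
    [FiniteDimensional F V] (K : Type*) [Field K] [Algebra F K] :
    ∃ Φ : Module.End F V →+* Module.End K (Fin (Module.finrank F V) → K),
      Function.Injective Φ := by
  classical
  let e1 : Module.End F V →+* Matrix (Fin (Module.finrank F V)) (Fin (Module.finrank F V)) F :=
    (LinearMap.toMatrixAlgEquiv (Module.finBasis F V)).toRingEquiv.toRingHom
  let e2 : Matrix (Fin (Module.finrank F V)) (Fin (Module.finrank F V)) F →+*
      Matrix (Fin (Module.finrank F V)) (Fin (Module.finrank F V)) K := (algebraMap F K).mapMatrix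
  let e3 : Matrix (Fin (Module.finrank F V)) (Fin (Module.finrank F V)) K →+*
      Module.End K (Fin (Module.finrank F V) → K) :=
    (Matrix.toLinAlgEquiv' (R := K) (n := Fin (Module.finrank F V))).toRingEquiv.toRingHom
  refine ⟨(e3.comp e2).comp e1, ?_⟩
  have h1 : Function.Injective e1 :=
    (LinearMap.toMatrixAlgEquiv (Module.finBasis F V)).injective
  have h2 : Function.Injective e2 := Matrix.map_injective (algebraMap F K).injective
  have h3 : Function.Injective e3 :=
    (Matrix.toLinAlgEquiv' (R := K) (n := Fin (Module.finrank F V))).injective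
  exact (h3.comp h2).comp h1

/-- In a `p`-solvable group with `O_p = 1`, an element `x` of order `p^n` (`n ≥ 1`) normalises a
`q`-subgroup (`q ≠ p`) not centralised by `x^(p^(n-1))`. -/
theorem exists_q_subgroup {G : Type*} [Group G] [Finite G] {p : ℕ} [Fact p.Prime]
    (hsol : Cfsg.IsPSolvable p G) (hOp : Cfsg.pCore p G = ⊥) (x : G) (n : ℕ) (hn1 : 1 ≤ n)
    (hn : orderOf x = p ^ n) :
    ∃ q : ℕ, q.Prime ∧ q ≠ p ∧ ∃ Q : Subgroup G, IsPGroup q Q ∧ (∀ u ∈ Q, x * u * x⁻¹ ∈ Q) ∧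
      ∃ u ∈ Q, x ^ p ^ (n - 1) * u ≠ u * x ^ p ^ (n - 1) := by
  classical
  have hp : p.Prime := Fact.out
  obtain ⟨N, hN⟩ : ∃ N : Subgroup G, N = Cfsg.pPrimeCore p G := ⟨_, rfl⟩
  have hNn : N.Normal := by rw [hN]; exact Cfsg.Agent.Lib.helper40.pPrimeCore_normal' p G
  have hNcop : (Nat.card N).Coprime p := by
    rw [hN]; exact Cfsg.Agent.Lib.helper40.pPrimeCore_card_coprime p G
  have hCN : Subgroup.centralizer (N : Set G) ≤ N := by
    rw [hN]; exact Cfsg.Agent.Lib.helper66.centralizer_pPrimeCore_le_of_isPSolvable hsol hOp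
  obtain ⟨y, hy⟩ : ∃ y, y = x ^ p ^ (n - 1) := ⟨_, rfl⟩
  have hxpn : x ^ p ^ n = 1 := by rw [← hn]; exact pow_orderOf_eq_one x
  have hyp : y ^ p = 1 := by
    rw [hy, ← pow_mul, ← pow_succ, Nat.sub_add_cancel hn1, hxpn]
  have hy1 : y ≠ 1 := by
    rw [hy]
    apply pow_ne_one_of_lt_orderOf (pow_pos hp.pos _).ne'
    rw [hn]
    exact Nat.pow_lt_pow_right hp.one_lt (by omega)
  have hyord : orderOf y = p := orderOf_eq_prime hyp hy1
  have hyN : y ∉ N := by
    intro hmem
    have h1 : orderOf y ∣ Nat.card N := by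
      have := orderOf_dvd_natCard (⟨y, hmem⟩ : N)
      rwa [Subgroup.orderOf_mk] at this
    rw [hyord] at h1
    exact hp.one_lt.ne' (Nat.Coprime.eq_one_of_dvd hNcop.symm h1)
  rw [← hy]
  by_contra hcon
  push Not at hcon
  apply hyN
  apply hCN
  obtain ⟨C, hC⟩ : ∃ C : Subgroup G, C = Subgroup.centralizer ({y} : Set G) ⊓ N := ⟨_, rfl⟩
  have hCle : C ≤ N := by rw [hC]; exact inf_le_right
  have hA : Subgroup.zpowers x ≤ Subgroup.normalizer (N : Set G) := by
    rw [Subgroup.normalizer_eq_top]; exact le_top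
  have hcardA : Nat.card (Subgroup.zpowers x) = p ^ n := by rw [Nat.card_zpowers, hn]
  have hcop : (Nat.card (Subgroup.zpowers x)).Coprime (Nat.card N) := by
    rw [hcardA]; exact Nat.Coprime.pow_left n hNcop.symm
  have hsolv : Group.IsSolvable (Subgroup.zpowers x) :=
    Group.isSolvable_of_comm (fun a b => by
      obtain ⟨i, hi⟩ := Subgroup.mem_zpowers_iff.mp a.2
      obtain ⟨j, hj⟩ := Subgroup.mem_zpowers_iff.mp b.2
      apply Subtype.ext
      rw [Subgroup.coe_mul, Subgroup.coe_mul, ← hi, ← hj, ← zpow_add, ← zpow_add, add_comm])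
  have hCN' : C = N := by
    apply Cfsg.Agent.Lib.helper66.eq_of_forall_sylow_le hCle
    intro q hqF
    have hq : q.Prime := hqF.out
    obtain ⟨P, hP⟩ := Cfsg.Agent.Lib.helper1.exists_invariant_sylow (p := q)
      (Subgroup.zpowers x) N hA hcop (Or.inl hsolv)
    refine ⟨P, ?_⟩
    have hQp : IsPGroup q ((P : Subgroup N).map N.subtype) := P.isPGroup'.map N.subtype
    have hQN : (P : Subgroup N).map N.subtype ≤ N := Subgroup.map_subtype_le _
    intro u hu
    rw [hC, Subgroup.mem_inf]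
    refine ⟨?_, hQN hu⟩
    rw [Subgroup.mem_centralizer_iff]
    intro h hh
    rw [Set.mem_singleton_iff] at hh
    subst hh
    by_cases hqp : q = p
    · subst hqp
      obtain ⟨k, hk⟩ := hQp ⟨u, hu⟩
      have hk' : u ^ q ^ k = 1 := by
        have := congrArg Subtype.val hk
        simpa using this
      have h1 : orderOf u ∣ q ^ k := orderOf_dvd_of_pow_eq_one hk'
      have h2 : orderOf u ∣ Nat.card N := by
        have := orderOf_dvd_natCard (⟨u, hQN hu⟩ : N)
        rwa [Subgroup.orderOf_mk] at this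
      have hc : (orderOf u).Coprime (Nat.card N) :=
        Nat.Coprime.coprime_dvd_left h1 (Nat.Coprime.pow_left k hNcop.symm)
      have h3 : orderOf u = 1 := Nat.Coprime.eq_one_of_dvd hc h2
      rw [orderOf_eq_one_iff] at h3
      rw [h3, mul_one, one_mul]
    · have hxinv : ∀ u ∈ (P : Subgroup N).map N.subtype,
          x * u * x⁻¹ ∈ (P : Subgroup N).map N.subtype := by
        intro u hu
        exact (Subgroup.mem_normalizer_iff.mp (hP (Subgroup.mem_zpowers x)) u).mp hu
      exact hcon q hq hqp _ hQp hxinv u hu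
  rw [Subgroup.mem_centralizer_iff]
  intro u hu
  have h1 : u ∈ C := by rw [hCN']; exact hu
  rw [hC, Subgroup.mem_inf, Subgroup.mem_centralizer_iff] at h1
  exact (h1.1 y (Set.mem_singleton y)).symm

/-- **Hall–Higman Theorem B** for a faithful representation in characteristic `p` of a finite
`p`-solvable group with `O_p = 1`. -/
theorem theoremB_rep {F : Type*} [Field F] {p : ℕ} [Fact p.Prime] [CharP F p] {V : Type*}
    [AddCommGroup V] [Module F V] [FiniteDimensional F V] {G : Type*} [Group G] [Finite G]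
    (ρ : G →* Module.End F V) (hinj : Function.Injective ρ)
    (hsol : Cfsg.IsPSolvable p G) (hOp : Cfsg.pCore p G = ⊥) (x : G) (n : ℕ) (hn1 : 1 ≤ n)
    (hn : orderOf x = p ^ n) (s : ℕ) (hs : (ρ x - 1) ^ s = 0) :
    p ^ n ≤ s ∨ ∃ n₀ q m : ℕ, 1 ≤ n₀ ∧ n₀ ≤ n ∧ q.Prime ∧ q ≠ p ∧ 1 ≤ m ∧ p ^ n₀ - 1 = q ^ m ∧
      (∀ Q : Sylow q G, ¬ IsMulCommutative Q) ∧ p ^ (n - n₀) * (p ^ n₀ - 1) ≤ s := by
  classical
  have hp : p.Prime := Fact.out
  obtain ⟨Φ, hΦ⟩ := exists_baseChange F V (AlgebraicClosure F)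
  have hchar : CharP (AlgebraicClosure F) p :=
    charP_of_injective_algebraMap (algebraMap F (AlgebraicClosure F)).injective p
  obtain ⟨ρK, hρK⟩ : ∃ ρK : G →* Module.End (AlgebraicClosure F)
      (Fin (Module.finrank F V) → AlgebraicClosure F), ∀ g, ρK g = Φ (ρ g) :=
    ⟨(Φ : Module.End F V →* _).comp ρ, fun g => rfl⟩
  have hinjK : Function.Injective ρK := fun a b h => hinj (hΦ (by rw [← hρK, ← hρK, h]))
  have hsK : (ρK x - 1) ^ s = 0 := by
    rw [hρK, ← map_one Φ, ← map_sub, ← map_pow, hs, map_zero]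
  obtain ⟨q, hq, hqp, Q, hQ, hxQ, u, hu, hyu⟩ := exists_q_subgroup hsol hOp x n hn1 hn
  have : Fact q.Prime := ⟨hq⟩
  have hxpn : x ^ p ^ n = 1 := by rw [← hn]; exact pow_orderOf_eq_one x
  have hH3 : ∃ u ∈ Q, ρK (x ^ p ^ (n - 1)) * ρK u ≠ ρK u * ρK (x ^ p ^ (n - 1)) := by
    refine ⟨u, hu, fun hcon => hyu (hinjK ?_)⟩
    rw [map_mul, map_mul, hcon]
  have hconcl := gen (K := AlgebraicClosure F) (p := p) (q := q) (fun h => hqp h.symm) _ G _ ρK Q
    x n s hQ hxQ hn1 hxpn hH3 hsK rfl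
  rcases hconcl with h | ⟨n₀, m, h1, h2, h3, h4, hnab, h6⟩
  · left
    exact h
  · right
    refine ⟨n₀, q, m, h1, h2, hq, hqp, h3, h4, ?_, h6⟩
    intro P hcomm
    obtain ⟨a, ha, b, hb, hab⟩ := hnab
    obtain ⟨P₀, hP₀⟩ := hQ.exists_le_sylow
    obtain ⟨g, hg⟩ := MulAction.exists_smul_eq G P P₀
    have key : ∀ c ∈ Q, g⁻¹ * c * g ∈ P := by
      intro c hc
      have h1 : c ∈ (P₀ : Subgroup G) := hP₀ hc
      rw [← hg, Sylow.coe_subgroup_smul, Subgroup.mem_pointwise_smul_iff_inv_smul_mem] at h1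
      have h2 : (MulAut.conj g)⁻¹ • c = g⁻¹ * c * g := by
        rw [← map_inv, MulAut.smul_def, MulAut.conj_apply]
        simp
      rw [h2] at h1
      exact h1
    apply hab
    have h1 := hcomm.is_comm.comm (⟨_, key a ha⟩ : P) ⟨_, key b hb⟩
    have h2 : (g⁻¹ * a * g) * (g⁻¹ * b * g) = (g⁻¹ * b * g) * (g⁻¹ * a * g) :=
      congrArg Subtype.val h1
    have h3 : g⁻¹ * (a * b) * g = g⁻¹ * (b * a) * g := by
      calc g⁻¹ * (a * b) * g = (g⁻¹ * a * g) * (g⁻¹ * b * g) := by group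
        _ = (g⁻¹ * b * g) * (g⁻¹ * a * g) := h2
        _ = g⁻¹ * (b * a) * g := by group
    exact mul_left_cancel (mul_right_cancel h3)

end Cfsg.Agent.Lib.helper38.HHB
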