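import Mathlib
import Cfsg.Agent.Lib.helper38.MinimalCoprime
import Cfsg.Agent.Lib.helper69.CoprimeAut

/-!
# Metacyclic 2-groups with an automorphism of odd order (tools for S1896)

* `involution_of_mem_zpowers`: the unique involution of a cyclic 2-group.
* `quaternion_relations`: two elements `a`, `b` of order `2 ^ m` generating normal cyclic
  subgroups with a common involution, with `a * b` of order `2 ^ m` and `b ∉ ⟨a⟩`, satisfy the
  quaternion relations.
* `frattini_fixed_structure`: an automorphism of odd prime order of a 2-generated 2-group acts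
  fixed-point-freely on the Frattini quotient, which has order 4.
* `two_mul_card_le_card`: a proper inclusion of finite subgroups at least doubles the order.
-/

set_option autoImplicit false

namespace Cfsg.Agent.Lib.helper38

/-- The unique involution of a cyclic 2-group. -/
theorem involution_of_mem_zpowers {G : Type*} [Group G] (a y : G) (m : ℕ)
    (ha : orderOf a = 2 ^ m) (hy : y ∈ Subgroup.zpowers a) (hy1 : y ≠ 1) (hy2 : y ^ 2 = 1) :
    1 ≤ m ∧ y = a ^ (2 ^ (m - 1)) := by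
  have hfin : IsOfFinOrder a := by
    rw [← orderOf_pos_iff, ha]; positivity
  obtain ⟨s, rfl⟩ := (Submonoid.mem_powers_iff _ _).mp (hfin.mem_powers_iff_mem_zpowers.mpr hy)
  have h1 : 2 ^ m ∣ s * 2 := by
    rw [← ha]; apply orderOf_dvd_of_pow_eq_one; rw [pow_mul]; exact hy2
  have h2 : ¬ 2 ^ m ∣ s := by
    intro h; apply hy1; rw [← ha] at h; exact orderOf_dvd_iff_pow_eq_one.mp h
  have hm : 1 ≤ m := by
    by_contra hm0
    have : m = 0 := by omega
    subst this
    exact h2 (by simp)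
  refine ⟨hm, ?_⟩
  obtain ⟨m', rfl⟩ : ∃ m', m = m' + 1 := ⟨m - 1, by omega⟩
  have h3 : 2 ^ m' ∣ s := by
    rw [pow_succ] at h1
    exact Nat.dvd_of_mul_dvd_mul_right (by norm_num) h1
  obtain ⟨w, rfl⟩ := h3
  have hw : ¬ 2 ∣ w := by
    intro hw
    apply h2
    rw [pow_succ]
    exact mul_dvd_mul_left _ hw
  obtain ⟨v, rfl⟩ : ∃ v, w = 2 * v + 1 := ⟨w / 2, by omega⟩
  rw [Nat.add_sub_cancel, pow_eq_pow_iff_modEq, ha]
  show (2 ^ m' * (2 * v + 1)) % 2 ^ (m' + 1) = 2 ^ m' % 2 ^ (m' + 1)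
  have : 2 ^ m' * (2 * v + 1) = 2 ^ (m' + 1) * v + 2 ^ m' := by ring
  rw [this, Nat.mul_add_mod]

/-- A proper inclusion of finite subgroups at least doubles the order. -/
theorem two_mul_card_le_card {G : Type*} [Group G] [Finite G] {H K : Subgroup G} (hle : H ≤ K)
    (x : G) (hx : x ∈ K) (hxH : x ∉ H) : 2 * Nat.card H ≤ Nat.card K := by
  obtain ⟨c, hc⟩ := Subgroup.card_dvd_of_le hle
  have hK : 0 < Nat.card K := Nat.card_pos
  have hH : 0 < Nat.card H := Nat.card_pos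
  have hc0 : c ≠ 0 := by
    rintro rfl; rw [mul_zero] at hc; omega
  have hc1 : c ≠ 1 := by
    rintro rfl
    rw [mul_one] at hc
    have := Subgroup.eq_of_le_of_card_ge hle (le_of_eq hc)
    exact hxH (this ▸ hx)
  have hc2 : 2 ≤ c := by omega
  rw [hc]
  calc 2 * Nat.card H = Nat.card H * 2 := by ring
    _ ≤ Nat.card H * c := Nat.mul_le_mul_left _ hc2

/-- Two elements `a`, `b` of order `2 ^ m` generating normal cyclic subgroups with a common
involution, with `a * b` of order `2 ^ m` and `b ∉ ⟨a⟩`, satisfy the quaternion relations. -/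
theorem quaternion_relations {G : Type*} [Group G] (a b : G) (m : ℕ) (hm : 1 ≤ m)
    (ha : orderOf a = 2 ^ m) (hb : orderOf b = 2 ^ m) (hab : orderOf (a * b) = 2 ^ m)
    (hinv : b ^ (2 ^ (m - 1)) = a ^ (2 ^ (m - 1))) (hne : b ∉ Subgroup.zpowers a)
    (hNa : b * a * b⁻¹ ∈ Subgroup.zpowers a) (hNb : a * b * a⁻¹ ∈ Subgroup.zpowers b) :
    a ^ 4 = 1 ∧ a ^ 2 ≠ 1 ∧ b ^ 2 = a ^ 2 ∧ b * a * b⁻¹ = a⁻¹ := by
  classical
  haveI : Fact (Nat.Prime 2) := ⟨Nat.prime_two⟩
  obtain ⟨z, hz⟩ : ∃ z, z = b * a * b⁻¹ * a⁻¹ := ⟨_, rfl⟩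
  have hzA : z ∈ Subgroup.zpowers a := by
    rw [hz]; exact mul_mem hNa (inv_mem (Subgroup.mem_zpowers a))
  have hzB : z ∈ Subgroup.zpowers b := by
    have : z = b * (a * b * a⁻¹)⁻¹ := by rw [hz]; group
    rw [this]; exact mul_mem (Subgroup.mem_zpowers b) (inv_mem hNb)
  -- elements of `⟨a⟩` commute with each other
  have hcommA : ∀ x ∈ Subgroup.zpowers a, ∀ y ∈ Subgroup.zpowers a, Commute x y := by
    intro x hx y hy
    obtain ⟨i, rfl⟩ := Subgroup.mem_zpowers_iff.mp hx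
    obtain ⟨j, rfl⟩ := Subgroup.mem_zpowers_iff.mp hy
    exact (Commute.refl a).zpow_zpow i j
  have hza : z * a = a * z := (hcommA z hzA a (Subgroup.mem_zpowers a)).eq
  have hzb : z * b = b * z := by
    obtain ⟨i, rfl⟩ := Subgroup.mem_zpowers_iff.mp hzB
    exact ((Commute.refl b).zpow_left i).eq
  have hrel : b * a = z * a * b := by rw [hz]; group
  have P1 := pow_mul_of_central_comm a b z hrel hzb
  have P2 := mul_pow_of_central_comm a b z hrel hza hzb
  -- the least `k` with `b ^ 2 ^ k ∈ ⟨a⟩`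
  have hex : ∃ k, b ^ (2 ^ k) ∈ Subgroup.zpowers a :=
    ⟨m - 1, by rw [hinv]; exact Subgroup.pow_mem _ (Subgroup.mem_zpowers a) _⟩
  obtain ⟨k, hk, hkmin⟩ : ∃ k, b ^ (2 ^ k) ∈ Subgroup.zpowers a ∧
      ∀ j, j < k → b ^ (2 ^ j) ∉ Subgroup.zpowers a :=
    ⟨Nat.find hex, Nat.find_spec hex, fun j hj => Nat.find_min hex hj⟩
  have hk1 : 1 ≤ k := by
    by_contra h
    have : k = 0 := by omega
    subst this
    apply hne; simpa using hk
  have hkm : k ≤ m - 1 := by
    by_contra h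
    exact hkmin (m - 1) (by omega)
      (by rw [hinv]; exact Subgroup.pow_mem _ (Subgroup.mem_zpowers a) _)
  -- `z ^ 2 ^ k = 1`
  have hzk : z ^ (2 ^ k) = 1 := by
    have h1 := P1 (2 ^ k)
    have h2 : b ^ (2 ^ k) * a = a * b ^ (2 ^ k) := (hcommA _ hk a (Subgroup.mem_zpowers a)).eq
    rw [h2, mul_assoc] at h1
    have h3 : 1 * (a * b ^ (2 ^ k)) = z ^ (2 ^ k) * (a * b ^ (2 ^ k)) := by rw [one_mul]; exact h1
    exact (mul_right_cancel h3).symm
  obtain ⟨e, he⟩ : ∃ e, e = z ^ (2 ^ k * (2 ^ k - 1) / 2) := ⟨_, rfl⟩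
  have heA : e ∈ Subgroup.zpowers a := by rw [he]; exact Subgroup.pow_mem _ hzA _
  have he2 : e ^ 2 = 1 := by
    rw [he, ← pow_mul, Nat.div_mul_cancel (even_iff_two_dvd.mp (Nat.even_mul_pred_self _)),
      pow_mul, hzk, one_pow]
  have hP2 : (a * b) ^ (2 ^ k) = a ^ (2 ^ k) * b ^ (2 ^ k) * e := by rw [he]; exact P2 (2 ^ k)
  -- the common involution
  have ht2 : a ^ (2 ^ (m - 1)) * a ^ (2 ^ (m - 1)) = 1 := by
    rw [← pow_add, ← two_mul, ← pow_succ', Nat.sub_add_cancel hm, ← ha, pow_orderOf_eq_one]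
  -- raise to the power `2 ^ (m - 1 - k)`
  have hpowne : (a * b) ^ (2 ^ (m - 1)) ≠ 1 := by
    intro h
    have h1 := orderOf_dvd_of_pow_eq_one h
    rw [hab] at h1
    have h2 := (Nat.pow_dvd_pow_iff_le_right (by norm_num : 1 < 2)).mp h1
    omega
  have hsplit : (a * b) ^ (2 ^ (m - 1)) = e ^ (2 ^ (m - 1 - k)) := by
    have h1 : 2 ^ (m - 1) = 2 ^ k * 2 ^ (m - 1 - k) := by
      rw [← pow_add]; congr 1; omega
    have hc1 : Commute (a ^ (2 ^ k)) (b ^ (2 ^ k)) :=
      hcommA _ (Subgroup.pow_mem _ (Subgroup.mem_zpowers a) _) _ hk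
    have hc2 : Commute (a ^ (2 ^ k) * b ^ (2 ^ k)) e :=
      hcommA _ (mul_mem (Subgroup.pow_mem _ (Subgroup.mem_zpowers a) _) hk) _ heA
    rw [h1, pow_mul, hP2, hc2.mul_pow, hc1.mul_pow, ← pow_mul, ← pow_mul, ← h1, hinv, ht2, one_mul]
  have hmk : m - 1 - k = 0 := by
    by_contra h
    apply hpowne
    rw [hsplit]
    obtain ⟨r, hr⟩ : ∃ r, m - 1 - k = r + 1 := ⟨m - 1 - k - 1, by omega⟩
    rw [hr, pow_succ', pow_mul, he2, one_pow]
  have hmk' : m = k + 1 := by omega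
  have he1 : e ≠ 1 := by
    intro h
    apply hpowne
    rw [hsplit, h, one_pow]
  obtain ⟨k', rfl⟩ : ∃ k', k = k' + 1 := ⟨k - 1, by omega⟩
  have hzk' : z ^ (2 ^ k') ≠ 1 := by
    intro h
    apply he1
    have h1 : 2 ^ (k' + 1) * (2 ^ (k' + 1) - 1) / 2 = 2 ^ k' * (2 ^ (k' + 1) - 1) := by
      rw [pow_succ, mul_comm (2 ^ k') 2, mul_assoc]
      exact Nat.mul_div_cancel_left _ (by norm_num)
    rw [he, h1, pow_mul, h, one_pow]
  have hordz : orderOf z = 2 ^ (k' + 1) := orderOf_eq_prime_pow hzk' hzk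
  -- `z ^ 2 = 1`
  have hfinb : IsOfFinOrder b := by
    rw [← orderOf_pos_iff, hb]; positivity
  obtain ⟨s, hs⟩ := (Submonoid.mem_powers_iff _ _).mp (hfinb.mem_powers_iff_mem_zpowers.mpr hzB)
  have hs0 : s ≠ 0 := by
    rintro rfl
    rw [pow_zero] at hs
    apply hzk'
    rw [← hs, one_pow]
  obtain ⟨j, w, hw, rfl⟩ := Nat.exists_eq_two_pow_mul_odd hs0
  have hjA : b ^ (2 ^ j) ∈ Subgroup.zpowers a := by
    have hord : orderOf (b ^ (2 ^ j)) ∣ 2 ^ m := by
      rw [← hb]; exact orderOf_pow_dvd _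
    obtain ⟨i, -, hi⟩ := (Nat.dvd_prime_pow Nat.prime_two).mp hord
    have hcop : w.Coprime (orderOf (b ^ (2 ^ j))) := by
      rw [hi]
      exact Nat.Coprime.pow_right _ (Nat.coprime_two_right.mpr hw)
    obtain ⟨r, hr⟩ := exists_pow_eq_self_of_coprime hcop
    rw [← hr]
    apply Subgroup.pow_mem
    rw [← pow_mul, hs]
    exact hzA
  have hjk : k' + 1 ≤ j := by
    by_contra h
    exact hkmin j (by omega) hjA
  have hz2 : z ^ 2 = 1 := by
    have h1 : 2 ^ j * w = 2 ^ (k' + 1) * (2 ^ (j - (k' + 1)) * w) := by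
      rw [← mul_assoc, ← pow_add]; congr 2; omega
    have h2 : (b ^ (2 ^ (k' + 1))) ^ 2 = 1 := by
      rw [← pow_mul, ← pow_succ, ← hmk', ← hb, pow_orderOf_eq_one]
    rw [← hs, h1, pow_mul, ← pow_mul, mul_comm, pow_mul, h2, one_pow]
  have hk0 : k' = 0 := by
    have h1 := orderOf_dvd_of_pow_eq_one hz2
    rw [hordz] at h1
    have h2 : 2 ^ (k' + 1) ≤ 2 := Nat.le_of_dvd (by norm_num) h1
    by_contra h
    have : 2 ^ 2 ≤ 2 ^ (k' + 1) := Nat.pow_le_pow_right (by norm_num) (by omega)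
    omega
  subst hk0
  subst hmk'
  have ha4 : a ^ 4 = 1 := by
    have : (4 : ℕ) = 2 ^ (0 + 1 + 1) := by norm_num
    rw [this, ← ha, pow_orderOf_eq_one]
  have ha2 : a ^ 2 ≠ 1 := by
    intro h
    have h1 := orderOf_dvd_of_pow_eq_one h
    rw [ha] at h1
    have := Nat.le_of_dvd (by norm_num) h1
    norm_num at this
  have hb2 : b ^ 2 = a ^ 2 := by simpa using hinv
  have hz1 : z ≠ 1 := by
    intro h; apply hzk'; rw [h, one_pow]
  have hzeq := (involution_of_mem_zpowers a z (0 + 1 + 1) ha hzA hz1 hz2).2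
  have hzeq' : z = a ^ 2 := by simpa using hzeq
  refine ⟨ha4, ha2, hb2, ?_⟩
  have h1 : b * a * b⁻¹ = z * a := by rw [hz]; group
  rw [h1, hzeq']
  have h2 : a ^ 2 * a * a = 1 := by
    rw [← ha4]; group
  exact eq_inv_of_mul_eq_one_left h2

/-- An automorphism of odd prime order of a finite 2-group whose Frattini quotient has order
dividing 4 acts without nontrivial fixed points on the Frattini quotient, which has order 4. -/
theorem frattini_fixed_structure {Q : Type*} [Group Q] [Finite Q] {q : ℕ} [Fact q.Prime]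
    (hq2 : q ≠ 2) (hQ : IsPGroup 2 Q) (hd : (frattini Q).index ∣ 4) (β : MulAut Q)
    (hβ : β ^ q = 1) (hne : β ≠ 1) :
    (frattini Q).index = 4 ∧ ∀ x : Q, β x * x⁻¹ ∈ frattini Q → x ∈ frattini Q := by
  classical
  haveI : Fact (Nat.Prime 2) := ⟨Nat.prime_two⟩
  have hp : (2 : ℕ).Prime := Nat.prime_two
  have hq : q.Prime := Fact.out
  have hpq : (2 : ℕ) ≠ q := fun h => hq2 h.symm
  have hchar : ∀ y : Q, β y ∈ frattini Q ↔ y ∈ frattini Q := by
    intro y
    have := (frattini_characteristic (G := Q)).fixed β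
    conv_rhs => rw [← this]
    rfl
  let D : Subgroup Q :=
    { carrier := {x | β x * x⁻¹ ∈ frattini Q}
      mul_mem' := fun {a b} ha hb => by
        simp only [Set.mem_ofPred_eq] at ha hb ⊢
        have h1 := (frattini Q).normal_of_characteristic.conj_mem _ hb (β a)
        have : β (a * b) * (a * b)⁻¹ = β a * (β b * b⁻¹) * (β a)⁻¹ * (β a * a⁻¹) := by
          rw [map_mul]; group
        rw [this]
        exact mul_mem h1 ha
      one_mem' := by simp
      inv_mem' := fun {a} ha => by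
        simp only [Set.mem_ofPred_eq] at ha ⊢
        have h1 := (frattini Q).normal_of_characteristic.conj_mem _ (inv_mem ha) a⁻¹
        have : β a⁻¹ * a⁻¹⁻¹ = a⁻¹ * (β a * a⁻¹)⁻¹ * a⁻¹⁻¹ := by
          rw [map_inv]; group
        rw [this]
        exact h1 }
  have hΦD : frattini Q ≤ D := by
    intro y hy
    show β y * y⁻¹ ∈ frattini Q
    exact mul_mem ((hchar y).mpr hy) (inv_mem hy)
  have hDne : D ≠ ⊤ := by
    intro hD
    apply hne
    apply helper69.mulAut_eq_one_of_trivial_mod_frattini hpq hQ β hβ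
    intro x
    have : x ∈ D := hD ▸ Subgroup.mem_top x
    exact this
  let T : Set Q := {x | x ∉ D}
  have hT : ∀ y ∈ T, β y ∈ T := by
    intro y hy hβy
    apply hy
    have h1 : β (β y) * (β y)⁻¹ ∈ frattini Q := hβy
    have h2 : β (β y) * (β y)⁻¹ = β (β y * y⁻¹) := by rw [map_mul, map_inv]
    rw [h2] at h1
    exact (hchar _).mp h1
  have hTfix : ∀ y ∈ T, β y ≠ y := by
    intro y hy hfix
    apply hy
    show β y * y⁻¹ ∈ frattini Q
    rw [hfix, mul_inv_cancel]; exact one_mem _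
  have hqT : q ∣ Nat.card T := helper69.dvd_card_of_no_fixed β hβ T hT hTfix
  obtain ⟨n, hn⟩ := (IsPGroup.iff_card).mp hQ
  have hDdvd : Nat.card D ∣ 2 ^ n := hn ▸ Subgroup.card_subgroup_dvd_card D
  obtain ⟨m, hmn, hm⟩ := (Nat.dvd_prime_pow hp).mp hDdvd
  have hmlt : m < n := by
    rcases hmn.lt_or_eq with h | h
    · exact h
    · exfalso; apply hDne
      apply (Subgroup.card_eq_iff_eq_top D).mp
      rw [hm, hn, h]
  have hcardT : Nat.card T = 2 ^ n - 2 ^ m := by
    haveI : Fintype Q := Fintype.ofFinite Q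
    have h1 : Nat.card T = Nat.card {x : Q // ¬ x ∈ D} := rfl
    rw [h1, Nat.card_eq_fintype_card, Fintype.card_subtype_compl, ← Nat.card_eq_fintype_card,
      ← Nat.card_eq_fintype_card, hn]
    congr 1
  have hfactor : 2 ^ n - 2 ^ m = 2 ^ m * (2 ^ (n - m) - 1) := by
    rw [Nat.mul_sub, mul_one, ← pow_add, Nat.add_sub_cancel' hmn]
  rw [hcardT, hfactor] at hqT
  have hqp : ¬ q ∣ 2 ^ m := by
    intro h
    exact hpq ((Nat.prime_dvd_prime_iff_eq hq hp).mp (hq.dvd_of_dvd_pow h)).symm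
  have hq1 : q ∣ 2 ^ (n - m) - 1 := (hq.dvd_mul.mp hqT).resolve_left hqp
  have hidx : D.index = 2 ^ (n - m) := by
    have h1 := D.card_mul_index
    rw [hm, hn] at h1
    have h2 : 2 ^ m * 2 ^ (n - m) = 2 ^ n := by rw [← pow_add, Nat.add_sub_cancel' hmn]
    exact Nat.eq_of_mul_eq_mul_left (pow_pos hp.pos m) (h1.trans h2.symm)
  have hrel := Subgroup.relIndex_mul_index hΦD
  have h3 : 2 ^ (n - m) ∣ 2 ^ 2 := by
    have : D.index ∣ (frattini Q).index := ⟨_, by rw [← hrel, mul_comm]⟩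
    rw [hidx] at this
    exact this.trans (by norm_num; exact hd)
  have h4 : n - m ≤ 2 := (Nat.pow_dvd_pow_iff_le_right hp.one_lt).mp h3
  have h5 : n - m = 2 := by
    have h6 : n - m = 1 ∨ n - m = 2 := by omega
    rcases h6 with h6 | h6
    · rw [h6] at hq1
      norm_num at hq1
      exact absurd hq1 hq.one_lt.ne'
    · exact h6
  rw [h5] at hidx
  have hidx4 : D.index = 4 := by rw [hidx]; norm_num
  rw [hidx4] at hrel
  have hrel1 : (frattini Q).relIndex D = 1 := by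
    obtain ⟨c, hc⟩ := hd
    rw [← hrel] at hc
    have hc' : (frattini Q).relIndex D * c = 1 := by nlinarith
    exact Nat.eq_one_of_mul_eq_one_right hc'
  refine ⟨by rw [← hrel, hrel1], ?_⟩
  intro x hx
  exact (Subgroup.relIndex_eq_one.mp hrel1) hx

end Cfsg.Agent.Lib.helper38
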