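import Mathlib
import Cfsg.Agent.Lib.helper38.RO1
import Cfsg.Agent.Lib.helper38.RONorm
import Cfsg.Agent.Lib.helper49.ROR2
import Cfsg.Agent.Lib.helper39.ROExT

/-!
# S4330 — piece EX-A: the nonabelian step of the regular-vector theorem
-/

set_option autoImplicit false

namespace Cfsg.Agent.Lib.helper38.RO

universe u v

set_option linter.unusedSectionVars false

section EXA
variable {M : Type v} [CommGroup M] [Finite M]

theorem h38_mem_fixedPts_zpowers (c : MulAut M) (m : M) :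
    m ∈ fixedPts (Subgroup.zpowers c) ↔ c m = m := by
  rw [← le_stabilizer_iff, Subgroup.zpowers_le, MulAction.mem_stabilizer_iff, MulAut.smul_def]

theorem h38_fix_conj (g c c' : MulAut M) (h : g * c * g⁻¹ = c') (m : M) (hm : c m = m) :
    c' (g m) = g m := by
  rw [← h]; simp [MulAut.mul_apply, hm]

theorem h38_pow_fix (c : MulAut M) (m : M) (h : c m = m) (n : ℕ) : (c ^ n) m = m := by
  induction n with
  | zero => simp
  | succ n ih => rw [pow_succ, MulAut.mul_apply, h, ih]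

theorem ex_nonabelian (p : ℕ) [Fact p.Prime] (hp : p ≠ 2)
    (hcop : ¬ p ∣ Nat.card M) (k : ℕ) (ih : EXGoal.{v} p k)
    (E Z : Subgroup (MulAut M)) (hk : Nat.card ↥E ≤ k + 1) (hZE : Z ≤ E)
    (hZcard : Nat.card ↥Z = p)
    (hZc : ∀ z ∈ Z, ∀ e ∈ E, z * e = e * z) (hEp : ∀ e ∈ E, e ^ p = 1)
    (hEcomm : ∀ e ∈ E, ∀ f ∈ E, e * f * e⁻¹ * f⁻¹ ∈ Z) (hZfix : fixedPts Z = ⊥)
    (hna : ∃ a ∈ E, ∃ b ∈ E, a * b ≠ b * a) :
    ∃ m : M, ∀ e ∈ E, e m = m → e = 1 := by
  classical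
  have hpp : p.Prime := Fact.out
  have hp2 : 2 ≤ p := hpp.two_le
  have hp3 : 3 ≤ p := by omega
  obtain ⟨a, ha, b, hb, hab⟩ := hna
  set z : MulAut M := a * b * a⁻¹ * b⁻¹ with hz
  have hzZ : z ∈ Z := hEcomm a ha b hb
  have hzE : z ∈ E := hZE hzZ
  have hz1 : z ≠ 1 := by
    intro h
    apply hab
    have h' : a * b * a⁻¹ * b⁻¹ = 1 := h
    calc a * b = (a * b * a⁻¹ * b⁻¹) * (b * a) := by group
      _ = b * a := by rw [h', one_mul]
  have hzp : z ^ p = 1 := hEp z hzE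
  have hap : a ^ p = 1 := hEp a ha
  have hza : z * a = a * z := hZc z hzZ a ha
  have hzb : z * b = b * z := hZc z hzZ b hb
  have haz : Commute a z := hza.symm
  have hZz : Subgroup.zpowers z = Z := by
    apply Subgroup.eq_of_le_of_card_ge ((Subgroup.zpowers_le).mpr hzZ)
    rw [hZcard, Nat.card_zpowers]
    have hdvd : orderOf z ∣ p := orderOf_dvd_of_pow_eq_one hzp
    rcases (Nat.dvd_prime hpp).mp hdvd with h1 | h1
    · exact absurd (orderOf_eq_one_iff.mp h1) hz1
    · exact h1.ge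
  have hZpow : ∀ y ∈ Z, ∃ t < p, y = z ^ t := by
    intro y hy
    rw [← hZz, ← mem_powers_iff_mem_zpowers] at hy
    obtain ⟨n, rfl⟩ := hy
    exact ⟨n % p, Nat.mod_lt _ hpp.pos, pow_eq_pow_mod n hzp⟩
  have hfix : ∀ m : M, z m = m → m = 1 := by
    intro m hm
    have h1 : m ∈ fixedPts Z := by
      rw [← hZz, h38_mem_fixedPts_zpowers]; exact hm
    rw [hZfix, Subgroup.mem_bot] at h1
    exact h1
  have L1 : ∀ d : ℕ, ¬ p ∣ d → ∀ x : M, (z ^ d) x = x → x = 1 := by
    intro d hd x hx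
    have hcop' : Nat.Coprime d p :=
      Nat.Coprime.symm ((Nat.Prime.coprime_iff_not_dvd hpp).mpr hd)
    obtain ⟨s, -, hs⟩ := Nat.exists_mul_mod_eq_one_of_coprime hcop' hpp.one_lt
    apply hfix
    have h1 : ((z ^ d) ^ s) x = x := h38_pow_fix _ x hx s
    rw [← pow_mul, pow_eq_pow_mod (d * s) hzp, hs, pow_one] at h1
    exact h1
  have hcp : ∀ j : ℕ, (a * z ^ j) ^ p = 1 := by
    intro j
    have hc : Commute a (z ^ j) := Commute.pow_right haz j
    rw [hc.mul_pow, hap, ← pow_mul, mul_comm, pow_mul, hzp, one_pow, one_mul]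
  have hcc : ∀ j l : ℕ, (a * z ^ j) * (a * z ^ l) = (a * z ^ l) * (a * z ^ j) := by
    intro j l
    have h1 : Commute a (z ^ j) := Commute.pow_right haz j
    have h2 : Commute a (z ^ l) := Commute.pow_right haz l
    have h3 : Commute (z ^ j) (z ^ l) := (Commute.refl z).pow_pow j l
    exact (Commute.mul_left ((Commute.refl a).mul_right h2) (h1.symm.mul_right h3)).eq
  have L2' : ∀ j l : ℕ, j ≤ l → ¬ p ∣ (l - j) → ∀ x : M, (a * z ^ j) x = x → (a * z ^ l) x = x →
      x = 1 := by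
    intro j l hjl hnd x hj hl
    apply L1 (l - j) hnd
    have h1 : a * z ^ l = (a * z ^ j) * z ^ (l - j) := by
      rw [mul_assoc, ← pow_add, Nat.add_sub_cancel' hjl]
    rw [h1, MulAut.mul_apply] at hl
    exact (a * z ^ j).injective (hl.trans hj.symm)
  have L2 : ∀ j l : ℕ, j % p ≠ l % p → ∀ x : M, (a * z ^ j) x = x → (a * z ^ l) x = x →
      x = 1 := by
    intro j l hne x hj hl
    rcases le_total j l with h | h
    · refine L2' j l h ?_ x hj hl
      intro hd
      exact hne ((Nat.modEq_iff_dvd' h).mpr hd)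
    · refine L2' l j h ?_ x hl hj
      intro hd
      exact hne ((Nat.modEq_iff_dvd' h).mpr hd).symm
  have Pb : ∀ j l : ℕ, j % p ≠ l % p → ∀ m : M, (a * z ^ l) m = m →
      cycProd (a * z ^ j) p m = 1 := by
    intro j l hne m hm
    apply L2 j l hne
    · exact cycProd_fixed _ p (hcp j) m
    · rw [cycProd_comm (a * z ^ j) (a * z ^ l) (hcc l j) p m, hm]
  have Pa : ∀ j : ℕ, ∀ m : M, (a * z ^ j) m = m → cycProd (a * z ^ j) p m = m ^ p :=
    fun j m hm => cycProd_of_fixed _ p m hm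
  have hpinj : ∀ x y : M, x ^ p = y ^ p → x = y := by
    have hcop2 : (Nat.card M).Coprime p :=
      Nat.Coprime.symm ((Nat.Prime.coprime_iff_not_dvd hpp).mpr hcop)
    intro x y h
    exact (powCoprime hcop2).injective h
  have hbab : b * a * b⁻¹ = z⁻¹ * a := by rw [hz]; group
  have hbc : ∀ i : ℕ, b * (a * z ^ (i + 1)) * b⁻¹ = a * z ^ i := by
    intro i
    have h1 : b * (a * z ^ (i + 1)) * b⁻¹ = (b * a * b⁻¹) * (b * z ^ (i + 1) * b⁻¹) := by group
    have h2 : b * z ^ (i + 1) * b⁻¹ = z ^ (i + 1) := by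
      have h3 : Commute b (z ^ (i + 1)) := Commute.pow_right (show Commute b z from hzb.symm) _
      rw [h3.eq, mul_inv_cancel_right]
    rw [h1, h2, hbab, pow_succ']
    calc z⁻¹ * a * (z * z ^ i) = z⁻¹ * (a * z) * z ^ i := by group
      _ = z⁻¹ * (z * a) * z ^ i := by rw [hza]
      _ = a * z ^ i := by group
  have hbpow : ∀ i : ℕ, b ^ i * (a * z ^ i) * (b ^ i)⁻¹ = a := by
    intro i
    induction i with
    | zero => simp
    | succ i ih =>
      calc b ^ (i + 1) * (a * z ^ (i + 1)) * (b ^ (i + 1))⁻¹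
          = b ^ i * (b * (a * z ^ (i + 1)) * b⁻¹) * (b ^ i)⁻¹ := by rw [pow_succ b i]; group
        _ = a := by rw [hbc i, ih]
  set M₀ : Subgroup M := fixedPts (Subgroup.zpowers a) with hM₀
  have hM₀mem : ∀ m, m ∈ M₀ ↔ a m = m := fun m => h38_mem_fixedPts_zpowers a m
  have hto0 : ∀ i : ℕ, ∀ m : M, (a * z ^ i) m = m → a ((b ^ i) m) = (b ^ i) m :=
    fun i m hm => h38_fix_conj (b ^ i) (a * z ^ i) a (hbpow i) m hm
  have hM₀ne : M₀ ≠ ⊥ := by
    intro h0
    have hS : (⊥ : Subgroup M) = ⊤ := by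
      apply gen_rank_two' p hcop a z hza.symm hap hzp hfix ⊥
      intro i _ m hm
      have h1 : (b ^ i) m ∈ M₀ := (hM₀mem _).mpr (hto0 i m hm)
      rw [h0, Subgroup.mem_bot] at h1
      rw [Subgroup.mem_bot]
      exact (MulEquiv.map_eq_one_iff (b ^ i)).mp h1
    apply hz1
    ext m
    have hm : m ∈ (⊥ : Subgroup M) := by rw [hS]; trivial
    rw [Subgroup.mem_bot] at hm
    subst hm
    simp
  set E' : Subgroup (MulAut M) := E ⊓ Subgroup.centralizer {a, b} with hE'
  have hE'mem : ∀ e, e ∈ E' ↔ e ∈ E ∧ a * e = e * a ∧ b * e = e * b := by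
    intro e
    rw [hE', Subgroup.mem_inf, Subgroup.mem_centralizer_iff]
    constructor
    · rintro ⟨h1, h2⟩
      exact ⟨h1, h2 a (by simp), h2 b (by simp)⟩
    · rintro ⟨h1, h2, h3⟩
      refine ⟨h1, ?_⟩
      intro g hg
      rcases hg with rfl | rfl
      · exact h2
      · exact h3
  have hZE' : Z ≤ E' := by
    intro y hy
    rw [hE'mem]
    exact ⟨hZE hy, (hZc y hy a ha).symm, (hZc y hy b hb).symm⟩
  have hbE' : b ∉ E' := fun h => hab ((hE'mem b).mp h).2.1
  have hE'le : E' ≤ E := inf_le_left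
  have hcardE' : Nat.card ↥E' ≤ k := by
    have h1 : Nat.card ↥E' ≤ Nat.card ↥E := Subgroup.card_le_of_le hE'le
    have h2 : Nat.card ↥E' ≠ Nat.card ↥E := by
      intro h
      have h3 := Subgroup.eq_of_le_of_card_ge hE'le h.ge
      exact hbE' (h3 ▸ hb)
    omega
  obtain ⟨w₀, hw₀M, hw₀⟩ := ex_transport p hcop k ih E' Z hZE' hZcard
    (fun y hy e he => hZc y hy e (hE'le he)) (fun e he => hEp e (hE'le he))
    (fun e he f hf => hEcomm e (hE'le he) f (hE'le hf)) hZfix M₀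
    (by
      intro e he m hm
      rw [hM₀mem] at hm ⊢
      have h1 := ((hE'mem e).mp he).2.1
      have h2 : (a * e) m = (e * a) m := by rw [h1]
      simp only [MulAut.mul_apply] at h2
      rw [h2, hm])
    hM₀ne (Or.inl hcardE')
  have haw₀ : a w₀ = w₀ := (hM₀mem w₀).mp hw₀M
  have hzE' : z ∈ E' := hZE' hzZ
  have hw₀1 : w₀ ≠ 1 := by
    intro h
    obtain ⟨m₀, hm₀, hm₀1⟩ : ∃ m₀ ∈ M₀, m₀ ≠ 1 := by
      by_contra hcon
      push Not at hcon
      exact hM₀ne ((Subgroup.eq_bot_iff_forall _).mpr hcon)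
    have h1 := hw₀ z hzE' (by rw [h]; simp) m₀ hm₀
    exact hm₀1 (hfix m₀ h1)
  have hzinv : z⁻¹ = z ^ (p - 1) := by
    apply inv_eq_of_mul_eq_one_left
    rw [← pow_succ, Nat.sub_add_cancel (by omega), hzp]
  have hbw : (a * z ^ (p - 1)) (b w₀) = b w₀ := by
    apply h38_fix_conj b a (a * z ^ (p - 1)) _ w₀ haw₀
    rw [hbab, hzinv]
    exact ((Commute.pow_right haz (p - 1)).eq).symm
  have hbw1 : b w₀ ≠ 1 := fun h => hw₀1 ((MulEquiv.map_eq_one_iff b).mp h)
  have hmod0 : 0 % p ≠ (p - 1) % p := by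
    rw [Nat.zero_mod, Nat.mod_eq_of_lt (by omega)]; omega
  have hP0w : cycProd (a * z ^ 0) p (w₀ * b w₀) = w₀ ^ p := by
    rw [cycProd_mul, Pa 0 w₀ (by simpa using haw₀), Pb 0 (p - 1) hmod0 (b w₀) hbw, mul_one]
  have hPlw : cycProd (a * z ^ (p - 1)) p (w₀ * b w₀) = (b w₀) ^ p := by
    rw [cycProd_mul, Pb (p - 1) 0 hmod0.symm w₀ (by simpa using haw₀), Pa (p - 1) (b w₀) hbw,
      one_mul]
  refine ⟨w₀ * b w₀, ?_⟩
  intro e he hew
  rw [map_mul] at hew
  obtain ⟨t, ht, hta⟩ := hZpow _ (hEcomm e he a ha)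
  have hez : Commute e z := (hZc z hzZ e he).symm
  have hea : e * a * e⁻¹ = a * z ^ t := by
    have h1 : e * a * e⁻¹ = (e * a * e⁻¹ * a⁻¹) * a := by group
    rw [h1, hta]
    exact (Commute.pow_right haz t).eq.symm
  have hew₀ : (a * z ^ t) (e w₀) = e w₀ := h38_fix_conj e a (a * z ^ t) hea w₀ haw₀
  have hebw : (a * z ^ (t + (p - 1))) (e (b w₀)) = e (b w₀) := by
    apply h38_fix_conj e (a * z ^ (p - 1)) _ _ (b w₀) hbw
    have hze : Commute e (z ^ (p - 1)) := Commute.pow_right hez _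
    calc e * (a * z ^ (p - 1)) * e⁻¹ = (e * a * e⁻¹) * (e * z ^ (p - 1) * e⁻¹) := by group
      _ = a * z ^ t * z ^ (p - 1) := by rw [hea, hze.eq, mul_inv_cancel_right]
      _ = a * z ^ (t + (p - 1)) := by rw [mul_assoc, ← pow_add]
  have ht0 : t = 0 := by
    by_contra htne
    have hmodt : (t + (p - 1)) % p = t - 1 := by
      have h1 : t + (p - 1) = (t - 1) + p := by omega
      rw [h1, Nat.add_mod_right, Nat.mod_eq_of_lt (by omega)]
    by_cases ht1 : t = 1
    · have h1 : cycProd (a * z ^ (p - 1)) p (e w₀ * e (b w₀)) = 1 := by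
        rw [cycProd_mul, Pb (p - 1) t ?_ (e w₀) hew₀, Pb (p - 1) (t + (p - 1)) ?_ (e (b w₀)) hebw,
          one_mul]
        · rw [hmodt, Nat.mod_eq_of_lt (by omega)]; omega
        · rw [Nat.mod_eq_of_lt (by omega), Nat.mod_eq_of_lt ht]; omega
      rw [hew, hPlw] at h1
      exact hbw1 (hpinj _ _ (by rw [h1, one_pow]))
    · have h1 : cycProd (a * z ^ 0) p (e w₀ * e (b w₀)) = 1 := by
        rw [cycProd_mul, Pb 0 t ?_ (e w₀) hew₀, Pb 0 (t + (p - 1)) ?_ (e (b w₀)) hebw, one_mul]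
        · rw [hmodt, Nat.zero_mod]; omega
        · rw [Nat.zero_mod, Nat.mod_eq_of_lt ht]; omega
      rw [hew, hP0w] at h1
      exact hw₀1 (hpinj _ _ (by rw [h1, one_pow]))
  subst ht0
  rw [pow_zero, mul_one] at hea hew₀
  rw [zero_add] at hebw
  have hea' : e * a = a * e := mul_inv_eq_iff_eq_mul.mp hea
  have h5 : e w₀ = w₀ := by
    apply hpinj
    have h1 : cycProd (a * z ^ 0) p (e w₀ * e (b w₀)) = (e w₀) ^ p := by
      rw [cycProd_mul, Pa 0 (e w₀) (by simpa using hew₀), Pb 0 (p - 1) hmod0 (e (b w₀)) hebw,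
        mul_one]
    rw [hew, hP0w] at h1
    exact h1.symm
  have h6 : e (b w₀) = b w₀ := by
    apply hpinj
    have h1 : cycProd (a * z ^ (p - 1)) p (e w₀ * e (b w₀)) = (e (b w₀)) ^ p := by
      rw [cycProd_mul, Pb (p - 1) 0 hmod0.symm (e w₀) (by simpa using hew₀),
        Pa (p - 1) (e (b w₀)) hebw, one_mul]
    rw [hew, hPlw] at h1
    exact h1.symm
  obtain ⟨s, hs, hsb⟩ := hZpow _ (hEcomm e he b hb)
  have heb : e * b * e⁻¹ = z ^ s * b := by
    have h1 : e * b * e⁻¹ = (e * b * e⁻¹ * b⁻¹) * b := by group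
    rw [h1, hsb]
  have habz : a * b * a⁻¹ = z * b := by rw [hz]; group
  have hapow : ∀ i : ℕ, a ^ i * b * (a ^ i)⁻¹ = z ^ i * b := by
    intro i
    induction i with
    | zero => simp
    | succ i ih =>
      calc a ^ (i + 1) * b * (a ^ (i + 1))⁻¹ = a * (a ^ i * b * (a ^ i)⁻¹) * a⁻¹ := by
            rw [pow_succ' a i]; group
        _ = a * (z ^ i * b) * a⁻¹ := by rw [ih]
        _ = (a * z ^ i * a⁻¹) * (a * b * a⁻¹) := by group
        _ = z ^ i * (z * b) := by
            rw [habz, (Commute.pow_right haz i).eq, mul_inv_cancel_right]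
        _ = z ^ (i + 1) * b := by rw [pow_succ, mul_assoc (z ^ i) z b]
  set e' := e * a ^ (p - s) with he'
  have he'E : e' ∈ E := E.mul_mem he (E.pow_mem ha _)
  have he'a : a * e' = e' * a := by
    rw [he']
    have h1 : Commute a e := hea'.symm
    exact (h1.mul_right ((Commute.refl a).pow_right _)).eq
  have he'b : b * e' = e' * b := by
    have h1 : e' * b * e'⁻¹ = b := by
      calc e' * b * e'⁻¹ = e * (a ^ (p - s) * b * (a ^ (p - s))⁻¹) * e⁻¹ := by rw [he']; group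
        _ = e * (z ^ (p - s) * b) * e⁻¹ := by rw [hapow]
        _ = (e * z ^ (p - s) * e⁻¹) * (e * b * e⁻¹) := by group
        _ = z ^ (p - s) * (z ^ s * b) := by
            rw [heb, (Commute.pow_right hez _).eq, mul_inv_cancel_right]
        _ = b := by rw [← mul_assoc, ← pow_add, Nat.sub_add_cancel hs.le, hzp, one_mul]
    exact (mul_inv_eq_iff_eq_mul.mp h1).symm
  have he'E' : e' ∈ E' := (hE'mem e').mpr ⟨he'E, he'a, he'b⟩
  have he'w₀ : e' w₀ = w₀ := by
    rw [he', MulAut.mul_apply, h38_pow_fix a w₀ haw₀, h5]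
  have he'M₀ := hw₀ e' he'E' he'w₀
  have he'1 : e' = 1 := by
    have hS : fixedPts (Subgroup.zpowers e') = ⊤ := by
      apply gen_rank_two' p hcop a z hza.symm hap hzp hfix
      intro i _ m hm
      rw [h38_mem_fixedPts_zpowers]
      have h1 : (b ^ i) m ∈ M₀ := (hM₀mem _).mpr (hto0 i m hm)
      have h2 := he'M₀ _ h1
      have h3 : Commute e' (b ^ i) := Commute.pow_right (show Commute e' b from he'b.symm) i
      have h4 : (e' * b ^ i) m = (b ^ i * e') m := by rw [h3.eq]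
      simp only [MulAut.mul_apply] at h4
      rw [h4] at h2
      exact (b ^ i).injective h2
    ext m
    have h1 : m ∈ fixedPts (Subgroup.zpowers e') := by rw [hS]; trivial
    exact (h38_mem_fixedPts_zpowers e' m).mp h1
  have hes : e = a ^ s := by
    have h1 : e * a ^ (p - s) = 1 := he'1
    have h2 : a ^ (p - s) * a ^ s = 1 := by rw [← pow_add, Nat.sub_add_cancel hs.le, hap]
    calc e = e * (a ^ (p - s) * a ^ s) := by rw [h2, mul_one]
      _ = (e * a ^ (p - s)) * a ^ s := by rw [mul_assoc]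
      _ = a ^ s := by rw [h1, one_mul]
  have hax : a (b w₀) = z (b w₀) := by
    have h1 : a ((z ^ (p - 1)) (b w₀)) = b w₀ := hbw
    have h2 : z ((z ^ (p - 1)) (b w₀)) = b w₀ := by
      have h3 : (z * z ^ (p - 1)) (b w₀) = b w₀ := by
        rw [← pow_succ', Nat.sub_add_cancel (by omega), hzp]; rfl
      exact h3
    calc a (b w₀) = a (z ((z ^ (p - 1)) (b w₀))) := by rw [h2]
      _ = z (a ((z ^ (p - 1)) (b w₀))) := by
          have h3 : (a * z) ((z ^ (p - 1)) (b w₀)) = (z * a) ((z ^ (p - 1)) (b w₀)) := by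
            rw [hza]
          exact h3
      _ = z (b w₀) := by rw [h1]
  have hasx : ∀ i : ℕ, (a ^ i) (b w₀) = (z ^ i) (b w₀) := by
    intro i
    induction i with
    | zero => simp
    | succ i ih =>
      have hc : Commute (a ^ i) z := Commute.pow_left haz i
      calc (a ^ (i + 1)) (b w₀) = (a ^ i) (a (b w₀)) := by rw [pow_succ]; rfl
        _ = (a ^ i) (z (b w₀)) := by rw [hax]
        _ = z ((a ^ i) (b w₀)) := by
            have h3 : (a ^ i * z) (b w₀) = (z * a ^ i) (b w₀) := by rw [hc.eq]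
            exact h3
        _ = z ((z ^ i) (b w₀)) := by rw [ih]
        _ = (z ^ (i + 1)) (b w₀) := by rw [pow_succ']; rfl
  have hs0 : s = 0 := by
    by_contra hsne
    have h1 : (z ^ s) (b w₀) = b w₀ := by
      rw [← hasx s, ← hes]; exact h6
    exact hbw1 (L1 s (Nat.not_dvd_of_pos_of_lt (by omega) hs) _ h1)
  rw [hes, hs0, pow_zero]

end EXA

end Cfsg.Agent.Lib.helper38.RO
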