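import Mathlib
import Cfsg.Agent.Lib.helper38.RO1
import Cfsg.Agent.Lib.helper38.RONorm
import Cfsg.Agent.Lib.helper39.ROStep2
import Cfsg.Agent.Lib.helper1.RODec1
import Cfsg.Agent.Lib.helper63.RODec2
import Cfsg.Agent.Lib.helper26.ROStructA
import Cfsg.Agent.Lib.helper26.ROStructB
import Cfsg.Agent.Lib.helper57.ROStructC
import Cfsg.Agent.Lib.helper38.ROExA
import Cfsg.Agent.Lib.helper63.ROExB

/-!
# S4330 — main induction (regular-orbit-type theorem for odd `p`)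
-/

set_option autoImplicit false

namespace Cfsg.Agent.Lib.helper38.RO

universe u v

/-- EX: all `k`. -/
theorem exGoal_all (p : ℕ) [Fact p.Prime] (hp : p ≠ 2) : ∀ k : ℕ, EXGoal.{v} p k := by
  intro k
  induction k with
  | zero =>
    intro M _ _ hcop E Z hk _ _ _ _ _ _
    exfalso
    have : 0 < Nat.card ↥E := Nat.card_pos
    omega
  | succ k ih =>
    intro M _ _ hcop E Z hk hZE hZcard hZc hEp hEcomm hZfix
    by_cases hab : ∀ a ∈ E, ∀ b ∈ E, a * b = b * a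
    · exact ex_abelian p hcop k ih E Z hk hZE hZcard hEp hZfix hab
    · push Not at hab
      obtain ⟨a, ha, b, hb, hne⟩ := hab
      exact ex_nonabelian p hp hcop k ih E Z hk hZE hZcard hZc hEp hEcomm hZfix
        ⟨a, ha, b, hb, hne⟩

theorem ex_regular (p : ℕ) [Fact p.Prime] (hp : p ≠ 2) {M : Type v} [CommGroup M] [Finite M]
    (hcop : ¬ p ∣ Nat.card M)
    (E Z : Subgroup (MulAut M)) (hZE : Z ≤ E) (hZcard : Nat.card ↥Z = p)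
    (hZc : ∀ z ∈ Z, ∀ e ∈ E, z * e = e * z) (hEp : ∀ e ∈ E, e ^ p = 1)
    (hEcomm : ∀ e ∈ E, ∀ f ∈ E, e * f * e⁻¹ * f⁻¹ ∈ Z) (hZfix : fixedPts Z = ⊥) :
    ∃ m : M, ∀ e ∈ E, e m = m → e = 1 :=
  exGoal_all p hp (Nat.card ↥E) M hcop E Z le_rfl hZE hZcard hZc hEp hEcomm hZfix

/-- Structure of `Q` in the base case. -/
theorem struct_base (p : ℕ) [Fact p.Prime] (hp : p ≠ 2) {Γ : Type*} [Group Γ] [Finite Γ]
    (N Q : Subgroup Γ) (hQN : Q ≤ N) (hnorm : ∀ n ∈ N, ∀ q ∈ Q, n * q * n⁻¹ ∈ Q)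
    (hQ : IsPGroup p ↥Q) (hQ1 : Q ≠ ⊥)
    (hno : ∀ B : Subgroup Γ, B ≤ Q → (∀ n ∈ N, ∀ b ∈ B, n * b * n⁻¹ ∈ B) →
      (∀ a ∈ B, ∀ b ∈ B, a * b = b * a) → (∀ b ∈ B, b ^ p = 1) → Nat.card ↥B ≤ p) :
    ∃ Z E : Subgroup Γ, Z ≤ E ∧ E ≤ Q ∧ (∀ n ∈ N, ∀ z ∈ Z, n * z * n⁻¹ ∈ Z) ∧
      Nat.card ↥Z = p ∧ (∀ z ∈ Z, ∀ e ∈ E, z * e = e * z) ∧ (∀ e ∈ E, e ^ p = 1) ∧
      (∀ e ∈ E, ∀ f ∈ E, e * f * e⁻¹ * f⁻¹ ∈ Z) ∧ (∀ q ∈ Q, q ^ p = 1 → q ∈ E) := by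
  obtain ⟨Z, E, h, hZn⟩ := struct_A p hp N Q hQN hnorm hQ hQ1 hno
  have hB := struct_B p Q Z E hQ h
  have hC := struct_C p hp Q Z E hQ h hB
  refine ⟨Z, E, h.hZE, h.hEQ, hZn, h.hZcard, fun z hz e he => h.hZcent z hz e (h.hEQ he),
    h.hEp, fun e he f hf => h.hEcomm e he f (h.hEQ hf), ?_⟩
  intro q hq hqp
  obtain ⟨e, he, hcomm⟩ := hB q hq
  have hcQ : e⁻¹ * q ∈ Q := Q.mul_mem (Q.inv_mem (h.hEQ he)) hq
  have hqe : q = e * (e⁻¹ * q) := by group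
  have hec : Commute e (e⁻¹ * q) := (hcomm e he).symm
  have hcp : (e⁻¹ * q) ^ p = 1 := by
    have h1 : (e * (e⁻¹ * q)) ^ p = e ^ p * (e⁻¹ * q) ^ p := hec.mul_pow p
    rw [← hqe, hqp, h.hEp e he, one_mul] at h1
    exact h1.symm
  have hcZ : e⁻¹ * q ∈ Z := hC _ hcQ hcomm hcp
  rw [hqe]
  exact E.mul_mem he (h.hZE hcZ)

/-- A nontrivial `p`-group contains an element of order `p`. -/
theorem exists_order_p (p : ℕ) [Fact p.Prime] {Γ : Type*} [Group Γ] (X : Subgroup Γ)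
    (hXp : IsPGroup p ↥X) (hX : X ≠ ⊥) : ∃ x ∈ X, x ≠ 1 ∧ x ^ p = 1 := by
  obtain ⟨x₀, hx₀, hx₀1⟩ := (Subgroup.ne_bot_iff_exists_ne_one (H := X)).mp hX |>.imp
    (fun a h => h) |> fun ⟨a, h⟩ => (⟨(a : Γ), a.2, fun h' => h (Subtype.ext h')⟩ :
      ∃ x₀ ∈ X, x₀ ≠ 1)
  have hex : ∃ k : ℕ, x₀ ^ p ^ k = 1 := by
    obtain ⟨k, hk⟩ := hXp ⟨x₀, hx₀⟩
    exact ⟨k, by simpa using congrArg Subtype.val hk⟩
  classical
  have hk := Nat.find_spec hex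
  have hmin := fun j (hj : j < Nat.find hex) => Nat.find_min hex hj
  have hpos : 0 < Nat.find hex := by
    rcases Nat.eq_zero_or_pos (Nat.find hex) with h0 | h0
    · rw [h0] at hk; simp at hk; exact absurd hk hx₀1
    · exact h0
  refine ⟨x₀ ^ p ^ (Nat.find hex - 1), X.pow_mem hx₀ _, hmin _ (by omega), ?_⟩
  rw [← pow_mul, ← pow_succ]
  have : Nat.find hex - 1 + 1 = Nat.find hex := by omega
  rw [this]; exact hk

/-- The inductive step of the main theorem. -/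
theorem goal_step (p : ℕ) [Fact p.Prime] (hp : p ≠ 2) {M : Type v} [CommGroup M] [Finite M]
    (hcop : ¬ p ∣ Nat.card M) (ih : IHyp p M) : Goal p M := by
  intro N Q X hQN hnorm hQ hXQ hX
  by_cases h1 : ∃ Y : Subgroup (MulAut M), Y ≤ Q ∧ (∀ n ∈ N, ∀ y ∈ Y, n * y * n⁻¹ ∈ Y) ∧
      Y ≠ ⊥ ∧ fixedPts Y ≠ ⊥
  · obtain ⟨Y, hYQ, hYn, hY, hYfix⟩ := h1
    exact step_fix p hcop ih N Q X hQN hnorm hQ hXQ hX Y hYQ hYn hY hYfix
  have h1' : ∀ Y : Subgroup (MulAut M), Y ≤ Q → (∀ n ∈ N, ∀ y ∈ Y, n * y * n⁻¹ ∈ Y) →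
      Y ≠ ⊥ → fixedPts Y = ⊥ := by
    intro Y hYQ hYn hY
    by_contra hfix
    exact h1 ⟨Y, hYQ, hYn, hY, hfix⟩
  have hp2 : 2 ≤ p := (Fact.out : p.Prime).two_le
  by_cases h2 : ∃ B : Subgroup (MulAut M), B ≤ Q ∧ (∀ n ∈ N, ∀ b ∈ B, n * b * n⁻¹ ∈ B) ∧
      (∀ a ∈ B, ∀ b ∈ B, a * b = b * a) ∧ (∀ b ∈ B, b ^ p = 1) ∧ p < Nat.card ↥B
  · obtain ⟨B, hBQ, hBn, hBc, hBp, hB2⟩ := h2
    have hB1 : B ≠ ⊥ := by
      rintro rfl
      rw [Subgroup.card_bot] at hB2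
      omega
    have hBfix := h1' B hBQ hBn hB1
    by_cases hI : ∀ x ∈ X, ∀ D : Subgroup (MulAut M), IsMaxIn B D → fixedPts D ≠ ⊥ →
        conjSub x D = D
    · exact step_elemAb_fix p hcop ih N Q X hQN hnorm hQ hXQ hX B hBQ hBn hBc hBp hB2 hBfix hI
    · push Not at hI
      obtain ⟨x, hx, D, hD, hDfix, hne⟩ := hI
      exact step_elemAb_move p hcop N Q X hQN hnorm hQ hXQ B hBQ hBn hBc hBp hBfix
        ⟨x, hx, D, hD, hDfix, hne⟩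
  -- base case
  have hno : ∀ B : Subgroup (MulAut M), B ≤ Q → (∀ n ∈ N, ∀ b ∈ B, n * b * n⁻¹ ∈ B) →
      (∀ a ∈ B, ∀ b ∈ B, a * b = b * a) → (∀ b ∈ B, b ^ p = 1) → Nat.card ↥B ≤ p := by
    intro B h1 h2' h3 h4
    by_contra hlt
    exact h2 ⟨B, h1, h2', h3, h4, not_le.mp hlt⟩
  have hQ1 : Q ≠ ⊥ := by
    rintro rfl
    exact hX (le_bot_iff.mp hXQ)
  obtain ⟨Z, E, hZE, hEQ, hZn, hZcard, hZc, hEp, hEcomm, hEall⟩ :=
    struct_base p hp N Q hQN hnorm hQ hQ1 hno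
  have hZ1 : Z ≠ ⊥ := by
    rintro rfl
    rw [Subgroup.card_bot] at hZcard
    omega
  have hZfix := h1' Z (hZE.trans hEQ) hZn hZ1
  obtain ⟨m, hm⟩ := ex_regular p hp hcop E Z hZE hZcard hZc hEp hEcomm hZfix
  obtain ⟨x, hxX, hx1, hxp⟩ := exists_order_p p X (hQ.to_le hXQ) hX
  refine ⟨m, fun n hn => ⟨x, hxX, fun hfix => ?_⟩⟩
  have hgQ : n * x * n⁻¹ ∈ Q := hnorm n hn x (hXQ hxX)
  have hgp : (n * x * n⁻¹) ^ p = 1 := by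
    rw [conj_pow, hxp]; simp
  have h3 := hm _ (hEall _ hgQ hgp) hfix
  apply hx1
  have h4 : x = n⁻¹ * (n * x * n⁻¹) * n := by group
  rw [h4, h3]; group

/-- The main theorem (internal form). -/
theorem goal_all (p : ℕ) [Fact p.Prime] (hp : p ≠ 2) :
    ∀ (k : ℕ) (M : Type v) [CommGroup M] [Finite M], Nat.card M = k → ¬ p ∣ Nat.card M →
      Goal p M := by
  intro k
  induction k using Nat.strong_induction_on with
  | _ k ih =>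
    intro M _ _ hk hcop
    apply goal_step p hp hcop
    intro M' _ _ hlt hcop'
    exact ih (Nat.card M') (hk ▸ hlt) M' rfl hcop'

/-- The main theorem (hom form). -/
theorem ro_main (p : ℕ) [Fact p.Prime] (hp : p ≠ 2) {N : Type u} [Group N] [Finite N]
    {M : Type v} [CommGroup M] [Finite M] (hcop : ¬ p ∣ Nat.card M) (φ : N →* MulAut M)
    (Q X : Subgroup N) [hQn : Q.Normal] (hQ : IsPGroup p ↥(Q.map φ)) (hXQ : X ≤ Q)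
    (hX : ∃ x ∈ X, φ x ≠ 1) :
    ∃ m : M, ∀ n : N, ∃ x ∈ X, φ (n * x * n⁻¹) m ≠ m := by
  have hgoal := goal_all p hp (Nat.card M) M rfl hcop
  obtain ⟨x₀, hx₀, hφ⟩ := hX
  have key := hgoal φ.range (Q.map φ) (X.map φ)
    (by rintro _ ⟨q, _, rfl⟩; exact ⟨q, rfl⟩)
    (by
      rintro _ ⟨n, rfl⟩ _ ⟨q, hq, rfl⟩
      exact ⟨n * q * n⁻¹, hQn.conj_mem q hq n, by simp⟩)
    hQ (Subgroup.map_mono hXQ)
    (by
      intro h
      have h5 : φ x₀ ∈ X.map φ := ⟨x₀, hx₀, rfl⟩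
      rw [h, Subgroup.mem_bot] at h5
      exact hφ h5)
  obtain ⟨m, hm⟩ := key
  refine ⟨m, fun n => ?_⟩
  obtain ⟨_, ⟨x, hx, rfl⟩, hne⟩ := hm (φ n) ⟨n, rfl⟩
  refine ⟨x, hx, ?_⟩
  simpa [map_mul, map_inv] using hne

end Cfsg.Agent.Lib.helper38.RO
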