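import Mathlib
import Cfsg.Prelude.Def_Solvable
import Cfsg.Agent.Lib.helper38.ROMain
import Cfsg.Agent.Lib.helper52.ROGrpA
import Cfsg.Agent.Lib.helper52.ROGrpC
import Cfsg.Agent.Lib.helper57.ROGrpB1a
import Cfsg.Agent.Lib.helper72.ROGrpB2a

/-!
# S4330 — final assembly of the group-theoretic reduction
-/

set_option autoImplicit false
open Pointwise

namespace Cfsg.Agent.Lib.helper38.RO

universe u

/-- The key step: `O_p(G) = 1`, `Mn` abelian normal, `K/Mn` a `p`-group, `A ≤ K` ⟹ `A = 1`. -/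
theorem h38_key_step {G : Type u} [Group G] [Finite G] (p : ℕ) [Fact p.Prime] (hp : p ≠ 2)
    (hOp : Cfsg.pCore p G = ⊥)
    (Mn K : Subgroup G) [Mn.Normal] [K.Normal] (hMab : ∀ a ∈ Mn, ∀ b ∈ Mn, a * b = b * a)
    (hMK : Mn ≤ K) (hKp : ∀ k ∈ K, ∃ j : ℕ, k ^ (p ^ j) ∈ Mn)
    (A : Subgroup G) (hA : IsPGroup p A) (hAK : A ≤ K)
    (H : ∀ c : G, ∃ g : G, IsConj c g ∧ IsPGroup p ↥(A ⊔ MulAut.conj g • A)) : A = ⊥ :=
  key_step_of p Mn K hMab hKp A hA hAK H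
    (fun {M} _ _ hcop φ Q X _ hQ hXQ hX => ro_main p hp hcop φ Q X hQ hXQ hX)
    (not_dvd_card_of_pCore_eq_bot p hOp Mn hMab)
    (fun a haK hap hac => centralizer_p_elements_trivial p hOp Mn K hMab hMK hKp a haK hap hac)

/-- The group-theoretic theorem in the `p`-group form of the hypothesis. -/
theorem h38_le_pCore_of_conj_pgroup {G : Type u} [Group G] [Finite G] (hG : Group.IsSolvable G)
    (p : ℕ) [Fact p.Prime] (hp : p ≠ 2) (A : Subgroup G) (hA : IsPGroup p A)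
    (H : ∀ c : G, ∃ g : G, IsConj c g ∧ IsPGroup p ↥(A ⊔ MulAut.conj g • A)) :
    A ≤ Cfsg.pCore p G :=
  Cfsg.Agent.Lib.helper72.RO.le_pCore_of_conj_pgroup_of p
    (fun G _ _ hOp Mn K _ _ hMab hMK hKp A hA hAK H =>
      h38_key_step p hp hOp Mn K hMab hMK hKp A hA hAK H)
    (Nat.card G) G rfl hG A hA H

/-- S4330 in library form. -/
theorem h38_le_pCore_of_subnormal {G : Type u} [Group G] [Finite G] (hG : Group.IsSolvable G)
    (p : ℕ) [Fact p.Prime] (hp : p ≠ 2) (A : Subgroup G) (hA : IsPGroup p A)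
    (h : ∀ c : G, ∃ g : G, IsConj c g ∧ (A.subgroupOf (A ⊔ MulAut.conj g • A)).IsSubnormal) :
    A ≤ Cfsg.pCore p G := by
  apply h38_le_pCore_of_conj_pgroup hG p hp A hA
  intro c
  obtain ⟨g, hcg, hsub⟩ := h c
  exact ⟨g, hcg, pgroup_of_subnormal p A hA g hsub⟩

end Cfsg.Agent.Lib.helper38.RO
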