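import Mathlib

set_option autoImplicit false

namespace Cfsg.Agent.Lib.helper38

/-- A permutation of order dividing `2^(n+1)` whose `2^n`-th power has no fixed point, acting on a set
of size `m * 2^(n+1)` with `m` odd, is an odd permutation. -/
theorem sign_eq_neg_one_of_semiregular {X : Type*} [Fintype X] [DecidableEq X] (σ : Equiv.Perm X) (n m : ℕ)
    (hord : σ ^ (2 ^ (n + 1)) = 1) (hfix : ∀ x, (σ ^ (2 ^ n)) x ≠ x) (hm : Odd m)
    (hcard : Fintype.card X = m * 2 ^ (n + 1)) : Equiv.Perm.sign σ = -1 := by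
  classical
  have hall : ∀ a ∈ σ.cycleType, a = 2 ^ (n + 1) := by
    intro a ha
    obtain ⟨c, τ, hστ, hdisj, hcyc, hcardc⟩ := Equiv.Perm.mem_cycleType_iff.mp ha
    have h1 : a ∣ 2 ^ (n + 1) := (Equiv.Perm.dvd_of_mem_cycleType ha).trans (orderOf_dvd_of_pow_eq_one hord)
    obtain ⟨j, hj, rfl⟩ := (Nat.dvd_prime_pow Nat.prime_two).mp h1
    by_contra hne
    have hjn : j ≤ n := by
      rcases Nat.lt_or_ge n j with h | h
      · exfalso; apply hne
        have : j = n + 1 := by omega
        rw [this]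
      · exact h
    have hdvd : 2 ^ j ∣ 2 ^ n := pow_dvd_pow 2 hjn
    obtain ⟨x, hx⟩ : ∃ x, c x ≠ x := by
      obtain ⟨x, hx, _⟩ := hcyc
      exact ⟨x, hx⟩
    have hτx : τ x = x := by
      rcases hdisj x with h | h
      · exact absurd h hx
      · exact h
    have hc : c ^ (2 ^ n) = 1 := by
      have h2 : orderOf c = 2 ^ j := by rw [hcyc.orderOf, hcardc]
      exact orderOf_dvd_iff_pow_eq_one.mp (h2 ▸ hdvd)
    apply hfix x
    rw [hστ, hdisj.commute.mul_pow, hc, one_mul]
    exact Equiv.Perm.pow_apply_eq_self_of_apply_eq_self hτx _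
  have hsupp : σ.support = Finset.univ := by
    ext x
    simp only [Equiv.Perm.mem_support, Finset.mem_univ, iff_true]
    intro hx
    exact hfix x (Equiv.Perm.pow_apply_eq_self_of_apply_eq_self hx _)
  have hsum : σ.cycleType.sum = m * 2 ^ (n + 1) := by
    rw [Equiv.Perm.sum_cycleType, hsupp, Finset.card_univ, hcard]
  have hrep : σ.cycleType = Multiset.replicate (Multiset.card σ.cycleType) (2 ^ (n + 1)) :=
    Multiset.eq_replicate_card.mpr hall
  have hcardm : Multiset.card σ.cycleType = m := by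
    have h1 : σ.cycleType.sum = Multiset.card σ.cycleType * 2 ^ (n + 1) := by
      conv_lhs => rw [hrep]
      rw [Multiset.sum_replicate, smul_eq_mul]
    rw [hsum] at h1
    exact (Nat.eq_of_mul_eq_mul_right (by positivity) h1).symm
  rw [Equiv.Perm.sign_of_cycleType, hsum, hcardm]
  have hodd : Odd (m * 2 ^ (n + 1) + m) := by
    have : Even (m * 2 ^ (n + 1)) := by
      rw [pow_succ]; exact ⟨m * 2 ^ n, by ring⟩
    exact this.add_odd hm
  exact hodd.neg_one_pow

end Cfsg.Agent.Lib.helper38
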