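import Mathlib

/-!
helper38: Thompson's N-groups lemma (S4415), part 1: generalities on `𝔽₃`-representations,
averaging over a `3'`-subgroup, four-groups with a cyclic permutation, frames.
-/

set_option autoImplicit false

namespace Cfsg.Agent.Lib.helper38.TN

section Basic

variable {G : Type*} [Group G] {V : Type*} [AddCommGroup V] [Module (ZMod 3) V]
variable (ρ : Representation (ZMod 3) G V)

theorem rho_mul (g h : G) (v : V) : ρ (g * h) v = ρ g (ρ h v) := by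
  rw [map_mul]; rfl

theorem rho_one (v : V) : ρ 1 v = v := by
  rw [map_one]; rfl

theorem rho_inv_self (g : G) (v : V) : ρ g⁻¹ (ρ g v) = v := by
  rw [← rho_mul, inv_mul_cancel, rho_one]

theorem rho_self_inv (g : G) (v : V) : ρ g (ρ g⁻¹ v) = v := by
  rw [← rho_mul, mul_inv_cancel, rho_one]

theorem rho_inj (g : G) : Function.Injective (ρ g) := by
  intro v w h
  have := congrArg (ρ g⁻¹) h
  rwa [rho_inv_self, rho_inv_self] at this

theorem rho_conj (g h : G) (v : V) : ρ (g * h * g⁻¹) (ρ g v) = ρ g (ρ h v) := by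
  rw [rho_mul, rho_mul, rho_inv_self]

theorem rho_pow_three {b : G} (hb : b ^ 3 = 1) (v : V) : ρ b (ρ b (ρ b v)) = v := by
  have h : b * b * b = 1 := by rw [← hb, pow_succ, pow_two]
  rw [← rho_mul, ← rho_mul, h, rho_one]

theorem rho_inv_of_pow_three {b : G} (hb : b ^ 3 = 1) (v : V) : ρ b⁻¹ v = ρ b (ρ b v) := by
  have h : b⁻¹ = b * b := by
    have h1 : b * (b * b) = 1 := by rw [← hb, pow_succ, pow_two, mul_assoc]
    exact inv_eq_of_mul_eq_one_right h1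
  rw [h, rho_mul]

theorem three_smul_eq_zero (v : V) : v + v + v = 0 := by
  have h : (3 : ZMod 3) • v = 0 := by
    have : (3 : ZMod 3) = 0 := by decide
    rw [this, zero_smul]
  have h2 : (3 : ZMod 3) • v = v + v + v := by module
  rw [← h2, h]

theorem eq_zero_of_add_self {v : V} (h : v + v = 0) : v = 0 := by
  have h3 := three_smul_eq_zero v
  rw [h, zero_add] at h3
  exact h3

theorem neg_ne_self {v : V} (hv : v ≠ 0) : -v ≠ v := by
  intro h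
  apply hv
  apply eq_zero_of_add_self
  nth_rewrite 1 [← h]
  simp

theorem zmod3_cases : ∀ c : ZMod 3, c = 0 ∨ c = 1 ∨ c = -1 := by decide

theorem zmod3_sq : ∀ c : ZMod 3, c * c = 1 → c = 1 ∨ c = -1 := by decide

theorem zmod3_unit : ∀ c : ZMod 3, c ≠ 0 → c = 1 ∨ c = -1 := by decide

theorem smul_eq_zero_left {c : ZMod 3} {v : V} (hv : v ≠ 0) (h : c • v = 0) : c = 0 := by
  rcases smul_eq_zero.mp h with h | h
  · exact h
  · exact absurd h hv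

end Basic

section Avg

variable {G : Type*} [Group G] [Finite G] {V : Type*} [AddCommGroup V] [Module (ZMod 3) V]
variable (ρ : Representation (ZMod 3) G V) (R : Subgroup G)

/-- The averaging operator over the subgroup `R`. -/
noncomputable def avg : V →ₗ[ZMod 3] V :=
  letI := Fintype.ofFinite ↥R
  ((Nat.card ↥R : ZMod 3)⁻¹) • ∑ r : ↥R, ρ (r : G)

theorem avg_apply (v : V) :
    avg ρ R v = letI := Fintype.ofFinite ↥R
      ((Nat.card ↥R : ZMod 3)⁻¹) • ∑ r : ↥R, ρ (r : G) v := by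
  letI := Fintype.ofFinite ↥R
  simp [avg, LinearMap.sum_apply]

theorem card_ne_zero (hcop : (Nat.card ↥R).Coprime 3) : (Nat.card ↥R : ZMod 3) ≠ 0 := by
  intro h
  rw [ZMod.natCast_eq_zero_iff] at h
  have := Nat.Coprime.eq_one_of_dvd hcop.symm h
  omega

theorem rho_avg {g : G} (hg : g ∈ R) (v : V) : ρ g (avg ρ R v) = avg ρ R v := by
  letI := Fintype.ofFinite ↥R
  rw [avg_apply, map_smul, map_sum]
  congr 1
  exact Fintype.sum_equiv (Equiv.mulLeft (⟨g, hg⟩ : ↥R)) _ _ (fun r => by simp [rho_mul])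

theorem avg_rho {g : G} (hg : g ∈ R) (v : V) : avg ρ R (ρ g v) = avg ρ R v := by
  letI := Fintype.ofFinite ↥R
  rw [avg_apply, avg_apply]
  congr 1
  exact Fintype.sum_equiv (Equiv.mulRight (⟨g, hg⟩ : ↥R)) _ _ (fun r => by simp [rho_mul])

theorem avg_of_fixed (hcop : (Nat.card ↥R).Coprime 3) {v : V} (hv : ∀ r ∈ R, ρ r v = v) :
    avg ρ R v = v := by
  letI := Fintype.ofFinite ↥R
  rw [avg_apply]
  have h1 : ∑ r : ↥R, ρ (r : G) v = (Nat.card ↥R : ZMod 3) • v := by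
    rw [Finset.sum_congr rfl (fun (r : ↥R) _ => hv (r : G) r.2), Finset.sum_const, Finset.card_univ,
      Nat.card_eq_fintype_card, Nat.cast_smul_eq_nsmul]
  rw [h1, smul_smul, inv_mul_cancel₀ (card_ne_zero R hcop), one_smul]

theorem avg_comm (x : G) (hx : ∀ r ∈ R, x * r * x⁻¹ ∈ R) (hx' : ∀ r ∈ R, x⁻¹ * r * x ∈ R)
    (v : V) : ρ x (avg ρ R v) = avg ρ R (ρ x v) := by
  letI := Fintype.ofFinite ↥R
  rw [avg_apply, avg_apply, map_smul, map_sum]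
  congr 1
  let e : ↥R ≃ ↥R :=
    { toFun := fun r => ⟨x * r * x⁻¹, hx r r.2⟩
      invFun := fun r => ⟨x⁻¹ * r * x, hx' r r.2⟩
      left_inv := fun r => by ext; simp [mul_assoc]
      right_inv := fun r => by ext; simp [mul_assoc] }
  exact Fintype.sum_equiv e _ _ (fun r => by
    show ρ x (ρ (r : G) v) = ρ (x * (r : G) * x⁻¹) (ρ x v)
    rw [rho_conj])

theorem avg_avg (hcop : (Nat.card ↥R).Coprime 3) (v : V) : avg ρ R (avg ρ R v) = avg ρ R v :=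
  avg_of_fixed ρ R hcop (fun _ hr => rho_avg ρ R hr v)

/-- The fixed points of `R`. -/
def fixedSub : Submodule (ZMod 3) V where
  carrier := {v | ∀ r ∈ R, ρ r v = v}
  add_mem' := by
    intro v w hv hw r hr
    rw [map_add, hv r hr, hw r hr]
  zero_mem' := by
    intro r _
    rw [map_zero]
  smul_mem' := by
    intro c v hv r hr
    rw [map_smul, hv r hr]

theorem mem_fixedSub (v : V) : v ∈ fixedSub ρ R ↔ ∀ r ∈ R, ρ r v = v := Iff.rfl

theorem ker_inf_fixed (hcop : (Nat.card ↥R).Coprime 3) :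
    LinearMap.ker (avg ρ R) ⊓ fixedSub ρ R = ⊥ := by
  rw [eq_bot_iff]
  intro v hv
  rw [Submodule.mem_inf, LinearMap.mem_ker] at hv
  rw [Submodule.mem_bot, ← avg_of_fixed ρ R hcop hv.2, hv.1]

theorem ker_sup_fixed (hcop : (Nat.card ↥R).Coprime 3) :
    LinearMap.ker (avg ρ R) ⊔ fixedSub ρ R = ⊤ := by
  rw [eq_top_iff]
  intro v _
  rw [Submodule.mem_sup]
  refine ⟨v - avg ρ R v, ?_, avg ρ R v, ?_, by abel⟩
  · rw [LinearMap.mem_ker, map_sub, avg_avg ρ R hcop, sub_self]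
  · intro r hr
    exact rho_avg ρ R hr v

theorem eq_ker_of_quot_trivial (hcop : (Nat.card ↥R).Coprime 3) (U : Submodule (ZMod 3) V)
    (hU : U ≤ LinearMap.ker (avg ρ R))
    (h : ∀ r ∈ R, ∀ v ∈ LinearMap.ker (avg ρ R), ρ r v - v ∈ U) :
    U = LinearMap.ker (avg ρ R) := by
  apply le_antisymm hU
  intro v hv
  letI := Fintype.ofFinite ↥R
  have h0 : avg ρ R v = 0 := hv
  rw [avg_apply] at h0
  have hc := card_ne_zero R hcop
  have h1 : ∑ r : ↥R, ρ (r : G) v = 0 := by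
    rcases smul_eq_zero.mp h0 with h | h
    · exact absurd (inv_eq_zero.mp h) hc
    · exact h
  have h2 : ∑ r : ↥R, (ρ (r : G) v - v) ∈ U :=
    Submodule.sum_mem _ (fun r _ => h r r.2 v hv)
  rw [Finset.sum_sub_distrib, h1, Finset.sum_const, Finset.card_univ,
    Nat.card_eq_fintype_card.symm, zero_sub, ← Nat.cast_smul_eq_nsmul (ZMod 3)] at h2
  have h3 := U.smul_mem (-(Nat.card ↥R : ZMod 3)⁻¹) h2
  rw [smul_neg, neg_smul, neg_neg, smul_smul, inv_mul_cancel₀ hc, one_smul] at h3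
  exact h3

end Avg

section Four

variable {G : Type*} [Group G] {V : Type*} [AddCommGroup V] [Module (ZMod 3) V]

/-- A four-group `{1, q₁, q₂, q₃}` cyclically permuted by `b`. -/
structure Tri (b q₁ q₂ q₃ : G) : Prop where
  sq : q₁ * q₁ = 1
  m12 : q₁ * q₂ = q₃
  m21 : q₂ * q₁ = q₃
  c1 : b * q₁ * b⁻¹ = q₂
  c2 : b * q₂ * b⁻¹ = q₃
  c3 : b * q₃ * b⁻¹ = q₁
  ne : q₁ ≠ 1

namespace Tri

variable {b q₁ q₂ q₃ : G} (T : Tri b q₁ q₂ q₃)
include T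

theorem sq2 : q₂ * q₂ = 1 := by
  rw [← T.c1]
  have := T.sq
  calc b * q₁ * b⁻¹ * (b * q₁ * b⁻¹) = b * (q₁ * q₁) * b⁻¹ := by group
    _ = 1 := by rw [this]; group

theorem sq3 : q₃ * q₃ = 1 := by
  rw [← T.c2]
  have := T.sq2
  calc b * q₂ * b⁻¹ * (b * q₂ * b⁻¹) = b * (q₂ * q₂) * b⁻¹ := by group
    _ = 1 := by rw [this]; group

theorem m23 : q₂ * q₃ = q₁ := by
  rw [← T.m21, ← mul_assoc, T.sq2, one_mul]

theorem m32 : q₃ * q₂ = q₁ := by
  rw [← T.m12, mul_assoc, T.sq2, mul_one]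

theorem m13 : q₁ * q₃ = q₂ := by
  rw [← T.m12, ← mul_assoc, T.sq, one_mul]

theorem m31 : q₃ * q₁ = q₂ := by
  rw [← T.m21, mul_assoc, T.sq, mul_one]

theorem ne2 : q₂ ≠ 1 := by
  intro h
  apply T.ne
  have := T.c1
  rw [h] at this
  have h2 : q₁ = b⁻¹ * 1 * b := by rw [← this]; group
  rw [h2]; group

theorem ne3 : q₃ ≠ 1 := by
  intro h
  apply T.ne2
  have := T.c2
  rw [h] at this
  have h2 : q₂ = b⁻¹ * 1 * b := by rw [← this]; group
  rw [h2]; group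

theorem bq1 : b * q₁ = q₂ * b := by rw [← T.c1]; group
theorem bq2 : b * q₂ = q₃ * b := by rw [← T.c2]; group
theorem bq3 : b * q₃ = q₁ * b := by rw [← T.c3]; group

variable (ρ : Representation (ZMod 3) G V)

theorem a11 (v : V) : ρ q₁ (ρ q₁ v) = v := by rw [← rho_mul, T.sq, rho_one]
theorem a22 (v : V) : ρ q₂ (ρ q₂ v) = v := by rw [← rho_mul, T.sq2, rho_one]
theorem a33 (v : V) : ρ q₃ (ρ q₃ v) = v := by rw [← rho_mul, T.sq3, rho_one]
theorem a12 (v : V) : ρ q₁ (ρ q₂ v) = ρ q₃ v := by rw [← rho_mul, T.m12]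
theorem a21 (v : V) : ρ q₂ (ρ q₁ v) = ρ q₃ v := by rw [← rho_mul, T.m21]
theorem a13 (v : V) : ρ q₁ (ρ q₃ v) = ρ q₂ v := by rw [← rho_mul, T.m13]
theorem a31 (v : V) : ρ q₃ (ρ q₁ v) = ρ q₂ v := by rw [← rho_mul, T.m31]
theorem a23 (v : V) : ρ q₂ (ρ q₃ v) = ρ q₁ v := by rw [← rho_mul, T.m23]
theorem a32 (v : V) : ρ q₃ (ρ q₂ v) = ρ q₁ v := by rw [← rho_mul, T.m32]
theorem ab1 (v : V) : ρ b (ρ q₁ v) = ρ q₂ (ρ b v) := by rw [← rho_mul, T.bq1, rho_mul]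
theorem ab2 (v : V) : ρ b (ρ q₂ v) = ρ q₃ (ρ b v) := by rw [← rho_mul, T.bq2, rho_mul]
theorem ab3 (v : V) : ρ b (ρ q₃ v) = ρ q₁ (ρ b v) := by rw [← rho_mul, T.bq3, rho_mul]

end Tri

/-- The eigen-projection of the four-group for the signs `(s₁, s₂)` of `(q₁, q₂)`. -/
noncomputable def pr (ρ : Representation (ZMod 3) G V) (q₁ q₂ q₃ : G) (s₁ s₂ : ZMod 3) :
    V →ₗ[ZMod 3] V :=
  LinearMap.id + s₁ • ρ q₁ + s₂ • ρ q₂ + (s₁ * s₂) • ρ q₃

theorem pr_apply (ρ : Representation (ZMod 3) G V) (q₁ q₂ q₃ : G) (s₁ s₂ : ZMod 3) (v : V) :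
    pr ρ q₁ q₂ q₃ s₁ s₂ v = v + s₁ • ρ q₁ v + s₂ • ρ q₂ v + (s₁ * s₂) • ρ q₃ v := by
  simp [pr]

section PrLemmas

variable {b q₁ q₂ q₃ : G} (T : Tri b q₁ q₂ q₃) (ρ : Representation (ZMod 3) G V)
include T

theorem q1_pr {s₁ s₂ : ZMod 3} (hs₁ : s₁ * s₁ = 1) (v : V) :
    ρ q₁ (pr ρ q₁ q₂ q₃ s₁ s₂ v) = s₁ • pr ρ q₁ q₂ q₃ s₁ s₂ v := by
  rw [pr_apply]
  simp only [map_add, map_smul, T.a11, T.a12, T.a13]
  rcases zmod3_sq s₁ hs₁ with rfl | rfl <;> module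

theorem q2_pr {s₁ s₂ : ZMod 3} (hs₂ : s₂ * s₂ = 1) (v : V) :
    ρ q₂ (pr ρ q₁ q₂ q₃ s₁ s₂ v) = s₂ • pr ρ q₁ q₂ q₃ s₁ s₂ v := by
  rw [pr_apply]
  simp only [map_add, map_smul, T.a21, T.a22, T.a23]
  rcases zmod3_sq s₂ hs₂ with rfl | rfl <;> module

theorem pr_of_eig {s₁ s₂ t₁ t₂ : ZMod 3} {v : V} (h₁ : ρ q₁ v = t₁ • v) (h₂ : ρ q₂ v = t₂ • v) :
    pr ρ q₁ q₂ q₃ s₁ s₂ v = ((1 + s₁ * t₁) * (1 + s₂ * t₂)) • v := by
  have h₃ : ρ q₃ v = (t₁ * t₂) • v := by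
    rw [← T.a12, h₂, map_smul, h₁, smul_smul, mul_comm]
  rw [pr_apply, h₁, h₂, h₃]
  module

theorem sum_pr (v : V) :
    pr ρ q₁ q₂ q₃ 1 1 v + pr ρ q₁ q₂ q₃ 1 (-1) v + pr ρ q₁ q₂ q₃ (-1) 1 v
      + pr ρ q₁ q₂ q₃ (-1) (-1) v = v := by
  simp only [pr_apply]
  have h : (4 : ZMod 3) • v = v := by
    have h4 : (4 : ZMod 3) = 1 := by decide
    rw [h4, one_smul]
  calc _ = (4 : ZMod 3) • v := by module
    _ = v := h

theorem b_pr {s₁ s₂ : ZMod 3} (hs₁ : s₁ * s₁ = 1) (v : V) :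
    ρ b (pr ρ q₁ q₂ q₃ s₁ s₂ v) = pr ρ q₁ q₂ q₃ (s₁ * s₂) s₁ (ρ b v) := by
  rw [pr_apply, pr_apply]
  simp only [map_add, map_smul, T.ab1, T.ab2, T.ab3]
  rcases zmod3_sq s₁ hs₁ with rfl | rfl <;> module

end PrLemmas

end Four

end Cfsg.Agent.Lib.helper38.TN
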