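import Cfsg.Agent.Lib.helper38.TN1
import Cfsg.Prelude.Def_Transfer

/-!
helper38: Thompson's N-groups lemma (S4415), part 2: frames, the shared context `Ctx`,
`GN`-subgroups and the conclusion `Concl`.
-/

set_option autoImplicit false

namespace Cfsg.Agent.Lib.helper38.TN

variable {G : Type*} [Group G] {V : Type*} [AddCommGroup V] [Module (ZMod 3) V]

/-- `nb ρ b v = b v - v`. -/
def nb (ρ : Representation (ZMod 3) G V) (b : G) (v : V) : V := ρ b v - v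

/-- The common fixed space of `q₁, q₂`. -/
def fixQ (ρ : Representation (ZMod 3) G V) (q₁ q₂ : G) : Submodule (ZMod 3) V where
  carrier := {v | ρ q₁ v = v ∧ ρ q₂ v = v}
  add_mem' := by
    intro v w hv hw
    exact ⟨by rw [map_add, hv.1, hw.1], by rw [map_add, hv.2, hw.2]⟩
  zero_mem' := ⟨map_zero _, map_zero _⟩
  smul_mem' := by
    intro c v hv
    exact ⟨by rw [map_smul, hv.1], by rw [map_smul, hv.2]⟩

theorem mem_fixQ (ρ : Representation (ZMod 3) G V) (q₁ q₂ : G) (v : V) :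
    v ∈ fixQ ρ q₁ q₂ ↔ ρ q₁ v = v ∧ ρ q₂ v = v := Iff.rfl

theorem Tri.rot {b q₁ q₂ q₃ : G} (T : Tri b q₁ q₂ q₃) : Tri b q₂ q₃ q₁ where
  sq := T.sq2
  m12 := T.m23
  m21 := T.m32
  c1 := T.c2
  c2 := T.c3
  c3 := T.c1
  ne := T.ne2

/-- A frame: `u₁, u₂, u₃` span the three nontrivial weight lines of the four-group, `b` permutes
them cyclically and fixes the common fixed space of the four-group pointwise. -/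
structure Frame (ρ : Representation (ZMod 3) G V) (b q₁ q₂ q₃ : G) (u₁ u₂ u₃ : V) : Prop where
  tri : Tri b q₁ q₂ q₃
  b3 : b ^ 3 = 1
  u1 : u₁ ≠ 0
  bu1 : ρ b u₁ = u₂
  bu2 : ρ b u₂ = u₃
  bu3 : ρ b u₃ = u₁
  q1u1 : ρ q₁ u₁ = u₁
  q2u1 : ρ q₂ u₁ = -u₁
  line : ∀ v, ρ q₁ v = v → ρ q₂ v = -v → ∃ c : ZMod 3, v = c • u₁
  cfix : ∀ v, ρ q₁ v = v → ρ q₂ v = v → ρ b v = v

namespace Frame

variable {ρ : Representation (ZMod 3) G V} {b q₁ q₂ q₃ : G} {u₁ u₂ u₃ : V}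
variable (F : Frame ρ b q₁ q₂ q₃ u₁ u₂ u₃)
include F

theorem q3u1 : ρ q₃ u₁ = -u₁ := by
  rw [← F.tri.a12, F.q2u1, map_neg, F.q1u1]

theorem q1u2 : ρ q₁ u₂ = -u₂ := by
  rw [← F.bu1, ← F.tri.ab3, F.q3u1, map_neg]

theorem q2u2 : ρ q₂ u₂ = u₂ := by
  rw [← F.bu1, ← F.tri.ab1, F.q1u1]

theorem q3u2 : ρ q₃ u₂ = -u₂ := by
  rw [← F.bu1, ← F.tri.ab2, F.q2u1, map_neg]

theorem q1u3 : ρ q₁ u₃ = -u₃ := by
  rw [← F.bu2, ← F.tri.ab3, F.q3u2, map_neg]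

theorem q2u3 : ρ q₂ u₃ = -u₃ := by
  rw [← F.bu2, ← F.tri.ab1, F.q1u2, map_neg]

theorem q3u3 : ρ q₃ u₃ = u₃ := by
  rw [← F.bu2, ← F.tri.ab2, F.q2u2]

theorem u2 : u₂ ≠ 0 := by
  intro h
  apply F.u1
  have := F.bu1
  rw [h] at this
  exact rho_inj ρ b (by rw [this, map_zero])

theorem u3 : u₃ ≠ 0 := by
  intro h
  apply F.u2
  have := F.bu2
  rw [h] at this
  exact rho_inj ρ b (by rw [this, map_zero])

theorem binv (v : V) : ρ b⁻¹ v = ρ b (ρ b v) := rho_inv_of_pow_three ρ F.b3 v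

/-- Rotation of a frame. -/
theorem rot : Frame ρ b q₂ q₃ q₁ u₂ u₃ u₁ where
  tri := F.tri.rot
  b3 := F.b3
  u1 := F.u2
  bu1 := F.bu2
  bu2 := F.bu3
  bu3 := F.bu1
  q1u1 := F.q2u2
  q2u1 := F.q3u2
  line := by
    intro v h2 h3
    have hb : ∀ w, ρ b (ρ b (ρ b w)) = w := rho_pow_three ρ F.b3
    -- w = b² v lies on the first line
    have e1 : ρ q₁ (ρ b (ρ b v)) = ρ b (ρ b v) := by
      rw [← F.tri.ab3, ← F.tri.ab2, h2]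
    have e2 : ρ q₂ (ρ b (ρ b v)) = -ρ b (ρ b v) := by
      rw [← F.tri.ab1, ← F.tri.ab3, h3, map_neg, map_neg]
    obtain ⟨c, hc⟩ := F.line _ e1 e2
    refine ⟨c, ?_⟩
    have := congrArg (ρ b) hc
    rw [hb, map_smul, F.bu1] at this
    exact this
  cfix := by
    intro v h2 h3
    apply F.cfix v _ h2
    rw [← F.tri.a23, h3, h2]

theorem decomp (v : V) : ∃ a₁ a₂ a₃ : ZMod 3, ∃ c ∈ fixQ ρ q₁ q₂,
    v = a₁ • u₁ + a₂ • u₂ + a₃ • u₃ + c := by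
  have T := F.tri
  have hs := sum_pr T ρ v
  have h1 : (1 : ZMod 3) * 1 = 1 := by decide
  have hm : (-1 : ZMod 3) * (-1) = 1 := by decide
  -- the four components
  have c1 : ρ q₁ (pr ρ q₁ q₂ q₃ 1 1 v) = pr ρ q₁ q₂ q₃ 1 1 v := by
    rw [q1_pr T ρ h1, one_smul]
  have c2 : ρ q₂ (pr ρ q₁ q₂ q₃ 1 1 v) = pr ρ q₁ q₂ q₃ 1 1 v := by
    rw [q2_pr T ρ h1, one_smul]
  have d1 : ρ q₁ (pr ρ q₁ q₂ q₃ 1 (-1) v) = pr ρ q₁ q₂ q₃ 1 (-1) v := by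
    rw [q1_pr T ρ h1, one_smul]
  have d2 : ρ q₂ (pr ρ q₁ q₂ q₃ 1 (-1) v) = -pr ρ q₁ q₂ q₃ 1 (-1) v := by
    rw [q2_pr T ρ hm, neg_one_smul]
  have e1 : ρ q₁ (pr ρ q₁ q₂ q₃ (-1) 1 v) = -pr ρ q₁ q₂ q₃ (-1) 1 v := by
    rw [q1_pr T ρ hm, neg_one_smul]
  have e2 : ρ q₂ (pr ρ q₁ q₂ q₃ (-1) 1 v) = pr ρ q₁ q₂ q₃ (-1) 1 v := by
    rw [q2_pr T ρ h1, one_smul]
  have f1 : ρ q₁ (pr ρ q₁ q₂ q₃ (-1) (-1) v) = -pr ρ q₁ q₂ q₃ (-1) (-1) v := by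
    rw [q1_pr T ρ hm, neg_one_smul]
  have f2 : ρ q₂ (pr ρ q₁ q₂ q₃ (-1) (-1) v) = -pr ρ q₁ q₂ q₃ (-1) (-1) v := by
    rw [q2_pr T ρ hm, neg_one_smul]
  obtain ⟨a₁, ha₁⟩ := F.line _ d1 d2
  have e3 : ρ q₃ (pr ρ q₁ q₂ q₃ (-1) 1 v) = -pr ρ q₁ q₂ q₃ (-1) 1 v := by
    rw [← T.a12, e2, e1]
  obtain ⟨a₂, ha₂⟩ := F.rot.line _ e2 e3
  have f3 : ρ q₃ (pr ρ q₁ q₂ q₃ (-1) (-1) v) = pr ρ q₁ q₂ q₃ (-1) (-1) v := by
    rw [← T.a12, f2, map_neg, f1, neg_neg]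
  obtain ⟨a₃, ha₃⟩ := F.rot.rot.line _ f3 f1
  refine ⟨a₁, a₂, a₃, pr ρ q₁ q₂ q₃ 1 1 v, ⟨c1, c2⟩, ?_⟩
  rw [← ha₁, ← ha₂, ← ha₃]
  exact hs.symm.trans (by abel)

theorem indep {a₁ a₂ a₃ : ZMod 3} {c : V} (hc : c ∈ fixQ ρ q₁ q₂)
    (h : a₁ • u₁ + a₂ • u₂ + a₃ • u₃ + c = 0) : a₁ = 0 ∧ a₂ = 0 ∧ a₃ = 0 ∧ c = 0 := by
  have hc3 : ρ q₃ c = c := by rw [← F.tri.a12, hc.2, hc.1]
  have k1 := congrArg (ρ q₁) h
  have k2 := congrArg (ρ q₂) h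
  have k3 := congrArg (ρ q₃) h
  simp only [map_add, map_smul, map_zero, F.q1u1, F.q1u2, F.q1u3, F.q2u1, F.q2u2, F.q2u3,
    F.q3u1, F.q3u2, F.q3u3, hc.1, hc.2, hc3] at k1 k2 k3
  have hc0 : c = 0 := by
    have h4 : (4 : ZMod 3) • c = 0 := by
      linear_combination (norm := module) h + k1 + k2 + k3
    have : (4 : ZMod 3) = 1 := by decide
    rwa [this, one_smul] at h4
  subst hc0
  have t1 : a₁ • u₁ = 0 := by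
    have h2 : (2 : ZMod 3) • (a₁ • u₁) = 0 := by
      linear_combination (norm := module) h + k1
    have h3 : (2 : ZMod 3) • ((2 : ZMod 3) • (a₁ • u₁)) = a₁ • u₁ := by
      rw [smul_smul]
      have : (2 : ZMod 3) * 2 = 1 := by decide
      rw [this, one_smul]
    rw [← h3, h2, smul_zero]
  have t2 : a₂ • u₂ = 0 := by
    have h2 : (2 : ZMod 3) • (a₂ • u₂) = 0 := by
      linear_combination (norm := module) h + k2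
    have h3 : (2 : ZMod 3) • ((2 : ZMod 3) • (a₂ • u₂)) = a₂ • u₂ := by
      rw [smul_smul]
      have : (2 : ZMod 3) * 2 = 1 := by decide
      rw [this, one_smul]
    rw [← h3, h2, smul_zero]
  have t3 : a₃ • u₃ = 0 := by
    have h2 : (2 : ZMod 3) • (a₃ • u₃) = 0 := by
      linear_combination (norm := module) h + k3
    have h3 : (2 : ZMod 3) • ((2 : ZMod 3) • (a₃ • u₃)) = a₃ • u₃ := by
      rw [smul_smul]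
      have : (2 : ZMod 3) * 2 = 1 := by decide
      rw [this, one_smul]
    rw [← h3, h2, smul_zero]
  exact ⟨smul_eq_zero_left F.u1 t1, smul_eq_zero_left F.u2 t2, smul_eq_zero_left F.u3 t3, rfl⟩

/-- `b` on a decomposed vector. -/
theorem b_apply (a₁ a₂ a₃ : ZMod 3) {c : V} (hc : c ∈ fixQ ρ q₁ q₂) :
    ρ b (a₁ • u₁ + a₂ • u₂ + a₃ • u₃ + c) = a₃ • u₁ + a₁ • u₂ + a₂ • u₃ + c := by
  simp only [map_add, map_smul, F.bu1, F.bu2, F.bu3, F.cfix c hc.1 hc.2]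
  abel

/-- the fixed vectors of `b`. -/
theorem bfix {v : V} (h : ρ b v = v) :
    ∃ a : ZMod 3, ∃ c ∈ fixQ ρ q₁ q₂, v = a • (u₁ + u₂ + u₃) + c := by
  obtain ⟨a₁, a₂, a₃, c, hc, rfl⟩ := F.decomp v
  rw [F.b_apply a₁ a₂ a₃ hc] at h
  have h0 : (a₃ - a₁) • u₁ + (a₁ - a₂) • u₂ + (a₂ - a₃) • u₃ + (0 : V) = 0 := by
    linear_combination (norm := module) h
  obtain ⟨e1, e2, e3, -⟩ := F.indep (Submodule.zero_mem _) h0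
  refine ⟨a₁, c, hc, ?_⟩
  have e1' : a₃ = a₁ := sub_eq_zero.mp e1
  have e2' : a₂ = a₁ := (sub_eq_zero.mp e2).symm
  rw [e1', e2']
  module

/-- An element commuting with `q₁` and `q₂` acts diagonally. -/
theorem comm_diag {g : G} (h1 : g * q₁ = q₁ * g) (h2 : g * q₂ = q₂ * g) :
    (∃ ε : ZMod 3, (ε = 1 ∨ ε = -1) ∧ ρ g u₁ = ε • u₁) ∧
    (∃ ε : ZMod 3, (ε = 1 ∨ ε = -1) ∧ ρ g u₂ = ε • u₂) ∧
    (∃ ε : ZMod 3, (ε = 1 ∨ ε = -1) ∧ ρ g u₃ = ε • u₃) ∧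
    ∀ c ∈ fixQ ρ q₁ q₂, ρ g c ∈ fixQ ρ q₁ q₂ := by
  have k1 : ∀ v, ρ q₁ (ρ g v) = ρ g (ρ q₁ v) := by
    intro v; rw [← rho_mul, ← h1, rho_mul]
  have k2 : ∀ v, ρ q₂ (ρ g v) = ρ g (ρ q₂ v) := by
    intro v; rw [← rho_mul, ← h2, rho_mul]
  have k3 : ∀ v, ρ q₃ (ρ g v) = ρ g (ρ q₃ v) := by
    intro v; rw [← F.tri.a12, k2, k1, F.tri.a12]
  have key : ∀ {b' p₁ p₂ p₃ : G} {w₁ w₂ w₃ : V}, Frame ρ b' p₁ p₂ p₃ w₁ w₂ w₃ →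
      (∀ v, ρ p₁ (ρ g v) = ρ g (ρ p₁ v)) → (∀ v, ρ p₂ (ρ g v) = ρ g (ρ p₂ v)) →
      ∃ ε : ZMod 3, (ε = 1 ∨ ε = -1) ∧ ρ g w₁ = ε • w₁ := by
    intro b' p₁ p₂ p₃ w₁ w₂ w₃ F' m1 m2
    have e1 : ρ p₁ (ρ g w₁) = ρ g w₁ := by rw [m1, F'.q1u1]
    have e2 : ρ p₂ (ρ g w₁) = -ρ g w₁ := by rw [m2, F'.q2u1, map_neg]
    obtain ⟨ε, hε⟩ := F'.line _ e1 e2
    refine ⟨ε, zmod3_unit ε ?_, hε⟩
    rintro rfl
    rw [zero_smul] at hε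
    exact F'.u1 (rho_inj ρ g (by rw [hε, map_zero]))
  refine ⟨key F k1 k2, key F.rot k2 k3, key F.rot.rot k3 k1, ?_⟩
  intro c hc
  exact ⟨by rw [k1, hc.1], by rw [k2, hc.2]⟩

end Frame

/-- Subgroups of `R` normalized by `R` and by `b`. -/
def GN (R : Subgroup G) (b : G) (N : Subgroup G) : Prop :=
  N ≤ R ∧ (∀ r ∈ R, ∀ n ∈ N, r * n * r⁻¹ ∈ N) ∧ (∀ n ∈ N, b * n * b⁻¹ ∈ N)

/-- The shared context of the core theorem. -/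
structure Ctx (ρ : Representation (ZMod 3) G V) (R : Subgroup G) (b q₁ q₂ q₃ : G)
    (u₁ u₂ u₃ : V) : Prop where
  frame : Frame ρ b q₁ q₂ q₃ u₁ u₂ u₃
  q1R : q₁ ∈ R
  bR : ∀ r ∈ R, b * r * b⁻¹ ∈ R
  faith : ∀ r ∈ R, (∀ v, ρ r v = v) → r = 1
  cop : (Nat.card ↥R).Coprime 3
  solv : IsSolvable ↥R
  gen : ∀ K : Subgroup G, b ∈ K → (∀ r ∈ R, ∀ k ∈ K, r * k * r⁻¹ ∈ K) → R ≤ K
  irr : ∀ N : Submodule (ZMod 3) V, (∀ r ∈ R, ∀ v ∈ N, ρ r v ∈ N) → (∀ v ∈ N, ρ b v ∈ N) →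
    N = ⊥ ∨ N = ⊤

/-- The conclusion on the structure of `R`. -/
def Concl (R : Subgroup G) : Prop :=
  (Cfsg.IsElementaryAbelian 2 R ∧ Nat.card ↥R = 4) ∨
    (Cfsg.IsExtraspecial 2 ↥R ∧ Nat.card ↥R = 32 ∧
      ∃ A : Subgroup G, A ≤ R ∧ Cfsg.IsElementaryAbelian 2 A ∧ Nat.card ↥A = 8)

/-- `V` is irreducible under `R` alone. -/
def RIrr (ρ : Representation (ZMod 3) G V) (R : Subgroup G) : Prop :=
  ∀ N : Submodule (ZMod 3) V, (∀ r ∈ R, ∀ v ∈ N, ρ r v ∈ N) → N = ⊥ ∨ N = ⊤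

/-- The common fixed space of the four-group is the line spanned by `u₄`. -/
def CLine (ρ : Representation (ZMod 3) G V) (q₁ q₂ : G) (u₄ : V) : Prop :=
  u₄ ≠ 0 ∧ ρ q₁ u₄ = u₄ ∧ ρ q₂ u₄ = u₄ ∧
    ∀ v, ρ q₁ v = v → ρ q₂ v = v → ∃ c : ZMod 3, v = c • u₄

/-- The "monomial determinant" statement. -/
def MonoDet (ρ : Representation (ZMod 3) G V) (R : Subgroup G) (u₁ u₂ u₃ u₄ : V) : Prop :=
  ∀ g ∈ R, ∀ (σ : Equiv.Perm (Fin 4)) (ε : Fin 4 → ZMod 3),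
    (∀ i, ρ g (![u₁, u₂, u₃, u₄] i) = ε i • ![u₁, u₂, u₃, u₄] (σ i)) →
    ((Equiv.Perm.sign σ : ℤ) : ZMod 3) * ∏ i, ε i = 1

/-- "Type I": a `GN` elementary abelian 2-subgroup moved by `b`. -/
def TypeI (R : Subgroup G) (b : G) : Prop :=
  ∃ E₁ : Subgroup G, GN R b E₁ ∧ (∀ x ∈ E₁, x * x = 1) ∧ ∃ x ∈ E₁, b * x * b⁻¹ ≠ x

end Cfsg.Agent.Lib.helper38.TN
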