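import Cfsg.Agent.Lib.helper38.TN2

/-!
helper38: Thompson's N-groups lemma (S4415), part 3: existence of frames.
-/

set_option autoImplicit false

namespace Cfsg.Agent.Lib.helper38.TN

variable {G : Type*} [Group G] {V : Type*} [AddCommGroup V] [Module (ZMod 3) V]

theorem dep2 : ∀ a₁ a₂ a₃ b₁ b₂ b₃ : ZMod 3, ∃ α β γ : ZMod 3, (α ≠ 0 ∨ β ≠ 0 ∨ γ ≠ 0) ∧
    α * a₁ + β * a₂ + γ * a₃ = 0 ∧ α * b₁ + β * b₂ + γ * b₃ = 0 := by decide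

theorem dep1 : ∀ s s' : ZMod 3, ∃ c c' : ZMod 3, (c ≠ 0 ∨ c' ≠ 0) ∧ c * s + c' * s' = 0 := by
  decide

namespace Frame

variable {ρ : Representation (ZMod 3) G V} {b q₁ q₂ q₃ : G} {u₁ u₂ u₃ : V}
variable (F : Frame ρ b q₁ q₂ q₃ u₁ u₂ u₃)
include F

theorem nb_apply (a₁ a₂ a₃ : ZMod 3) {c : V} (hc : c ∈ fixQ ρ q₁ q₂) :
    nb ρ b (a₁ • u₁ + a₂ • u₂ + a₃ • u₃ + c)
      = (a₃ - a₁) • u₁ + (a₁ - a₂) • u₂ + (a₂ - a₃) • u₃ + 0 := by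
  unfold nb
  rw [F.b_apply a₁ a₂ a₃ hc]
  module

theorem nbnb_apply (a₁ a₂ a₃ : ZMod 3) {c : V} (hc : c ∈ fixQ ρ q₁ q₂) :
    nb ρ b (nb ρ b (a₁ • u₁ + a₂ • u₂ + a₃ • u₃ + c))
      = (a₁ + a₂ + a₃) • (u₁ + u₂ + u₃) := by
  rw [F.nb_apply a₁ a₂ a₃ hc, F.nb_apply _ _ _ (Submodule.zero_mem _)]
  have h3 : (3 : ZMod 3) = 0 := by decide
  have e1 : a₂ - a₃ - (a₃ - a₁) = a₁ + a₂ + a₃ := by linear_combination (-a₃) * h3
  have e2 : a₃ - a₁ - (a₁ - a₂) = a₁ + a₂ + a₃ := by linear_combination (-a₁) * h3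
  have e3 : a₁ - a₂ - (a₂ - a₃) = a₁ + a₂ + a₃ := by linear_combination (-a₂) * h3
  rw [e1, e2, e3]
  module

theorem j1 (v v' : V) : ∃ c c' : ZMod 3, (c ≠ 0 ∨ c' ≠ 0) ∧
    c • nb ρ b (nb ρ b v) + c' • nb ρ b (nb ρ b v') = 0 := by
  obtain ⟨a₁, a₂, a₃, c₀, hc₀, rfl⟩ := F.decomp v
  obtain ⟨a₁', a₂', a₃', c₀', hc₀', rfl⟩ := F.decomp v'
  obtain ⟨c, c', hne, h⟩ := dep1 (a₁ + a₂ + a₃) (a₁' + a₂' + a₃')
  refine ⟨c, c', hne, ?_⟩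
  rw [F.nbnb_apply _ _ _ hc₀, F.nbnb_apply _ _ _ hc₀', smul_smul, smul_smul, ← add_smul, h,
    zero_smul]

theorem j2 (v₁ v₂ v₃ : V) : ∃ α β γ : ZMod 3, (α ≠ 0 ∨ β ≠ 0 ∨ γ ≠ 0) ∧
    α • nb ρ b v₁ + β • nb ρ b v₂ + γ • nb ρ b v₃ = 0 := by
  obtain ⟨a₁, a₂, a₃, c, hc, rfl⟩ := F.decomp v₁
  obtain ⟨a₁', a₂', a₃', c', hc', rfl⟩ := F.decomp v₂
  obtain ⟨a₁'', a₂'', a₃'', c'', hc'', rfl⟩ := F.decomp v₃
  obtain ⟨α, β, γ, hne, h1, h2⟩ :=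
    dep2 (a₃ - a₁) (a₃' - a₁') (a₃'' - a₁'') (a₁ - a₂) (a₁' - a₂') (a₁'' - a₂'')
  refine ⟨α, β, γ, hne, ?_⟩
  rw [F.nb_apply _ _ _ hc, F.nb_apply _ _ _ hc', F.nb_apply _ _ _ hc'']
  have h3 : α * (a₂ - a₃) + β * (a₂' - a₃') + γ * (a₂'' - a₃'') = 0 := by
    linear_combination (-1 : ZMod 3) * h1 - h2
  have e : α • ((a₃ - a₁) • u₁ + (a₁ - a₂) • u₂ + (a₂ - a₃) • u₃ + 0)
      + β • ((a₃' - a₁') • u₁ + (a₁' - a₂') • u₂ + (a₂' - a₃') • u₃ + 0)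
      + γ • ((a₃'' - a₁'') • u₁ + (a₁'' - a₂'') • u₂ + (a₂'' - a₃'') • u₃ + 0)
      = (α * (a₃ - a₁) + β * (a₃' - a₁') + γ * (a₃'' - a₁'')) • u₁
        + (α * (a₁ - a₂) + β * (a₁' - a₂') + γ * (a₁'' - a₂'')) • u₂
        + (α * (a₂ - a₃) + β * (a₂' - a₃') + γ * (a₂'' - a₃'')) • u₃ := by module
  rw [e, h1, h2, h3]
  simp

end Frame

/-- Existence of a frame. -/
theorem exists_frame {ρ : Representation (ZMod 3) G V} {b p₁ p₂ p₃ : G} (T : Tri b p₁ p₂ p₃)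
    (hb3 : b ^ 3 = 1) (hact : ∃ v, ρ p₁ v ≠ v)
    (j1 : ∀ v v' : V, ∃ c c' : ZMod 3, (c ≠ 0 ∨ c' ≠ 0) ∧
      c • nb ρ b (nb ρ b v) + c' • nb ρ b (nb ρ b v') = 0)
    (j2 : ∀ v₁ v₂ v₃ : V, ∃ α β γ : ZMod 3, (α ≠ 0 ∨ β ≠ 0 ∨ γ ≠ 0) ∧
      α • nb ρ b v₁ + β • nb ρ b v₂ + γ • nb ρ b v₃ = 0) :
    ∃ w₁ w₂ w₃ : V, Frame ρ b p₁ p₂ p₃ w₁ w₂ w₃ := by
  have h1 : (1 : ZMod 3) * 1 = 1 := by decide
  have hm : (-1 : ZMod 3) * (-1) = 1 := by decide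
  have hbbb : ∀ w, ρ b (ρ b (ρ b w)) = w := rho_pow_three ρ hb3
  -- Step 1: a nonzero vector on the first line
  have step1 : ∃ w₁ : V, w₁ ≠ 0 ∧ ρ p₁ w₁ = w₁ ∧ ρ p₂ w₁ = -w₁ := by
    obtain ⟨v, hv⟩ := hact
    by_cases hA : pr ρ p₁ p₂ p₃ (-1) 1 v = 0
    · by_cases hB : pr ρ p₁ p₂ p₃ (-1) (-1) v = 0
      · exfalso
        apply hv
        have hs := sum_pr T ρ v
        rw [hA, hB, add_zero, add_zero] at hs
        have e1 : ρ p₁ (pr ρ p₁ p₂ p₃ 1 1 v) = pr ρ p₁ p₂ p₃ 1 1 v := by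
          rw [q1_pr T ρ h1, one_smul]
        have e2 : ρ p₁ (pr ρ p₁ p₂ p₃ 1 (-1) v) = pr ρ p₁ p₂ p₃ 1 (-1) v := by
          rw [q1_pr T ρ h1, one_smul]
        calc ρ p₁ v = ρ p₁ (pr ρ p₁ p₂ p₃ 1 1 v + pr ρ p₁ p₂ p₃ 1 (-1) v) := by rw [hs]
          _ = pr ρ p₁ p₂ p₃ 1 1 v + pr ρ p₁ p₂ p₃ 1 (-1) v := by rw [map_add, e1, e2]
          _ = v := hs
      · -- x in D₃, b x in D₁
        refine ⟨ρ b (pr ρ p₁ p₂ p₃ (-1) (-1) v), ?_, ?_, ?_⟩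
        · intro h0
          exact hB (rho_inj ρ b (by rw [h0, map_zero]))
        · rw [b_pr T ρ hm, hm, q1_pr T ρ h1, one_smul]
        · rw [b_pr T ρ hm, hm, q2_pr T ρ hm, neg_one_smul]
    · -- x in D₂, b b x in D₁
      refine ⟨ρ b (ρ b (pr ρ p₁ p₂ p₃ (-1) 1 v)), ?_, ?_, ?_⟩
      · intro h0
        apply hA
        apply rho_inj ρ b
        apply rho_inj ρ b
        rw [h0, map_zero, map_zero]
      · have e : (-1 : ZMod 3) * 1 = -1 := by decide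
        rw [b_pr T ρ hm, e, b_pr T ρ hm, hm, q1_pr T ρ h1, one_smul]
      · have e : (-1 : ZMod 3) * 1 = -1 := by decide
        rw [b_pr T ρ hm, e, b_pr T ρ hm, hm, q2_pr T ρ hm, neg_one_smul]
  obtain ⟨w₁, hw0, hw1, hw2⟩ := step1
  -- eigen-equations for `w₂ = b w₁`, `w₃ = b w₂`
  have hw3 : ρ p₃ w₁ = -w₁ := by rw [← T.a12, hw2, map_neg, hw1]
  have k12 : ρ p₁ (ρ b w₁) = -ρ b w₁ := by rw [← T.ab3, hw3, map_neg]
  have k22 : ρ p₂ (ρ b w₁) = ρ b w₁ := by rw [← T.ab1, hw1]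
  have k32 : ρ p₃ (ρ b w₁) = -ρ b w₁ := by rw [← T.ab2, hw2, map_neg]
  have k13 : ρ p₁ (ρ b (ρ b w₁)) = -ρ b (ρ b w₁) := by rw [← T.ab3, k32, map_neg]
  have k23 : ρ p₂ (ρ b (ρ b w₁)) = -ρ b (ρ b w₁) := by rw [← T.ab1, k12, map_neg]
  have hw2' : ρ b w₁ ≠ 0 := fun h0 => hw0 (rho_inj ρ b (by rw [h0, map_zero]))
  have hw3' : ρ b (ρ b w₁) ≠ 0 := fun h0 => hw2' (rho_inj ρ b (by rw [h0, map_zero]))
  -- projections of eigenvectors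
  have P1 : ∀ {x : V}, ρ p₁ x = x → ρ p₂ x = -x → pr ρ p₁ p₂ p₃ 1 (-1) x = x := by
    intro x e1 e2
    rw [pr_of_eig T ρ (t₁ := 1) (t₂ := -1) (by rw [one_smul]; exact e1)
      (by rw [neg_one_smul]; exact e2)]
    have : ((1 : ZMod 3) + 1 * 1) * (1 + -1 * -1) = 1 := by decide
    rw [this, one_smul]
  have P1z : ∀ {x : V} {t₁ t₂ : ZMod 3}, ρ p₁ x = t₁ • x → ρ p₂ x = t₂ • x →
      (1 + 1 * t₁) * (1 + -1 * t₂) = 0 → pr ρ p₁ p₂ p₃ 1 (-1) x = 0 := by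
    intro x t₁ t₂ e1 e2 e
    rw [pr_of_eig T ρ e1 e2, e, zero_smul]
  have P3 : ∀ {x : V}, ρ p₁ x = -x → ρ p₂ x = -x → pr ρ p₁ p₂ p₃ (-1) (-1) x = x := by
    intro x e1 e2
    rw [pr_of_eig T ρ (t₁ := -1) (t₂ := -1) (by rw [neg_one_smul]; exact e1)
      (by rw [neg_one_smul]; exact e2)]
    have : ((1 : ZMod 3) + -1 * -1) * (1 + -1 * -1) = 1 := by decide
    rw [this, one_smul]
  have P3z : ∀ {x : V} {t₁ t₂ : ZMod 3}, ρ p₁ x = t₁ • x → ρ p₂ x = t₂ • x →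
      (1 + -1 * t₁) * (1 + -1 * t₂) = 0 → pr ρ p₁ p₂ p₃ (-1) (-1) x = 0 := by
    intro x t₁ t₂ e1 e2 e
    rw [pr_of_eig T ρ e1 e2, e, zero_smul]
  refine ⟨w₁, ρ b w₁, ρ b (ρ b w₁), ?_⟩
  refine
    { tri := T
      b3 := hb3
      u1 := hw0
      bu1 := rfl
      bu2 := rfl
      bu3 := hbbb w₁
      q1u1 := hw1
      q2u1 := hw2
      line := ?_
      cfix := ?_ }
  · -- the line
    intro x e1 e2
    -- nb (nb x) = x + b x + b b x for all x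
    have hnn : ∀ y : V, nb ρ b (nb ρ b y) = y + ρ b y + ρ b (ρ b y) := by
      intro y
      unfold nb
      rw [map_sub]
      have h3 := three_smul_eq_zero (ρ b y)
      have : ρ b (ρ b y) - ρ b y - (ρ b y - y)
          = y + ρ b y + ρ b (ρ b y) - (ρ b y + ρ b y + ρ b y) := by abel
      rw [this, h3, sub_zero]
    -- eigen-equations for b y, b b y when y is on the first line
    have proj : ∀ y : V, ρ p₁ y = y → ρ p₂ y = -y →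
        pr ρ p₁ p₂ p₃ 1 (-1) (nb ρ b (nb ρ b y)) = y := by
      intro y f1 f2
      have f3 : ρ p₃ y = -y := by rw [← T.a12, f2, map_neg, f1]
      have g12 : ρ p₁ (ρ b y) = (-1 : ZMod 3) • ρ b y := by
        rw [← T.ab3, f3, map_neg, neg_one_smul]
      have g22 : ρ p₂ (ρ b y) = (1 : ZMod 3) • ρ b y := by rw [← T.ab1, f1, one_smul]
      have g32 : ρ p₃ (ρ b y) = -ρ b y := by rw [← T.ab2, f2, map_neg]
      have g13 : ρ p₁ (ρ b (ρ b y)) = (-1 : ZMod 3) • ρ b (ρ b y) := by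
        rw [← T.ab3, g32, map_neg, neg_one_smul]
      have g23 : ρ p₂ (ρ b (ρ b y)) = (-1 : ZMod 3) • ρ b (ρ b y) := by
        rw [← T.ab1, g12, map_smul]
      rw [hnn, map_add, map_add, P1 f1 f2, P1z g12 g22 (by decide), P1z g13 g23 (by decide),
        add_zero, add_zero]
    obtain ⟨c, c', hne, hcc⟩ := j1 x w₁
    have hP := congrArg (pr ρ p₁ p₂ p₃ 1 (-1)) hcc
    rw [map_add, map_smul, map_smul, proj x e1 e2, proj w₁ hw1 hw2, map_zero] at hP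
    have hc : c ≠ 0 := by
      rintro rfl
      rw [zero_smul, zero_add] at hP
      rcases hne with h | h
      · exact h rfl
      · exact h (smul_eq_zero_left hw0 hP)
    refine ⟨-(c⁻¹ * c'), ?_⟩
    have h4 : c⁻¹ • (c • x + c' • w₁) = 0 := by rw [hP, smul_zero]
    rw [smul_add, smul_smul, smul_smul, inv_mul_cancel₀ hc, one_smul] at h4
    rw [neg_smul]
    exact eq_neg_of_add_eq_zero_left h4
  · -- b fixes the common fixed space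
    intro x e1 e2
    have e3 : ρ p₃ x = x := by rw [← T.a12, e2, e1]
    have f1 : ρ p₁ (ρ b x) = ρ b x := by rw [← T.ab3, e3]
    have f2 : ρ p₂ (ρ b x) = ρ b x := by rw [← T.ab1, e1]
    obtain ⟨α, β, γ, hne, hc⟩ := j2 w₁ (ρ b w₁) x
    unfold nb at hc
    have g1 : ρ p₁ (ρ b x - x) = (1 : ZMod 3) • (ρ b x - x) := by
      rw [map_sub, f1, e1, one_smul]
    have g2 : ρ p₂ (ρ b x - x) = (1 : ZMod 3) • (ρ b x - x) := by
      rw [map_sub, f2, e2, one_smul]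
    have t1 : ρ p₁ w₁ = (1 : ZMod 3) • w₁ := by rw [hw1, one_smul]
    have t2 : ρ p₂ w₁ = (-1 : ZMod 3) • w₁ := by rw [hw2, neg_one_smul]
    have s1 : ρ p₁ (ρ b w₁) = (-1 : ZMod 3) • ρ b w₁ := by rw [k12, neg_one_smul]
    have s2 : ρ p₂ (ρ b w₁) = (1 : ZMod 3) • ρ b w₁ := by rw [k22, one_smul]
    have r1 : ρ p₁ (ρ b (ρ b w₁)) = (-1 : ZMod 3) • ρ b (ρ b w₁) := by rw [k13, neg_one_smul]
    have r2 : ρ p₂ (ρ b (ρ b w₁)) = (-1 : ZMod 3) • ρ b (ρ b w₁) := by rw [k23, neg_one_smul]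
    -- project to the first line: α = 0
    have hα : α = 0 := by
      have hP := congrArg (pr ρ p₁ p₂ p₃ 1 (-1)) hc
      simp only [map_add, map_smul, map_sub, map_zero] at hP
      rw [P1 hw1 hw2, P1z s1 s2 (by decide), P1z r1 r2 (by decide)] at hP
      have hx : pr ρ p₁ p₂ p₃ 1 (-1) (ρ b x) - pr ρ p₁ p₂ p₃ 1 (-1) x = 0 := by
        rw [← map_sub]
        exact P1z g1 g2 (by decide)
      rw [hx, smul_zero, add_zero, sub_zero, zero_sub, smul_zero, add_zero, smul_neg,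
        neg_eq_zero] at hP
      exact smul_eq_zero_left hw0 hP
    -- project to the third line: β = 0
    have hβ : β = 0 := by
      have hP := congrArg (pr ρ p₁ p₂ p₃ (-1) (-1)) hc
      simp only [map_add, map_smul, map_sub, map_zero] at hP
      rw [P3 k13 k23, P3z s1 s2 (by decide), P3z t1 t2 (by decide)] at hP
      have hx : pr ρ p₁ p₂ p₃ (-1) (-1) (ρ b x) - pr ρ p₁ p₂ p₃ (-1) (-1) x = 0 := by
        rw [← map_sub]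
        exact P3z g1 g2 (by decide)
      rw [hx, smul_zero, add_zero, sub_zero, sub_zero, smul_zero, zero_add] at hP
      exact smul_eq_zero_left hw3' hP
    subst hα
    subst hβ
    have hγ : γ ≠ 0 := by
      rcases hne with h | h | h
      · exact absurd rfl h
      · exact absurd rfl h
      · exact h
    rw [zero_smul, zero_smul, zero_add, zero_add] at hc
    have h5 : γ⁻¹ • (γ • (ρ b x - x)) = 0 := by rw [hc, smul_zero]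
    rw [smul_smul, inv_mul_cancel₀ hγ, one_smul] at h5
    exact sub_eq_zero.mp h5

end Cfsg.Agent.Lib.helper38.TN
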