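import Cfsg.Agent.Lib.helper38.TN3
import Cfsg.Agent.Lib.helper92.Simple

/-!
helper38: Thompson's N-groups lemma (S4415), part 4: the outer module reduction.
-/

set_option autoImplicit false

namespace Cfsg.Agent.Lib.helper38.TN

section Outer

variable {S : Type*} [Group S] [Finite S] {E : Type*} [AddCommGroup E] [Module (ZMod 3) E]

/-- The hypotheses at the level of the big group and the big module. -/
structure Out (ρ : Representation (ZMod 3) S E) (R : Subgroup S) (b q₁ q₂ q₃ : S)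
    (u₁ u₂ u₃ : E) : Prop where
  frame : Frame ρ b q₁ q₂ q₃ u₁ u₂ u₃
  q1R : q₁ ∈ R
  bR : ∀ r ∈ R, b * r * b⁻¹ ∈ R
  faith : Function.Injective ρ
  cop : (Nat.card ↥R).Coprime 3
  gen : ∀ K : Subgroup S, b ∈ K → (∀ r ∈ R, ∀ k ∈ K, r * k * r⁻¹ ∈ K) → R ≤ K

namespace Out

variable {ρ : Representation (ZMod 3) S E} {R : Subgroup S} {b q₁ q₂ q₃ : S} {u₁ u₂ u₃ : E}
variable (O : Out ρ R b q₁ q₂ q₃ u₁ u₂ u₃)
include O

theorem q2R : q₂ ∈ R := by
  rw [← O.frame.tri.c1]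
  exact O.bR _ O.q1R

theorem q3R : q₃ ∈ R := by
  rw [← O.frame.tri.c2]
  exact O.bR _ O.q2R

theorem binvR : ∀ r ∈ R, b⁻¹ * r * b ∈ R := by
  intro r hr
  have hb3 := O.frame.b3
  have h1 : b⁻¹ = b * b := by
    have h1 : b * (b * b) = 1 := by rw [← hb3, pow_succ, pow_two, mul_assoc]
    exact inv_eq_of_mul_eq_one_right h1
  have : b⁻¹ * r * b = b * (b * r * b⁻¹) * b⁻¹ := by
    calc b⁻¹ * r * b = (b * b) * r * b := by rw [← h1]
      _ = b * (b * r * b⁻¹) * (b * b) := by group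
      _ = b * (b * r * b⁻¹) * b⁻¹ := by rw [← h1]
  rw [this]
  exact O.bR _ (O.bR _ hr)

theorem R_ker (r : S) (hr : r ∈ R) (v : E) :
    ρ r v ∈ LinearMap.ker (avg ρ R) ↔ v ∈ LinearMap.ker (avg ρ R) := by
  rw [LinearMap.mem_ker, LinearMap.mem_ker, avg_rho ρ R hr]

theorem b_ker (v : E) :
    ρ b v ∈ LinearMap.ker (avg ρ R) ↔ v ∈ LinearMap.ker (avg ρ R) := by
  rw [LinearMap.mem_ker, LinearMap.mem_ker, ← avg_comm ρ R b O.bR O.binvR]
  constructor
  · intro h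
    exact rho_inj ρ b (by rw [h, map_zero])
  · intro h
    rw [h, map_zero]

theorem b_fixed (v : E) (hv : v ∈ fixedSub ρ R) : ρ b v = v :=
  O.frame.cfix v (hv _ O.q1R) (hv _ O.q2R)

theorem u1_ker : u₁ ∈ LinearMap.ker (avg ρ R) := by
  rw [LinearMap.mem_ker]
  have h := avg_rho ρ R O.q2R u₁
  rw [O.frame.q2u1, map_neg] at h
  apply eq_zero_of_add_self
  nth_rewrite 1 [← h]
  exact neg_add_cancel _

theorem u2_ker : u₂ ∈ LinearMap.ker (avg ρ R) := by
  rw [← O.frame.bu1]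
  exact (O.b_ker u₁).mpr O.u1_ker

theorem u3_ker : u₃ ∈ LinearMap.ker (avg ρ R) := by
  rw [← O.frame.bu2]
  exact (O.b_ker u₂).mpr O.u2_ker

/-- The stabilizer-type subgroup used for invariance and faithfulness. -/
def stab (ρ : Representation (ZMod 3) S E) (R : Subgroup S) : Subgroup S where
  carrier := {g | (∀ v, ρ g v ∈ LinearMap.ker (avg ρ R) ↔ v ∈ LinearMap.ker (avg ρ R)) ∧
    ∀ v ∈ fixedSub ρ R, ρ g v = v}
  mul_mem' := by
    intro g h hg hh
    refine ⟨fun v => ?_, fun v hv => ?_⟩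
    · rw [rho_mul, hg.1, hh.1]
    · rw [rho_mul, hh.2 v hv, hg.2 v hv]
  one_mem' := ⟨fun v => by rw [rho_one], fun v _ => rho_one ρ v⟩
  inv_mem' := by
    intro g hg
    refine ⟨fun v => ?_, fun v hv => ?_⟩
    · rw [← hg.1 (ρ g⁻¹ v), rho_self_inv]
    · have := hg.2 v hv
      nth_rewrite 1 [← this]
      exact rho_inv_self ρ g v

omit O in
theorem mem_stab (g : S) : g ∈ stab ρ R ↔
    (∀ v, ρ g v ∈ LinearMap.ker (avg ρ R) ↔ v ∈ LinearMap.ker (avg ρ R)) ∧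
    ∀ v ∈ fixedSub ρ R, ρ g v = v := Iff.rfl

theorem le_stab : R ⊔ Subgroup.zpowers b ≤ stab ρ R := by
  apply sup_le
  · intro r hr
    exact ⟨fun v => O.R_ker r hr v, fun v hv => hv r hr⟩
  · rw [Subgroup.zpowers_le]
    exact ⟨fun v => O.b_ker v, fun v hv => O.b_fixed v hv⟩

theorem inv_aux (g : S) (hg : g ∈ R ⊔ Subgroup.zpowers b) (v : E)
    (hv : v ∈ LinearMap.ker (avg ρ R)) : ρ g v ∈ LinearMap.ker (avg ρ R) :=
  ((O.le_stab hg).1 v).mpr hv

theorem faith_aux (g : S) (hg : g ∈ R ⊔ Subgroup.zpowers b)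
    (h : ∀ v ∈ LinearMap.ker (avg ρ R), ρ g v = v) : g = 1 := by
  apply O.faith
  rw [map_one]
  apply LinearMap.ext
  intro v
  have hv : v ∈ LinearMap.ker (avg ρ R) ⊔ fixedSub ρ R := by
    rw [ker_sup_fixed ρ R O.cop]; exact Submodule.mem_top
  obtain ⟨x, hx, y, hy, rfl⟩ := Submodule.mem_sup.mp hv
  rw [map_add, h x hx, (O.le_stab hg).2 y hy]
  rfl

/-- projections of a decomposed vector -/
theorem pr_D1 (a₁ a₂ a₃ : ZMod 3) {c : E} (hc : c ∈ fixQ ρ q₁ q₂) :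
    pr ρ q₁ q₂ q₃ 1 (-1) (a₁ • u₁ + a₂ • u₂ + a₃ • u₃ + c) = a₁ • u₁ := by
  have F := O.frame
  have hc3 : ρ q₃ c = c := by rw [← F.tri.a12, hc.2, hc.1]
  rw [pr_apply]
  simp only [map_add, map_smul, F.q1u1, F.q1u2, F.q1u3, F.q2u1, F.q2u2, F.q2u3,
    F.q3u1, F.q3u2, F.q3u3, hc.1, hc.2, hc3]
  have h4 : (4 : ZMod 3) • (a₁ • u₁) = a₁ • u₁ := by
    have : (4 : ZMod 3) = 1 := by decide
    rw [this, one_smul]
  calc _ = (4 : ZMod 3) • (a₁ • u₁) := by module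
    _ = a₁ • u₁ := h4

theorem pr_D2 (a₁ a₂ a₃ : ZMod 3) {c : E} (hc : c ∈ fixQ ρ q₁ q₂) :
    pr ρ q₁ q₂ q₃ (-1) 1 (a₁ • u₁ + a₂ • u₂ + a₃ • u₃ + c) = a₂ • u₂ := by
  have F := O.frame
  have hc3 : ρ q₃ c = c := by rw [← F.tri.a12, hc.2, hc.1]
  rw [pr_apply]
  simp only [map_add, map_smul, F.q1u1, F.q1u2, F.q1u3, F.q2u1, F.q2u2, F.q2u3,
    F.q3u1, F.q3u2, F.q3u3, hc.1, hc.2, hc3]
  have h4 : (4 : ZMod 3) • (a₂ • u₂) = a₂ • u₂ := by
    have : (4 : ZMod 3) = 1 := by decide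
    rw [this, one_smul]
  calc _ = (4 : ZMod 3) • (a₂ • u₂) := by module
    _ = a₂ • u₂ := h4

theorem pr_D3 (a₁ a₂ a₃ : ZMod 3) {c : E} (hc : c ∈ fixQ ρ q₁ q₂) :
    pr ρ q₁ q₂ q₃ (-1) (-1) (a₁ • u₁ + a₂ • u₂ + a₃ • u₃ + c) = a₃ • u₃ := by
  have F := O.frame
  have hc3 : ρ q₃ c = c := by rw [← F.tri.a12, hc.2, hc.1]
  rw [pr_apply]
  simp only [map_add, map_smul, F.q1u1, F.q1u2, F.q1u3, F.q2u1, F.q2u2, F.q2u3,
    F.q3u1, F.q3u2, F.q3u3, hc.1, hc.2, hc3]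
  have h4 : (4 : ZMod 3) • (a₃ • u₃) = a₃ • u₃ := by
    have : (4 : ZMod 3) = 1 := by decide
    rw [this, one_smul]
  calc _ = (4 : ZMod 3) • (a₃ • u₃) := by module
    _ = a₃ • u₃ := h4

theorem smul_mem_imp {N : Submodule (ZMod 3) E} {a : ZMod 3} {u : E} (ha : a ≠ 0)
    (h : a • u ∈ N) : u ∈ N := by
  have := N.smul_mem a⁻¹ h
  rwa [smul_smul, inv_mul_cancel₀ ha, one_smul] at this

/-- Irreducibility of `[E, R]` under `R` and `b`. -/
theorem irr_aux (N : Submodule (ZMod 3) E) (hN : N ≤ LinearMap.ker (avg ρ R))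
    (hR : ∀ r ∈ R, ∀ v ∈ N, ρ r v ∈ N) (hb : ∀ v ∈ N, ρ b v ∈ N) :
    N = ⊥ ∨ N = LinearMap.ker (avg ρ R) := by
  have F := O.frame
  by_cases hbot : N = ⊥
  · exact Or.inl hbot
  right
  have hpr : ∀ (s₁ s₂ : ZMod 3), ∀ v ∈ N, pr ρ q₁ q₂ q₃ s₁ s₂ v ∈ N := by
    intro s₁ s₂ v hv
    rw [pr_apply]
    exact N.add_mem (N.add_mem (N.add_mem hv (N.smul_mem _ (hR _ O.q1R v hv)))
      (N.smul_mem _ (hR _ O.q2R v hv))) (N.smul_mem _ (hR _ O.q3R v hv))
  -- Step A: u₁ ∈ N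
  have hu1 : u₁ ∈ N := by
    by_contra hu1
    have hfix : ∀ v ∈ N, ρ b v = v := by
      intro v hv
      obtain ⟨a₁, a₂, a₃, c, hc, rfl⟩ := F.decomp v
      have h1 := hpr 1 (-1) _ hv
      rw [O.pr_D1 a₁ a₂ a₃ hc] at h1
      have h2 := hpr (-1) 1 _ hv
      rw [O.pr_D2 a₁ a₂ a₃ hc] at h2
      have h3 := hpr (-1) (-1) _ hv
      rw [O.pr_D3 a₁ a₂ a₃ hc] at h3
      have e1 : a₁ = 0 := by
        by_contra ha
        exact hu1 (O.smul_mem_imp ha h1)
      have e2 : a₂ = 0 := by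
        by_contra ha
        have hu2 := O.smul_mem_imp ha h2
        have := hb _ (hb _ hu2)
        rw [F.bu2, F.bu3] at this
        exact hu1 this
      have e3 : a₃ = 0 := by
        by_contra ha
        have hu3 := O.smul_mem_imp ha h3
        have := hb _ hu3
        rw [F.bu3] at this
        exact hu1 this
      subst e1 e2 e3
      rw [F.b_apply 0 0 0 hc]
    let K : Subgroup S :=
      { carrier := {g | ∀ v ∈ N, ρ g v = v}
        mul_mem' := by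
          intro g h hg hh v hv
          rw [rho_mul, hh v hv, hg v hv]
        one_mem' := fun v _ => rho_one ρ v
        inv_mem' := by
          intro g hg v hv
          nth_rewrite 1 [← hg v hv]
          exact rho_inv_self ρ g v }
    have hRK : R ≤ K := by
      apply O.gen K hfix
      intro r hr k hk v hv
      have hrv : ρ r⁻¹ v ∈ N := hR _ (R.inv_mem hr) v hv
      rw [rho_mul, rho_mul, hk _ hrv, rho_self_inv]
    apply hbot
    rw [eq_bot_iff]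
    intro v hv
    have h1 : v ∈ LinearMap.ker (avg ρ R) ⊓ fixedSub ρ R :=
      ⟨hN hv, fun r hr => hRK hr v hv⟩
    rwa [ker_inf_fixed ρ R O.cop] at h1
  have hu2 : u₂ ∈ N := by rw [← F.bu1]; exact hb _ hu1
  have hu3 : u₃ ∈ N := by rw [← F.bu2]; exact hb _ hu2
  -- Step B
  have hRiff : ∀ r ∈ R, ∀ v, ρ r v ∈ N ↔ v ∈ N := by
    intro r hr v
    constructor
    · intro h
      have := hR _ (R.inv_mem hr) _ h
      rwa [rho_inv_self] at this
    · exact hR r hr v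
  let K' : Subgroup S :=
    { carrier := {g | (∀ v, ρ g v ∈ N ↔ v ∈ N) ∧
        (∀ v, ρ g v ∈ LinearMap.ker (avg ρ R) ↔ v ∈ LinearMap.ker (avg ρ R)) ∧
        ∀ v ∈ LinearMap.ker (avg ρ R), ρ g v - v ∈ N}
      mul_mem' := by
        intro g h hg hh
        refine ⟨fun v => ?_, fun v => ?_, fun v hv => ?_⟩
        · rw [rho_mul, hg.1, hh.1]
        · rw [rho_mul, hg.2.1, hh.2.1]
        · rw [rho_mul]
          have h1 := hg.2.2 _ ((hh.2.1 v).mpr hv)
          have h2 := hh.2.2 v hv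
          have : ρ g (ρ h v) - v = (ρ g (ρ h v) - ρ h v) + (ρ h v - v) := by abel
          rw [this]
          exact N.add_mem h1 h2
      one_mem' := by
        refine ⟨fun v => by rw [rho_one], fun v => by rw [rho_one], fun v _ => ?_⟩
        rw [rho_one, sub_self]
        exact N.zero_mem
      inv_mem' := by
        intro g hg
        refine ⟨fun v => ?_, fun v => ?_, fun v hv => ?_⟩
        · rw [← hg.1 (ρ g⁻¹ v), rho_self_inv]
        · rw [← hg.2.1 (ρ g⁻¹ v), rho_self_inv]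
        · have hw : ρ g⁻¹ v ∈ LinearMap.ker (avg ρ R) := by
            rw [← hg.2.1 (ρ g⁻¹ v), rho_self_inv]; exact hv
          have h1 := hg.2.2 _ hw
          rw [rho_self_inv] at h1
          have : ρ g⁻¹ v - v = -(v - ρ g⁻¹ v) := by abel
          rw [this]
          exact N.neg_mem h1 }
  have hbK : b ∈ K' := by
    refine ⟨fun v => ?_, fun v => O.b_ker v, fun v _ => ?_⟩
    · constructor
      · intro h
        have := hb _ (hb _ h)
        rwa [rho_pow_three ρ F.b3] at this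
      · exact hb v
    · obtain ⟨a₁, a₂, a₃, c, hc, rfl⟩ := F.decomp v
      have := F.nb_apply a₁ a₂ a₃ hc
      unfold nb at this
      rw [this]
      exact N.add_mem (N.add_mem (N.add_mem (N.smul_mem _ hu1) (N.smul_mem _ hu2))
        (N.smul_mem _ hu3)) N.zero_mem
  have hRK : R ≤ K' := by
    apply O.gen K' hbK
    intro r hr k hk
    have hr' := R.inv_mem hr
    refine ⟨fun v => ?_, fun v => ?_, fun v hv => ?_⟩
    · rw [rho_mul, rho_mul, hRiff r hr, hk.1, hRiff r⁻¹ hr']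
    · rw [rho_mul, rho_mul, O.R_ker r hr, hk.2.1, O.R_ker r⁻¹ hr']
    · rw [rho_mul, rho_mul]
      have hw : ρ r⁻¹ v ∈ LinearMap.ker (avg ρ R) := (O.R_ker r⁻¹ hr' v).mpr hv
      have h1 := hk.2.2 _ hw
      have h2 := hR r hr _ h1
      rw [map_sub, rho_self_inv] at h2
      exact h2
  exact eq_ker_of_quot_trivial ρ R O.cop N hN (fun r hr v hv => (hRK hr).2.2 v hv)

end Out

end Outer

end Cfsg.Agent.Lib.helper38.TN
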