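import Cfsg.Agent.Lib.helper38.TN4

/-!
helper38: Thompson's N-groups lemma (S4415), part 5: restriction to `[E, R]` and transport.
-/

set_option autoImplicit false

namespace Cfsg.Agent.Lib.helper38.TN

section Res

variable {S : Type*} [Group S] [Finite S] {E : Type*} [AddCommGroup E] [Module (ZMod 3) E]

/-- Restriction of a representation to a subgroup and an invariant submodule. -/
noncomputable def resRep (ρ : Representation (ZMod 3) S E) (H : Subgroup S)
    (F₀ : Submodule (ZMod 3) E) (hinv : ∀ g ∈ H, ∀ v ∈ F₀, ρ g v ∈ F₀) :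
    Representation (ZMod 3) ↥H ↥F₀ where
  toFun g := (ρ (g : S)).restrict (hinv g g.2)
  map_one' := by
    apply LinearMap.ext
    intro v
    apply Subtype.ext
    show ρ ((1 : ↥H) : S) (v : E) = v
    rw [Subgroup.coe_one, rho_one]
  map_mul' := by
    intro g h
    apply LinearMap.ext
    intro v
    apply Subtype.ext
    show ρ ((g * h : ↥H) : S) (v : E) = ρ (g : S) (ρ (h : S) (v : E))
    rw [Subgroup.coe_mul, rho_mul]

theorem resRep_apply (ρ : Representation (ZMod 3) S E) (H : Subgroup S)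
    (F₀ : Submodule (ZMod 3) E) (hinv : ∀ g ∈ H, ∀ v ∈ F₀, ρ g v ∈ F₀) (g : ↥H) (v : ↥F₀) :
    ((resRep ρ H F₀ hinv g v : ↥F₀) : E) = ρ (g : S) (v : E) := rfl

variable {ρ : Representation (ZMod 3) S E} {R : Subgroup S} {b q₁ q₂ q₃ : S} {u₁ u₂ u₃ : E}

theorem Out.bH (_O : Out ρ R b q₁ q₂ q₃ u₁ u₂ u₃) : b ∈ R ⊔ Subgroup.zpowers b :=
  (le_sup_right : Subgroup.zpowers b ≤ R ⊔ Subgroup.zpowers b) (Subgroup.mem_zpowers b)

/-- The context of the core theorem, for the action on `[E, R]`. -/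
theorem Out.ctx [Group.IsSolvable S] (O : Out ρ R b q₁ q₂ q₃ u₁ u₂ u₃) :
    Ctx (resRep ρ (R ⊔ Subgroup.zpowers b) (LinearMap.ker (avg ρ R)) O.inv_aux)
      (R.subgroupOf (R ⊔ Subgroup.zpowers b))
      ⟨b, O.bH⟩ ⟨q₁, (le_sup_left : R ≤ R ⊔ Subgroup.zpowers b) O.q1R⟩
      ⟨q₂, (le_sup_left : R ≤ R ⊔ Subgroup.zpowers b) O.q2R⟩
      ⟨q₃, (le_sup_left : R ≤ R ⊔ Subgroup.zpowers b) O.q3R⟩
      ⟨u₁, O.u1_ker⟩ ⟨u₂, O.u2_ker⟩ ⟨u₃, O.u3_ker⟩ := by
  have F := O.frame
  have T := F.tri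
  have hRH : R ≤ R ⊔ Subgroup.zpowers b := le_sup_left
  refine
    { frame :=
        { tri :=
            { sq := Subtype.ext T.sq
              m12 := Subtype.ext T.m12
              m21 := Subtype.ext T.m21
              c1 := Subtype.ext T.c1
              c2 := Subtype.ext T.c2
              c3 := Subtype.ext T.c3
              ne := fun h => T.ne (congrArg Subtype.val h) }
          b3 := Subtype.ext (by simpa using F.b3)
          u1 := fun h => F.u1 (congrArg Subtype.val h)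
          bu1 := Subtype.ext F.bu1
          bu2 := Subtype.ext F.bu2
          bu3 := Subtype.ext F.bu3
          q1u1 := Subtype.ext F.q1u1
          q2u1 := Subtype.ext F.q2u1
          line := ?_
          cfix := ?_ }
      q1R := Subgroup.mem_subgroupOf.mpr O.q1R
      bR := ?_
      faith := ?_
      cop := ?_
      solv := (inferInstance : Group.IsSolvable ↥(R.subgroupOf (R ⊔ Subgroup.zpowers b)))
      gen := ?_
      irr := ?_ }
  · intro v h1 h2
    have h1' : ρ q₁ (v : E) = v := congrArg Subtype.val h1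
    have h2' : ρ q₂ (v : E) = -(v : E) := congrArg Subtype.val h2
    obtain ⟨c, hc⟩ := F.line _ h1' h2'
    exact ⟨c, Subtype.ext hc⟩
  · intro v h1 h2
    have h1' : ρ q₁ (v : E) = v := congrArg Subtype.val h1
    have h2' : ρ q₂ (v : E) = v := congrArg Subtype.val h2
    exact Subtype.ext (F.cfix _ h1' h2')
  · intro r hr
    rw [Subgroup.mem_subgroupOf] at hr ⊢
    exact O.bR _ hr
  · intro r hr hv
    rw [Subgroup.mem_subgroupOf] at hr
    apply Subtype.ext
    apply O.faith_aux (r : S) r.2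
    intro v hv0
    exact congrArg Subtype.val (hv ⟨v, hv0⟩)
  · have e := Subgroup.subgroupOfEquivOfLe hRH
    rw [Nat.card_congr e.toEquiv]
    exact O.cop
  · intro K hbK hK
    have h1 : R ≤ K.map (R ⊔ Subgroup.zpowers b).subtype := by
      apply O.gen
      · exact ⟨⟨b, O.bH⟩, hbK, rfl⟩
      · rintro r hr _ ⟨k, hk, rfl⟩
        refine ⟨⟨r, hRH hr⟩ * k * ⟨r, hRH hr⟩⁻¹, hK _ (Subgroup.mem_subgroupOf.mpr hr) k hk, rfl⟩
    intro r hr
    rw [Subgroup.mem_subgroupOf] at hr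
    obtain ⟨k, hk, hkr⟩ := h1 hr
    have : k = r := Subtype.ext hkr
    rwa [this] at hk
  · intro N hR hb
    have h := O.irr_aux (N.map (LinearMap.ker (avg ρ R)).subtype) ?_ ?_ ?_
    · rcases h with h | h
      · left
        rw [eq_bot_iff]
        intro v hv
        have : (v : E) ∈ N.map (LinearMap.ker (avg ρ R)).subtype := ⟨v, hv, rfl⟩
        rw [h] at this
        rw [Submodule.mem_bot] at this ⊢
        exact Subtype.ext this
      · right
        rw [eq_top_iff]
        intro v _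
        have hv : (v : E) ∈ N.map (LinearMap.ker (avg ρ R)).subtype := by
          rw [h]; exact v.2
        obtain ⟨w, hw, hwv⟩ := hv
        have : w = v := Subtype.ext hwv
        rwa [this] at hw
    · rintro _ ⟨v, _, rfl⟩
      exact v.2
    · rintro r hr _ ⟨v, hv, rfl⟩
      exact ⟨_, hR ⟨r, hRH hr⟩ (Subgroup.mem_subgroupOf.mpr hr) v hv, rfl⟩
    · rintro _ ⟨v, hv, rfl⟩
      exact ⟨_, hb v hv, rfl⟩

omit [Finite S] in
/-- Transport of the conclusion from `R.subgroupOf H` to `R`. -/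
theorem concl_of_subgroupOf {R H : Subgroup S} (hRH : R ≤ H) (h : Concl (R.subgroupOf H)) :
    (Cfsg.IsElementaryAbelian 2 R ∧ Nat.card ↥R = 4) ∨
    (Cfsg.IsExtraspecial 2 ↥R ∧ Nat.card ↥R = 32 ∧
      ∃ A : Subgroup S, A ≤ R ∧ Cfsg.IsElementaryAbelian 2 A ∧ Nat.card ↥A = 8) := by
  have e := Subgroup.subgroupOfEquivOfLe hRH
  have hcard : Nat.card ↥(R.subgroupOf H) = Nat.card ↥R := Nat.card_congr e.toEquiv
  rcases h with ⟨⟨hc, hex⟩, h4⟩ | ⟨hes, h32, A', hA', ⟨hAc, hAex⟩, hA8⟩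
  · left
    refine ⟨⟨⟨⟨fun x y => ?_⟩⟩, fun a ha => ?_⟩, hcard ▸ h4⟩
    · have := hc.is_comm.comm ⟨⟨x, hRH x.2⟩, Subgroup.mem_subgroupOf.mpr x.2⟩
        ⟨⟨y, hRH y.2⟩, Subgroup.mem_subgroupOf.mpr y.2⟩
      apply Subtype.ext
      have h2 := congrArg (fun t : ↥(R.subgroupOf H) => ((t : ↥H) : S)) this
      simpa using h2
    · have := hex ⟨a, hRH ha⟩ (Subgroup.mem_subgroupOf.mpr ha)
      have h2 := congrArg Subtype.val this
      simpa using h2
  · right
    refine ⟨Cfsg.Agent.Lib.helper92.isExtraspecial_of_mulEquiv e hes, hcard ▸ h32,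
      A'.map H.subtype, ?_, ⟨⟨⟨fun x y => ?_⟩⟩, ?_⟩, ?_⟩
    · rintro _ ⟨a, ha, rfl⟩
      exact Subgroup.mem_subgroupOf.mp (hA' ha)
    · obtain ⟨x, a, ha, rfl⟩ := x
      obtain ⟨y, a', ha', rfl⟩ := y
      have := hAc.is_comm.comm ⟨a, ha⟩ ⟨a', ha'⟩
      apply Subtype.ext
      have h2 := congrArg (fun t : ↥A' => ((t : ↥H) : S)) this
      simpa using h2
    · rintro _ ⟨a, ha, rfl⟩
      have := hAex a ha
      have h2 := congrArg Subtype.val this
      simpa using h2
    · rw [Subgroup.card_map_of_injective H.subtype_injective]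
      exact hA8

end Res

end Cfsg.Agent.Lib.helper38.TN
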