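import Mathlib
import Cfsg.Prelude.Def_Transfer
import Cfsg.Agent.Lib.helper38.SignSemiregular
import Cfsg.Agent.Lib.helper26.PResidual

set_option autoImplicit false

namespace Cfsg.Agent.Lib.helper38

/-- The sign of the permutation action of a finite group on the cosets of a subgroup. -/
noncomputable def cosetSign {H : Type*} [Group H] [Finite H] (T : Subgroup H) : H →* ℤˣ :=
  letI : Fintype (H ⧸ T) := Fintype.ofFinite _
  letI : DecidableEq (H ⧸ T) := Classical.decEq _
  Equiv.Perm.sign.comp (MulAction.toPermHom H (H ⧸ T))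

/-- Thompson-style sign computation: if `u ^ 2^(n+1) = 1`, no conjugate of `u ^ 2^n` lies in `T`, and
`|H : T| = m * 2^(n+1)` with `m` odd, then `u` acts as an odd permutation on `H ⧸ T`. -/
theorem cosetSign_eq_neg_one {H : Type*} [Group H] [Finite H] (T : Subgroup H) (u : H) (n m : ℕ)
    (hu : u ^ (2 ^ (n + 1)) = 1) (hconj : ∀ h : H, h⁻¹ * u ^ (2 ^ n) * h ∉ T) (hm : Odd m)
    (hidx : T.index = m * 2 ^ (n + 1)) : cosetSign T u = -1 := by
  classical
  letI : Fintype (H ⧸ T) := Fintype.ofFinite _
  have key : Equiv.Perm.sign (MulAction.toPermHom H (H ⧸ T) u) = -1 := by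
    apply sign_eq_neg_one_of_semiregular _ n m
    · rw [← map_pow, hu, map_one]
    · intro q
      rw [← map_pow]
      induction q using QuotientGroup.induction_on with
      | H h =>
        intro hfix
        have h1 : ((u ^ (2 ^ n) * h : H) : H ⧸ T) = (h : H ⧸ T) := hfix
        rw [QuotientGroup.eq] at h1
        apply hconj h
        have h2 : h⁻¹ * u ^ (2 ^ n) * h = ((u ^ (2 ^ n) * h)⁻¹ * h)⁻¹ := by group
        rw [h2]
        exact T.inv_mem h1
    · exact hm
    · rw [← hidx, Subgroup.index_eq_card, Nat.card_eq_fintype_card]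
  unfold cosetSign
  rw [MonoidHom.comp_apply]
  convert key

/-- `ℤˣ` is a 2-group. -/
theorem isPGroup_two_int_units : IsPGroup 2 ℤˣ := by
  apply IsPGroup.of_card (n := 1)
  rw [Nat.card_eq_fintype_card, Fintype.card_units_int]
  rfl

/-- A homomorphism to `ℤˣ` taking the value `-1` has a kernel of index 2. -/
theorem index_ker_eq_two {H : Type*} [Group H] (f : H →* ℤˣ) (u : H) (hu : f u = -1) : f.ker.index = 2 := by
  rw [Subgroup.index_ker]
  have : f.range = ⊤ := by
    rw [eq_top_iff]
    intro y _
    rcases Int.units_eq_one_or y with h | h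
    · rw [h]; exact f.range.one_mem
    · rw [h]; exact ⟨u, hu⟩
  rw [this, Subgroup.card_top, Nat.card_eq_fintype_card, Fintype.card_units_int]

/-- Iterated Thompson transfer: let `T ≤ O²(G)`, `O²(G) ≤ H`, `u ∈ H` of order `2^n` with
`|H| = m |T| 2^n`, `m` odd, such that the involution of `⟨u⟩` is not conjugate into `T`. Then `T` has odd
index in `O²(G)`. -/
theorem relIndex_pResidual_odd {G : Type*} [Group G] [Finite G] (T : Subgroup G)
    (hT : T ≤ Cfsg.pResidual 2 G) (m : ℕ) (hm : Odd m) :
    ∀ (n : ℕ) (H : Subgroup G) (u : G), Cfsg.pResidual 2 G ≤ H → u ∈ H → orderOf u = 2 ^ n →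
      Nat.card H = m * (Nat.card T * 2 ^ n) → (1 ≤ n → ∀ g : G, g * u ^ (2 ^ (n - 1)) * g⁻¹ ∉ T) →
      ¬ 2 ∣ T.relIndex (Cfsg.pResidual 2 G) := by
  intro n
  induction n with
  | zero =>
    intro H u hKH huH hord hcard _
    have h1 : T.relIndex (Cfsg.pResidual 2 G) ∣ T.relIndex H :=
      Dvd.intro _ (Subgroup.relIndex_mul_relIndex _ _ _ hT hKH)
    have h2 : Nat.card T * T.relIndex H = Nat.card H := by
      have := Subgroup.card_mul_index (T.subgroupOf H)
      rw [Nat.card_congr (Subgroup.subgroupOfEquivOfLe (le_trans hT hKH)).toEquiv] at this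
      exact this
    have h3 : T.relIndex H = m := by
      have hTpos : 0 < Nat.card T := Nat.card_pos
      rw [hcard, pow_zero, mul_one, mul_comm m] at h2
      exact Nat.eq_of_mul_eq_mul_left hTpos h2
    rw [h3] at h1
    intro h2dvd
    have : 2 ∣ m := h2dvd.trans h1
    rcases hm with ⟨k, rfl⟩
    omega
  | succ n ih =>
    intro H u hKH huH hord hcard hconj
    have hTH : T ≤ H := le_trans hT hKH
    -- the sign character on H
    have hidx : (T.subgroupOf H).index = m * 2 ^ (n + 1) := by
      have h2 : Nat.card T * T.relIndex H = Nat.card H := by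
        have := Subgroup.card_mul_index (T.subgroupOf H)
        rw [Nat.card_congr (Subgroup.subgroupOfEquivOfLe hTH).toEquiv] at this
        exact this
      have hTpos : 0 < Nat.card T := Nat.card_pos
      rw [hcard] at h2
      have : Nat.card T * T.relIndex H = Nat.card T * (m * 2 ^ (n + 1)) := by rw [h2]; ring
      exact Nat.eq_of_mul_eq_mul_left hTpos this
    have hsgn : cosetSign (T.subgroupOf H) (⟨u, huH⟩ : H) = -1 := by
      apply cosetSign_eq_neg_one _ _ n m
      · apply Subtype.ext
        rw [Subgroup.coe_pow, Subgroup.coe_one, Subgroup.coe_mk, ← hord, pow_orderOf_eq_one]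
      · intro h hmem
        rw [Subgroup.mem_subgroupOf] at hmem
        have h1 := hconj (by omega) ((h : G)⁻¹)
        apply h1
        simpa using hmem
      · exact hm
      · exact hidx
    obtain ⟨f, hf⟩ : ∃ f : H →* ℤˣ, f = cosetSign (T.subgroupOf H) := ⟨_, rfl⟩
    rw [← hf] at hsgn
    have hker2 : f.ker.index = 2 := index_ker_eq_two f _ hsgn
    have hcard' : Nat.card (f.ker.map H.subtype) = m * (Nat.card T * 2 ^ n) := by
      have h1 : Nat.card (f.ker.map H.subtype) = Nat.card f.ker :=
        (Nat.card_congr (f.ker.equivMapOfInjective H.subtype H.subtype_injective).toEquiv).symm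
      have h2 := Subgroup.card_mul_index f.ker
      rw [hker2, hcard] at h2
      rw [h1]
      have : Nat.card f.ker * 2 = (m * (Nat.card T * 2 ^ n)) * 2 := by rw [h2]; ring
      exact Nat.eq_of_mul_eq_mul_right (by norm_num) this
    have hK' : Cfsg.pResidual 2 G ≤ f.ker.map H.subtype := by
      unfold Cfsg.pResidual
      rw [Subgroup.closure_le]
      intro g hg
      have hgK : g ∈ Cfsg.pResidual 2 G := Subgroup.subset_closure hg
      have hgH : g ∈ H := hKH hgK
      refine ⟨⟨g, hgH⟩, ?_, rfl⟩
      have h1 : (⟨g, hgH⟩ : H) ∈ Cfsg.pResidual 2 H := by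
        apply Subgroup.subset_closure
        show Nat.Coprime (orderOf (⟨g, hgH⟩ : H)) 2
        rw [Subgroup.orderOf_mk]
        exact hg
      exact Cfsg.Agent.Lib.helper26.pResidual_le_ker isPGroup_two_int_units f h1
    have hu2 : u ^ 2 ∈ f.ker.map H.subtype := by
      refine ⟨⟨u, huH⟩ ^ 2, ?_, rfl⟩
      rw [SetLike.mem_coe, MonoidHom.mem_ker, map_pow, hsgn]
      norm_num
    have hord2 : orderOf (u ^ 2) = 2 ^ n := by
      rw [orderOf_pow_of_dvd (by norm_num) (by rw [hord, pow_succ]; exact Dvd.intro_left _ rfl), hord, pow_succ]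
      exact Nat.mul_div_cancel _ (by norm_num)
    apply ih (f.ker.map H.subtype) (u ^ 2) hK' hu2 hord2 hcard'
    intro hn g
    have h1 := hconj (by omega) g
    have h2 : (u ^ 2) ^ (2 ^ (n - 1)) = u ^ (2 ^ (n + 1 - 1)) := by
      rw [← pow_mul]
      congr 1
      have : n + 1 - 1 = (n - 1) + 1 := by omega
      rw [this, pow_succ]; ring
    rw [h2]
    exact h1

end Cfsg.Agent.Lib.helper38
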