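import Mathlib
import Cfsg.Agent.Lib.helper13.Count
import Cfsg.Agent.Lib.helper91.BaerSuzuki

/-!
Tightly embedded subgroups (helper38): an abstract family `C` of subgroups (the conjugates of a
tightly embedded subgroup) closed under conjugation, any two distinct members of which share no
nontrivial `2`-element, and the Aschbacher configuration `T ≤ K ∩ N(H)`, `T ≤ S ≤ H T`.
-/

set_option autoImplicit false

namespace Cfsg.Agent.Lib.helper38

section TightEmb

variable {G : Type*} [Group G]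

theorem mem_map_conj_iff (H : Subgroup G) (x a : G) :
    a ∈ H.map (MulAut.conj x).toMonoidHom ↔ x⁻¹ * a * x ∈ H := by
  constructor
  · rintro ⟨h, hh, rfl⟩
    simpa [MulAut.conj_apply, mul_assoc] using hh
  · intro h
    exact ⟨x⁻¹ * a * x, h, by simp [MulAut.conj_apply, mul_assoc]⟩

theorem map_conj_eq_of_mem_normalizer {H : Subgroup G} {x : G}
    (hx : x ∈ Subgroup.normalizer (H : Set G)) :
    H.map (MulAut.conj x).toMonoidHom = H := by
  ext a
  rw [mem_map_conj_iff, Subgroup.mem_normalizer_iff.mp hx (x⁻¹ * a * x)]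
  simp [mul_assoc]

theorem mem_normalizer_of_map_conj_eq {H : Subgroup G} {x : G}
    (hx : H.map (MulAut.conj x).toMonoidHom = H) :
    x ∈ Subgroup.normalizer (H : Set G) := by
  rw [Subgroup.mem_normalizer_iff]
  intro h
  have h1 : x * h * x⁻¹ ∈ H ↔ x * h * x⁻¹ ∈ H.map (MulAut.conj x).toMonoidHom := by rw [hx]
  rw [h1, mem_map_conj_iff]
  simp [mul_assoc]

theorem two_pow_of_mem_of_isPGroup {S : Subgroup G} (hS2 : IsPGroup 2 S) {a : G} (ha : a ∈ S) :
    ∃ k : ℕ, a ^ 2 ^ k = 1 := by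
  obtain ⟨k, hk⟩ := hS2 ⟨a, ha⟩
  exact ⟨k, by simpa using congrArg Subtype.val hk⟩

/-- If `A` and `B` commute elementwise and meet trivially, any subgroup `C ≤ A B` meeting `A`
trivially embeds in `B` (projection along `A`). -/
theorem exists_injective_hom_of_commute {A B C : Subgroup G}
    (hcomm : ∀ a ∈ A, ∀ b ∈ B, a * b = b * a) (hAB : A ⊓ B = ⊥)
    (hC : C ≤ A ⊔ B) (hCA : C ⊓ A = ⊥) :
    ∃ f : C →* B, Function.Injective f := by
  classical
  have hLE : B ≤ Subgroup.normalizer (A : Set G) := by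
    intro b hb
    rw [Subgroup.mem_normalizer_iff]
    intro a
    constructor
    · intro ha
      have h1 : b * a * b⁻¹ = a := by rw [← hcomm a ha b hb, mul_inv_cancel_right]
      rw [h1]; exact ha
    · intro ha
      have h2 := hcomm _ ha b hb
      have h3 : b * a = b * (b * a * b⁻¹) := by rw [← h2]; group
      have h4 : a = b * a * b⁻¹ := mul_left_cancel h3
      rw [h4]; exact ha
  have hdec : ∀ c : C, ∃ b : B, ∃ a ∈ A, (c : G) = a * b := by
    intro c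
    have hc : (c : G) ∈ ((A ⊔ B : Subgroup G) : Set G) := hC c.2
    rw [Subgroup.coe_mul_of_right_le_normalizer_left A B hLE] at hc
    obtain ⟨a, ha, b, hb, hab⟩ := Set.mem_mul.mp hc
    exact ⟨⟨b, hb⟩, a, ha, hab.symm⟩
  have huniq : ∀ a ∈ A, ∀ a' ∈ A, ∀ b ∈ B, ∀ b' ∈ B, a * b = a' * b' → b = b' := by
    intro a ha a' ha' b hb b' hb' h
    have h1 : a'⁻¹ * a = b' * b⁻¹ := by
      rw [eq_mul_inv_iff_mul_eq, mul_assoc, h, inv_mul_cancel_left]
    have h2 : b' * b⁻¹ ∈ A ⊓ B :=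
      ⟨h1 ▸ A.mul_mem (A.inv_mem ha') ha, B.mul_mem hb' (B.inv_mem hb)⟩
    rw [hAB, Subgroup.mem_bot] at h2
    exact (mul_inv_eq_one.mp h2).symm
  choose f0 hf0 using hdec
  have hmul : ∀ c₁ c₂ : C, f0 (c₁ * c₂) = f0 c₁ * f0 c₂ := by
    intro c₁ c₂
    obtain ⟨a₁, ha₁, h₁⟩ := hf0 c₁
    obtain ⟨a₂, ha₂, h₂⟩ := hf0 c₂
    obtain ⟨a₃, ha₃, h₃⟩ := hf0 (c₁ * c₂)
    apply Subtype.ext
    have hsw : a₂ * (f0 c₁ : G) = (f0 c₁ : G) * a₂ := hcomm a₂ ha₂ _ (f0 c₁).2
    have h4 : a₃ * (f0 (c₁ * c₂) : G) = (a₁ * a₂) * ((f0 c₁ : G) * (f0 c₂ : G)) := by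
      rw [← h₃, Subgroup.coe_mul, h₁, h₂]
      calc a₁ * (f0 c₁ : G) * (a₂ * (f0 c₂ : G))
          = a₁ * ((f0 c₁ : G) * a₂) * (f0 c₂ : G) := by simp only [mul_assoc]
        _ = a₁ * (a₂ * (f0 c₁ : G)) * (f0 c₂ : G) := by rw [hsw]
        _ = (a₁ * a₂) * ((f0 c₁ : G) * (f0 c₂ : G)) := by simp only [mul_assoc]
    exact huniq a₃ ha₃ (a₁ * a₂) (A.mul_mem ha₁ ha₂) _ (f0 (c₁ * c₂)).2 _
      (B.mul_mem (f0 c₁).2 (f0 c₂).2) h4
  refine ⟨MonoidHom.mk' f0 hmul, ?_⟩
  rw [injective_iff_map_eq_one]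
  intro c hc
  obtain ⟨a, ha, h⟩ := hf0 c
  have hc' : f0 c = 1 := hc
  rw [hc', Subgroup.coe_one, mul_one] at h
  have h5 : (c : G) ∈ C ⊓ A := ⟨c.2, h ▸ ha⟩
  rw [hCA, Subgroup.mem_bot] at h5
  exact Subtype.ext h5

/-- An abstract "tightly embedded" conjugacy family: closed under conjugation, distinct members
share no nontrivial `2`-element, all members have the same order. -/
structure TEFamily (C : Subgroup G → Prop) : Prop where
  conj : ∀ (H : Subgroup G) (x : G), C H → C (H.map (MulAut.conj x).toMonoidHom)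
  te : ∀ H K : Subgroup G, C H → C K → H ≠ K → ∀ a : G, a ∈ H → a ∈ K →
    (∃ k : ℕ, a ^ 2 ^ k = 1) → a = 1
  card : ∀ H K : Subgroup G, C H → C K → Nat.card H = Nat.card K

/-- An element commuting with a nontrivial `2`-element of a member `K` normalizes `K`. -/
theorem TEFamily.mem_normalizer {C : Subgroup G → Prop} (hC : TEFamily C) {K : Subgroup G}
    (hK : C K) {t r : G} (ht : t ∈ K) (ht1 : t ≠ 1) (ht2 : ∃ k : ℕ, t ^ 2 ^ k = 1)
    (hrt : r * t = t * r) : r ∈ Subgroup.normalizer (K : Set G) := by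
  apply mem_normalizer_of_map_conj_eq
  by_contra hne
  apply ht1
  refine hC.te _ _ (hC.conj K r hK) hK hne t ?_ ht ht2
  rw [mem_map_conj_iff]
  have h1 : r⁻¹ * t * r = t := by rw [mul_assoc, ← hrt, inv_mul_cancel_left]
  rw [h1]; exact ht

/-- The configuration: `H ≠ K` in the family, `T` a `2`-subgroup of `K ∩ N(H)`, `S` a Sylow
`2`-subgroup of `H T` containing `T`. -/
structure TEConfig (C : Subgroup G → Prop) (H K T S : Subgroup G) : Prop where
  fam : TEFamily C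
  hH : C H
  hK : C K
  hne : H ≠ K
  hTK : T ≤ K
  hTN : T ≤ Subgroup.normalizer (H : Set G)
  hT2 : IsPGroup 2 T
  hTS : T ≤ S
  hS : S ≤ H ⊔ T
  hS2 : IsPGroup 2 S
  hodd : ¬ 2 ∣ S.relIndex (H ⊔ T)

variable {C : Subgroup G → Prop} {H K T S : Subgroup G}

theorem TEConfig.inf_eq_bot (c : TEConfig C H K T S) : T ⊓ H = ⊥ := by
  rw [eq_bot_iff]
  rintro a ⟨haT, haH⟩
  rw [Subgroup.mem_bot]
  exact c.fam.te H K c.hH c.hK c.hne a haH (c.hTK haT) (two_pow_of_mem_of_isPGroup c.hT2 haT)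

theorem TEConfig.comm (c : TEConfig C H K T S) {t r : G} (ht : t ∈ T)
    (hrN : r ∈ Subgroup.normalizer (T : Set G)) (hrH : r ∈ H) : t * r = r * t := by
  have h1 : t * r * t⁻¹ * r⁻¹ ∈ T := by
    have h : r * t⁻¹ * r⁻¹ ∈ T := (Subgroup.mem_normalizer_iff.mp hrN t⁻¹).mp (T.inv_mem ht)
    have h' := T.mul_mem ht h
    simpa [mul_assoc] using h'
  have h2 : t * r * t⁻¹ * r⁻¹ ∈ H := by
    have h : t * r * t⁻¹ ∈ H := (Subgroup.mem_normalizer_iff.mp (c.hTN ht) r).mp hrH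
    exact H.mul_mem h (H.inv_mem hrH)
  have h3 : t * r * t⁻¹ * r⁻¹ ∈ T ⊓ H := ⟨h1, h2⟩
  rw [c.inf_eq_bot, Subgroup.mem_bot] at h3
  calc t * r = t * r * t⁻¹ * r⁻¹ * (r * t) := by group
    _ = r * t := by rw [h3, one_mul]

theorem TEConfig.decomp (c : TEConfig C H K T S) {x : G} (hx : x ∈ S) :
    ∃ q ∈ H, ∃ t ∈ T, q * t = x := by
  have hx' : x ∈ ((H ⊔ T : Subgroup G) : Set G) := c.hS hx
  rw [Subgroup.coe_mul_of_right_le_normalizer_left H T c.hTN] at hx'
  exact Set.mem_mul.mp hx'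

theorem TEConfig.sup_eq (c : TEConfig C H K T S) :
    T ⊔ (S ⊓ Subgroup.normalizer (T : Set G) ⊓ H) = S ⊓ Subgroup.normalizer (T : Set G) := by
  apply le_antisymm
  · apply sup_le
    · exact le_inf c.hTS Subgroup.le_normalizer
    · exact inf_le_left
  · rintro x ⟨hxS, hxN⟩
    obtain ⟨q, hq, t, ht, rfl⟩ := c.decomp hxS
    have hqS : q ∈ S := by
      have h := S.mul_mem hxS (S.inv_mem (c.hTS ht))
      simpa using h
    have hqN : q ∈ Subgroup.normalizer (T : Set G) := by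
      have h := (Subgroup.normalizer (T : Set G)).mul_mem hxN
        (inv_mem (Subgroup.le_normalizer ht))
      simpa using h
    exact Subgroup.mul_mem _ (Subgroup.mem_sup_right ⟨⟨hqS, hqN⟩, hq⟩) (Subgroup.mem_sup_left ht)

theorem TEConfig.card_H [Finite G] (c : TEConfig C H K T S) :
    Nat.card H = S.relIndex (H ⊔ T) * Nat.card (S ⊓ H : Subgroup G) := by
  have hsup : H ⊔ S = H ⊔ T := le_antisymm (sup_le le_sup_left c.hS) (sup_le_sup_left c.hTS H)
  have hSN : S ≤ Subgroup.normalizer (H : Set G) :=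
    c.hS.trans (sup_le Subgroup.le_normalizer c.hTN)
  have h1 := Cfsg.Agent.Lib.helper13.card_sup_mul_card_inf' H S hSN
  have h2 := Cfsg.Agent.Lib.helper13.relIndex_mul_card_of_le c.hS
  rw [hsup, ← h2, inf_comm] at h1
  have hpos : 0 < Nat.card S := Nat.card_pos
  apply Nat.eq_of_mul_eq_mul_right hpos
  rw [← h1]; ring

theorem TEConfig.lemmaE [Finite G] (c : TEConfig C H K T S) :
    S ⊓ Subgroup.normalizer (T : Set G) ⊓ H = S ⊓ H ∨
    ∃ f : T →* ↥(S ⊓ Subgroup.normalizer (T : Set G) ⊓ H), Function.Injective f := by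
  by_cases hR : S ⊓ Subgroup.normalizer (T : Set G) ⊓ H = S ⊓ H
  · exact Or.inl hR
  right
  have hWne : S ⊓ Subgroup.normalizer (T : Set G) ≠ S := by
    intro h
    apply hR
    rw [h]
  obtain ⟨x₀, hx₀S, hx₀W, hx₀N⟩ :=
    Cfsg.Agent.Lib.helper91.exists_mem_normalizer_not_mem (p := 2) c.hS2 inf_le_left hWne
  obtain ⟨x, hxH, t₀, ht₀, rfl⟩ := c.decomp hx₀S
  have hxS : x ∈ S := by simpa using S.mul_mem hx₀S (S.inv_mem (c.hTS ht₀))
  have ht₀W : t₀ ∈ S ⊓ Subgroup.normalizer (T : Set G) :=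
    ⟨c.hTS ht₀, Subgroup.le_normalizer ht₀⟩
  have hxNW : x ∈ Subgroup.normalizer
      ((S ⊓ Subgroup.normalizer (T : Set G) : Subgroup G) : Set G) := by
    simpa using Subgroup.mul_mem _ hx₀N (Subgroup.inv_mem _ (Subgroup.le_normalizer ht₀W))
  have hxW : x ∉ S ⊓ Subgroup.normalizer (T : Set G) :=
    fun h => hx₀W (Subgroup.mul_mem _ h ht₀W)
  have hxNT : x ∉ Subgroup.normalizer (T : Set G) := fun h => hxW ⟨hxS, h⟩
  have hxNK : x ∉ Subgroup.normalizer (K : Set G) := by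
    intro hxK
    apply hxNT
    have hfix : ∀ t ∈ T, x * t * x⁻¹ = t := by
      intro t ht
      have h1 : x * t * x⁻¹ * t⁻¹ ∈ K :=
        K.mul_mem ((Subgroup.mem_normalizer_iff.mp hxK t).mp (c.hTK ht)) (K.inv_mem (c.hTK ht))
      have h2 : x * t * x⁻¹ * t⁻¹ ∈ H := by
        have h : t * x⁻¹ * t⁻¹ ∈ H :=
          (Subgroup.mem_normalizer_iff.mp (c.hTN ht) x⁻¹).mp (H.inv_mem hxH)
        have h' := H.mul_mem hxH h
        simpa [mul_assoc] using h'
      have h3 : x * t * x⁻¹ * t⁻¹ ∈ S :=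
        S.mul_mem (S.mul_mem (S.mul_mem hxS (c.hTS ht)) (S.inv_mem hxS)) (S.inv_mem (c.hTS ht))
      have h4 := c.fam.te H K c.hH c.hK c.hne _ h2 h1 (two_pow_of_mem_of_isPGroup c.hS2 h3)
      exact mul_inv_eq_one.mp h4
    rw [Subgroup.mem_normalizer_iff]
    intro h
    constructor
    · intro hh; rw [hfix h hh]; exact hh
    · intro hh
      have h5 : x * (x * h * x⁻¹) * x⁻¹ = x * h * x⁻¹ := hfix _ hh
      have h6 : x * h * x⁻¹ = h := by
        calc x * h * x⁻¹ = x⁻¹ * (x * (x * h * x⁻¹) * x⁻¹) * x := by group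
          _ = x⁻¹ * (x * h * x⁻¹) * x := by rw [h5]
          _ = h := by group
      rw [← h6]; exact hh
  have hKx : K.map (MulAut.conj x).toMonoidHom ≠ K :=
    fun h => hxNK (mem_normalizer_of_map_conj_eq h)
  have hdisj : T.map (MulAut.conj x).toMonoidHom ⊓ T = ⊥ := by
    rw [eq_bot_iff]
    rintro a ⟨ha1, ha2⟩
    rw [Subgroup.mem_bot]
    refine c.fam.te _ _ (c.fam.conj K x c.hK) c.hK hKx a ?_ (c.hTK ha2)
      (two_pow_of_mem_of_isPGroup c.hT2 ha2)
    exact Subgroup.map_mono c.hTK ha1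
  have hle : T.map (MulAut.conj x).toMonoidHom ≤
      T ⊔ (S ⊓ Subgroup.normalizer (T : Set G) ⊓ H) := by
    rw [c.sup_eq]
    rintro a ⟨t, ht, rfl⟩
    have htW : t ∈ S ⊓ Subgroup.normalizer (T : Set G) :=
      ⟨c.hTS ht, Subgroup.le_normalizer ht⟩
    have h := (Subgroup.mem_normalizer_iff.mp hxNW t).mp htW
    simpa [MulAut.conj_apply] using h
  have hTR : T ⊓ (S ⊓ Subgroup.normalizer (T : Set G) ⊓ H) = ⊥ := by
    rw [eq_bot_iff, ← c.inf_eq_bot]
    exact inf_le_inf_left T inf_le_right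
  obtain ⟨f, hf⟩ := exists_injective_hom_of_commute (A := T)
    (B := S ⊓ Subgroup.normalizer (T : Set G) ⊓ H)
    (C := T.map (MulAut.conj x).toMonoidHom)
    (fun a ha b hb => c.comm ha hb.1.2 hb.2) hTR hle hdisj
  have e : T ≃* T.map (MulAut.conj x).toMonoidHom :=
    T.equivMapOfInjective _ (MulAut.conj x).injective
  exact ⟨f.comp e.toMonoidHom, hf.comp e.injective⟩

theorem TEConfig.card_le [Finite G] (c : TEConfig C H K T S) :
    Nat.card T ≤ Nat.card ↥(S ⊓ Subgroup.normalizer (T : Set G) ⊓ H) := by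
  rcases c.lemmaE with h | ⟨f, hf⟩
  · rw [h]
    have h1 : Nat.card T ∣ Nat.card K := Subgroup.card_dvd_of_le c.hTK
    rw [c.fam.card K H c.hK c.hH, c.card_H] at h1
    obtain ⟨n, hn⟩ := IsPGroup.iff_card.mp c.hT2
    have hcop : (Nat.card T).Coprime (S.relIndex (H ⊔ T)) := by
      rw [hn]
      exact Nat.Coprime.pow_left n ((Nat.Prime.coprime_iff_not_dvd Nat.prime_two).mpr c.hodd)
    exact Nat.le_of_dvd Nat.card_pos (hcop.dvd_of_dvd_mul_left h1)
  · exact Nat.card_le_card_of_injective f hf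

end TightEmb

end Cfsg.Agent.Lib.helper38
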