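import Mathlib

/-!
Involutions fixing a unique point (helper38).

`G` acts on a finite set `Ω`; `D` is a conjugation-invariant set of involutions each fixing exactly
one point, such that the product of two distinct commuting members of `D` again fixes exactly one
point.  Then products of members of `D` with different fixed points have odd order, every fibre
`{b ∈ D | b fixes exactly y}` has odd cardinality, `|Ω|` is odd, and every Sylow `2`-subgroup of `G`
centralizes some member of `D`.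
-/

set_option autoImplicit false

namespace Cfsg.Agent.Lib.helper38

/-- An involutive map with exactly one fixed point lives on a set of odd cardinality. -/
theorem odd_card_of_involutive_of_unique_fixed {α : Type*} [Finite α] (f : α → α)
    (hf : ∀ x, f (f x) = x) (x₀ : α) (hx₀ : ∀ x, f x = x ↔ x = x₀) : Odd (Nat.card α) := by
  classical
  have := Fintype.ofFinite α
  have h1 : Fintype.card α ≡ Fintype.card (Function.fixedPoints f) [MOD 2] := by
    let F : Function.End α := f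
    have hf2 : F ^ 2 ^ 1 = 1 := by
      rw [pow_one, pow_two]
      funext x
      exact hf x
    exact Equiv.Perm.card_fixedPoints_modEq (f := F) (p := 2) (n := 1) hf2
  have h2 : Fintype.card (Function.fixedPoints f) = 1 := by
    rw [Fintype.card_eq_one_iff]
    exact ⟨⟨x₀, (hx₀ x₀).mpr rfl⟩, fun y => Subtype.ext ((hx₀ y).mp y.2)⟩
  rw [Nat.card_eq_fintype_card, Nat.odd_iff]
  have h3 : Fintype.card α % 2 = 1 % 2 := by rw [← h2]; exact h1
  simpa using h3

section UniqueFix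

variable {G : Type*} [Group G] {Ω : Type*} [MulAction G Ω]

/-- `a` fixes exactly the point `x`. -/
def FixesOnly (a : G) (x : Ω) : Prop := ∀ y : Ω, a • y = y ↔ y = x

theorem FixesOnly.conj {a : G} {x : Ω} (h : FixesOnly a x) (g : G) :
    FixesOnly (g * a * g⁻¹) (g • x) := by
  intro y
  rw [mul_smul, mul_smul, smul_eq_iff_eq_inv_smul, h (g⁻¹ • y), inv_smul_eq_iff]

theorem FixesOnly.smul_eq_of_commute {a b : G} {x : Ω} (h : FixesOnly a x)
    (hab : a * b = b * a) : b • x = x := by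
  apply (h (b • x)).mp
  rw [← mul_smul, hab, mul_smul, (h x).mpr rfl]

theorem FixesOnly.unique {a : G} {x x' : Ω} (h : FixesOnly a x) (h' : FixesOnly a x') :
    x = x' := (h' x).mp ((h x).mpr rfl)

/-- A conjugation-invariant set of involutions fixing unique points, with products of distinct
commuting members again fixing unique points. -/
structure UFClass (D : Set G) (Ω : Type*) [MulAction G Ω] : Prop where
  sq : ∀ a ∈ D, a * a = 1
  conj : ∀ a ∈ D, ∀ g : G, g * a * g⁻¹ ∈ D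
  fix : ∀ a ∈ D, ∃ x : Ω, FixesOnly a x
  prod : ∀ a ∈ D, ∀ b ∈ D, a ≠ b → a * b = b * a → ∃ x : Ω, FixesOnly (a * b) x

variable {D : Set G}

theorem UFClass.inv_eq (hD : UFClass D Ω) {a : G} (ha : a ∈ D) : a⁻¹ = a :=
  inv_eq_of_mul_eq_one_left (hD.sq a ha)

theorem UFClass.pow_mem (hD : UFClass D Ω) {a b : G} (ha : a ∈ D) (hb : b ∈ D) (k : ℕ) :
    a * (a * b) ^ k ∈ D := by
  have haa : ∀ x : G, a * (a * x) = x := fun x => by rw [← mul_assoc, hD.sq a ha, one_mul]
  have key : ∀ k : ℕ, a * (a * b) ^ k ∈ D ∧ a * (a * b) ^ (k + 1) ∈ D := by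
    intro k
    induction k with
    | zero =>
      refine ⟨by simpa using ha, ?_⟩
      rw [zero_add, pow_one, haa]; exact hb
    | succ k ih =>
      refine ⟨ih.2, ?_⟩
      have h1 := hD.conj _ ih.1 (a * b)⁻¹
      have h2 : (a * b)⁻¹ * (a * (a * b) ^ k) * (a * b)⁻¹⁻¹ = a * (a * b) ^ (k + 1 + 1) := by
        rw [inv_inv, mul_inv_rev, hD.inv_eq ha, hD.inv_eq hb, pow_succ' (a * b) (k + 1), pow_succ]
        simp only [mul_assoc, haa]
      rw [h2] at h1
      exact h1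
  exact (key k).1

/-- Members of `D` with different fixed points have a product of odd order. -/
theorem UFClass.odd_orderOf_mul [Finite G] (hD : UFClass D Ω) {a b : G} (ha : a ∈ D) (hb : b ∈ D)
    {x y : Ω} (hx : FixesOnly a x) (hy : FixesOnly b y) (hxy : x ≠ y) :
    Odd (orderOf (a * b)) := by
  by_contra hodd
  rw [Nat.not_odd_iff_even] at hodd
  obtain ⟨m, hm⟩ := hodd
  have hpos : 0 < orderOf (a * b) := orderOf_pos _
  obtain ⟨j, hj⟩ : ∃ j : G, j = (a * b) ^ m := ⟨_, rfl⟩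
  have hj1 : j ≠ 1 := by
    rw [hj]; exact pow_ne_one_of_lt_orderOf (by omega) (by omega)
  have hj2 : j * j = 1 := by rw [hj, ← pow_add, ← hm, pow_orderOf_eq_one]
  have hjinv : j⁻¹ = j := inv_eq_of_mul_eq_one_left hj2
  have haa : ∀ x : G, a * (a * x) = x := fun x => by rw [← mul_assoc, hD.sq a ha, one_mul]
  have hbb : ∀ x : G, x * b * b = x := fun x => by rw [mul_assoc, hD.sq b hb, mul_one]
  have haj : a * j = j * a := by
    have h1 : a * j * a⁻¹ = j⁻¹ := by
      rw [hj, ← conj_pow, ← inv_pow]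
      congr 1
      rw [mul_inv_rev, hD.inv_eq ha, hD.inv_eq hb, haa]
    rw [hjinv] at h1
    exact mul_inv_eq_iff_eq_mul.mp h1
  have hbj : b * j = j * b := by
    have h1 : b * j * b⁻¹ = j⁻¹ := by
      rw [hj, ← conj_pow, ← inv_pow]
      congr 1
      rw [mul_inv_rev, hD.inv_eq ha, hD.inv_eq hb, ← mul_assoc, hbb]
    rw [hjinv] at h1
    exact mul_inv_eq_iff_eq_mul.mp h1
  have ha' : a * j ∈ D := by rw [hj]; exact hD.pow_mem ha hb m
  have hne : a ≠ a * j := by
    intro h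
    apply hj1
    have h2 := congrArg (fun u => a⁻¹ * u) h
    simpa using h2.symm
  have hcomm : a * (a * j) = a * j * a := by rw [mul_assoc, ← haj]
  obtain ⟨w, hw⟩ := hD.prod a ha (a * j) ha' hne hcomm
  rw [haa] at hw
  have h1 : j • x = x := hx.smul_eq_of_commute haj
  have h2 : j • y = y := hy.smul_eq_of_commute hbj
  exact hxy (((hw x).mp h1).trans ((hw y).mp h2).symm)

/-- The fibre of `D` over a point `y` has odd cardinality (given a member of `D` fixing another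
point). -/
theorem UFClass.odd_card_fiber [Finite G] (hD : UFClass D Ω) {x y : Ω} (hxy : x ≠ y)
    {a : G} (ha : a ∈ D) (hax : FixesOnly a x) {b₀ : G} (hb₀ : b₀ ∈ D) (hb₀y : FixesOnly b₀ y) :
    Odd (Nat.card {b : G // b ∈ D ∧ FixesOnly b y}) := by
  classical
  have haa : ∀ u : G, a * (a * u) = u := fun u => by rw [← mul_assoc, hD.sq a ha, one_mul]
  -- the inverse map
  have hinv : ∀ b : G, b ∈ D → FixesOnly b y →
      (a * (a * b) ^ ((orderOf (a * b) + 1) / 2) ∈ D ∧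
        (a * (a * b) ^ ((orderOf (a * b) + 1) / 2)) • x = y) ∧
      (a * (a * b) ^ ((orderOf (a * b) + 1) / 2)) * a *
        (a * (a * b) ^ ((orderOf (a * b) + 1) / 2))⁻¹ = b := by
    intro b hb hby
    have hodd := hD.odd_orderOf_mul ha hb hax hby hxy
    obtain ⟨e, he⟩ : ∃ e : ℕ, e = (orderOf (a * b) + 1) / 2 := ⟨_, rfl⟩
    rw [← he]
    have hee : e + e = orderOf (a * b) + 1 := by
      obtain ⟨n, hn⟩ := hodd
      omega
    have hw : a * (a * b) ^ e ∈ D := hD.pow_mem ha hb e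
    have hconj : (a * (a * b) ^ e) * a * (a * (a * b) ^ e)⁻¹ = b := by
      rw [hD.inv_eq hw]
      calc a * (a * b) ^ e * a * (a * (a * b) ^ e)
          = a * ((a * b) ^ e * (a * (a * (a * b) ^ e))) := by simp only [mul_assoc]
        _ = a * ((a * b) ^ (e + e)) := by rw [haa, pow_add]
        _ = b := by rw [hee, pow_succ, pow_orderOf_eq_one, one_mul, haa]
    refine ⟨⟨hw, ?_⟩, hconj⟩
    have h1 := hax.conj (a * (a * b) ^ e)
    rw [hconj] at h1
    exact h1.unique hby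
  -- the set `W` of members of `D` moving `x` to `y`
  have hWD : ∀ w : G, w ∈ D → w • x = y →
      (w * a * w⁻¹ ∈ D ∧ FixesOnly (w * a * w⁻¹) y) ∧
      a * (a * (w * a * w⁻¹)) ^ ((orderOf (a * (w * a * w⁻¹)) + 1) / 2) = w := by
    intro w hw hwx
    refine ⟨⟨hD.conj a ha w, by have h := hax.conj w; rwa [hwx] at h⟩, ?_⟩
    obtain ⟨z, hz⟩ := hD.fix w hw
    have hzx : x ≠ z := by
      intro h
      rw [← h] at hz
      exact hxy (((hz x).mpr rfl).symm.trans hwx)
    have hodd := hD.odd_orderOf_mul ha hw hax hz hzx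
    have h1 : a * (w * a * w⁻¹) = (a * w) ^ 2 := by
      rw [hD.inv_eq hw, pow_two]; simp only [mul_assoc]
    rw [h1]
    have h2 : orderOf ((a * w) ^ 2) = orderOf (a * w) :=
      Nat.Coprime.orderOf_pow (Nat.Coprime.symm (Nat.coprime_two_left.mpr hodd))
    rw [h2, ← pow_mul]
    have h3 : 2 * ((orderOf (a * w) + 1) / 2) = orderOf (a * w) + 1 := by
      obtain ⟨n, hn⟩ := hodd
      omega
    rw [h3, pow_succ, pow_orderOf_eq_one, one_mul, haa]
  have e : {w : G // w ∈ D ∧ w • x = y} ≃ {b : G // b ∈ D ∧ FixesOnly b y} :=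
    { toFun := fun w => ⟨w.1 * a * w.1⁻¹, (hWD w.1 w.2.1 w.2.2).1⟩
      invFun := fun b => ⟨a * (a * b.1) ^ ((orderOf (a * b.1) + 1) / 2), (hinv b.1 b.2.1 b.2.2).1⟩
      left_inv := fun w => Subtype.ext (hWD w.1 w.2.1 w.2.2).2
      right_inv := fun b => Subtype.ext (hinv b.1 b.2.1 b.2.2).2 }
  rw [← Nat.card_congr e]
  -- conjugation by `w₀` is an involution of `W` with the unique fixed point `w₀`
  obtain ⟨w₀, hw₀⟩ : ∃ w₀ : G, w₀ ∈ D ∧ w₀ • x = y := ⟨_, (hinv b₀ hb₀ hb₀y).1⟩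
  have hw₀inv : w₀⁻¹ = w₀ := hD.inv_eq hw₀.1
  have hw₀y : w₀ • y = x := by
    rw [← hw₀.2, ← mul_smul, hD.sq w₀ hw₀.1, one_smul]
  have hσ : ∀ w : G, w ∈ D ∧ w • x = y → w₀ * w * w₀⁻¹ ∈ D ∧ (w₀ * w * w₀⁻¹) • x = y := by
    rintro w ⟨hw, hwx⟩
    refine ⟨hD.conj w hw w₀, ?_⟩
    have hwy : w • y = x := by rw [← hwx, ← mul_smul, hD.sq w hw, one_smul]
    rw [hw₀inv, mul_smul, mul_smul, hw₀.2, hwy, hw₀.2]
  refine odd_card_of_involutive_of_unique_fixed
    (fun w : {w : G // w ∈ D ∧ w • x = y} => ⟨w₀ * w.1 * w₀⁻¹, hσ w.1 w.2⟩) ?_ ⟨w₀, hw₀⟩ ?_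
  · intro w
    apply Subtype.ext
    show w₀ * (w₀ * w.1 * w₀⁻¹) * w₀⁻¹ = w.1
    rw [hw₀inv]
    have h1 : ∀ u : G, w₀ * (w₀ * u) = u := fun u => by
      rw [← mul_assoc, hD.sq w₀ hw₀.1, one_mul]
    simp only [mul_assoc, h1, hD.sq w₀ hw₀.1, mul_one]
  · intro w
    constructor
    · intro h
      have h1 : w₀ * w.1 * w₀⁻¹ = w.1 := congrArg Subtype.val h
      have hcomm : w₀ * w.1 = w.1 * w₀ := mul_inv_eq_iff_eq_mul.mp h1
      by_contra hne
      have hne' : w₀ ≠ w.1 := fun h2 => hne (Subtype.ext h2.symm)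
      obtain ⟨v, hv⟩ := hD.prod w₀ hw₀.1 w.1 w.2.1 hne' hcomm
      obtain ⟨z₀, hz₀⟩ := hD.fix w₀ hw₀.1
      have hc2 : w₀ * (w₀ * w.1) = w₀ * w.1 * w₀ := by rw [mul_assoc, ← hcomm]
      have h3 : (w₀ * w.1) • z₀ = z₀ := hz₀.smul_eq_of_commute hc2
      have h4 : (w₀ * w.1) • x = x := by rw [mul_smul, w.2.2, hw₀y]
      have h5 : x = z₀ := ((hv x).mp h4).trans ((hv z₀).mp h3).symm
      have h6 : w₀ • x = x := by rw [h5]; exact (hz₀ z₀).mpr rfl
      rw [hw₀.2] at h6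
      exact hxy h6.symm
    · intro h
      apply Subtype.ext
      show w₀ * w.1 * w₀⁻¹ = w.1
      rw [h]
      simp

/-- `|Ω|` is odd. -/
theorem UFClass.odd_card [Finite Ω] (hD : UFClass D Ω) {a : G} (ha : a ∈ D) {x : Ω}
    (hax : FixesOnly a x) : Odd (Nat.card Ω) := by
  refine odd_card_of_involutive_of_unique_fixed (fun y : Ω => a • y) ?_ x hax
  intro y
  show a • a • y = y
  rw [← mul_smul, hD.sq a ha, one_smul]

/-- Every Sylow `2`-subgroup centralizes some member of `D`. -/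
theorem UFClass.exists_fixed_by_sylow [Finite G] [Finite Ω] (hD : UFClass D Ω)
    (hΩ : ∃ x y : Ω, x ≠ y) (hfib : ∀ y : Ω, ∃ b ∈ D, FixesOnly b y) (P : Sylow 2 G) :
    ∃ a ∈ D, ∀ p ∈ (P : Subgroup G), p * a * p⁻¹ = a := by
  classical
  obtain ⟨x₁, x₂, h12⟩ := hΩ
  obtain ⟨a₁, ha₁, ha₁x⟩ := hfib x₁
  have hoddΩ : Odd (Nat.card Ω) := hD.odd_card ha₁ ha₁x
  have h2Ω : ¬ 2 ∣ Nat.card Ω := fun h => (Nat.not_even_iff_odd.mpr hoddΩ) (even_iff_two_dvd.mpr h)
  obtain ⟨γ, hγ⟩ := IsPGroup.nonempty_fixed_point_of_prime_not_dvd_card P.isPGroup' Ω h2Ω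
  rw [MulAction.mem_fixedPoints] at hγ
  have hγ' : ∀ p : G, p ∈ (P : Subgroup G) → p • γ = γ := fun p hp => hγ ⟨p, hp⟩
  obtain ⟨x, hxγ⟩ : ∃ x : Ω, x ≠ γ := by
    by_cases h : x₁ = γ
    · exact ⟨x₂, fun h2 => h12 (h.trans h2.symm)⟩
    · exact ⟨x₁, h⟩
  obtain ⟨a, ha, hax⟩ := hfib x
  obtain ⟨b₀, hb₀, hb₀γ⟩ := hfib γ
  have hodd := hD.odd_card_fiber hxγ ha hax hb₀ hb₀γ
  have h2 : ¬ 2 ∣ Nat.card {b : G // b ∈ D ∧ FixesOnly b γ} :=
    fun h => (Nat.not_even_iff_odd.mpr hodd) (even_iff_two_dvd.mpr h)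
  let act : MulAction ↥(P : Subgroup G) {b : G // b ∈ D ∧ FixesOnly b γ} :=
    { smul := fun p b => ⟨(p : G) * b.1 * (p : G)⁻¹, hD.conj b.1 b.2.1 p, by
        have h := b.2.2.conj (p : G)
        rwa [hγ' p p.2] at h⟩
      one_smul := fun b => Subtype.ext (by
        show ((1 : ↥(P : Subgroup G)) : G) * b.1 * ((1 : ↥(P : Subgroup G)) : G)⁻¹ = b.1
        simp)
      mul_smul := fun p q b => Subtype.ext (by
        show ((p * q : ↥(P : Subgroup G)) : G) * b.1 * ((p * q : ↥(P : Subgroup G)) : G)⁻¹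
          = (p : G) * ((q : G) * b.1 * (q : G)⁻¹) * (p : G)⁻¹
        simp [mul_assoc]) }
  have : Finite {b : G // b ∈ D ∧ FixesOnly b γ} := Subtype.finite
  obtain ⟨b, hb⟩ := IsPGroup.nonempty_fixed_point_of_prime_not_dvd_card P.isPGroup'
    {b : G // b ∈ D ∧ FixesOnly b γ} h2
  rw [MulAction.mem_fixedPoints] at hb
  refine ⟨b.1, b.2.1, fun p hp => ?_⟩
  exact congrArg Subtype.val (hb ⟨p, hp⟩)

end UniqueFix

end Cfsg.Agent.Lib.helper38
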