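import Mathlib.GroupTheory.Sylow

set_option autoImplicit false

namespace Cfsg.Agent.Lib.helper38

/-- If `a ∈ S` is the only `G`-conjugate of `a` in the Sylow subgroup `S`, then `a` commutes with
every element of `S`. -/
theorem weaklyClosed_comm {G : Type*} [Group G] {p : ℕ} (S : Sylow p G) (a : G)
    (haS : a ∈ (S : Subgroup G)) (hwc : ∀ g : G, g * a * g⁻¹ ∈ (S : Subgroup G) → g * a * g⁻¹ = a)
    (s : G) (hs : s ∈ (S : Subgroup G)) : s * a = a * s := by
  have h := hwc s ((S : Subgroup G).mul_mem ((S : Subgroup G).mul_mem hs haS) ((S : Subgroup G).inv_mem hs))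
  calc s * a = s * a * s⁻¹ * s := by group
    _ = a * s := by rw [h]

/-- Auxiliary form of the key lemma, with the conjugate named. -/
theorem weaklyClosed_key_aux {G : Type*} [Group G] [Finite G] {p : ℕ} [Fact p.Prime] (S : Sylow p G) (a : G)
    (haS : a ∈ (S : Subgroup G)) (hwc : ∀ g : G, g * a * g⁻¹ ∈ (S : Subgroup G) → g * a * g⁻¹ = a)
    (x : G) (hx : ∀ h : G, h * a = a * h → h * x = x * h) (g y : G) (hy : y = g * x * g⁻¹)
    (hg : y ∈ (S : Subgroup G)) : y = x := by
  have haZ := weaklyClosed_comm S a haS hwc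
  have haC : a ∈ Subgroup.centralizer ({y} : Set G) := by
    rw [Subgroup.mem_centralizer_iff]
    intro h hh
    rw [Set.mem_singleton_iff] at hh
    subst hh
    exact haZ _ hg
  have hS'C : ((g • S : Sylow p G) : Subgroup G) ≤ Subgroup.centralizer ({y} : Set G) := by
    intro w hw
    rw [Sylow.coe_subgroup_smul] at hw
    obtain ⟨s, hs, rfl⟩ := hw
    rw [Subgroup.mem_centralizer_iff]
    intro h hh
    rw [Set.mem_singleton_iff] at hh
    subst hh
    have h1 : s * x = x * s := hx s (haZ s hs)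
    simp only [MulDistribMulAction.toMonoidEnd_apply, MulDistribMulAction.toMonoidHom_apply,
      MulAut.smul_def, MulAut.conj_apply, hy]
    calc g * x * g⁻¹ * (g * s * g⁻¹) = g * (x * s) * g⁻¹ := by group
      _ = g * (s * x) * g⁻¹ := by rw [h1]
      _ = g * s * g⁻¹ * (g * x * g⁻¹) := by group
  -- `a` generates a `p`-subgroup of the centralizer
  have hpa : IsPGroup p (Subgroup.zpowers (⟨a, haC⟩ : Subgroup.centralizer ({y} : Set G))) := by
    have h1 : IsPGroup p (Subgroup.zpowers a) := S.2.to_le (by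
      rw [Subgroup.zpowers_le]; exact haS)
    have : (Subgroup.zpowers (⟨a, haC⟩ : Subgroup.centralizer ({y} : Set G))).map
        (Subgroup.centralizer ({y} : Set G)).subtype = Subgroup.zpowers a := by
      rw [MonoidHom.map_zpowers]; rfl
    rw [← this] at h1
    exact IsPGroup.of_equiv h1 ((Subgroup.zpowers (⟨a, haC⟩ : Subgroup.centralizer ({y} : Set G))).equivMapOfInjective
        (Subgroup.centralizer ({y} : Set G)).subtype (Subgroup.subtype_injective _)).symm
  obtain ⟨Q, hQ⟩ := hpa.exists_le_sylow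
  obtain ⟨c, hc⟩ := MulAction.exists_smul_eq (Subgroup.centralizer ({y} : Set G)) ((g • S : Sylow p G).subtype hS'C) Q
  have haQ : (⟨a, haC⟩ : Subgroup.centralizer ({y} : Set G)) ∈ (Q : Subgroup (Subgroup.centralizer ({y} : Set G))) :=
    hQ (Subgroup.mem_zpowers _)
  rw [← hc, Sylow.smul_subtype, Sylow.coe_subtype, Subgroup.mem_subgroupOf] at haQ
  rw [Subgroup.smul_def, smul_smul, Sylow.coe_subgroup_smul] at haQ
  obtain ⟨s, hs, hsa⟩ := haQ
  simp only [MulDistribMulAction.toMonoidEnd_apply, MulDistribMulAction.toMonoidHom_apply,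
      MulAut.smul_def, MulAut.conj_apply] at hsa
  -- hsa : (c * g) * s * (c * g)⁻¹ = a
  have hs' : ((c : G) * g)⁻¹ * a * (((c : G) * g)⁻¹)⁻¹ = s := by
    rw [← hsa]; group
  have hsa2 : s = a := by
    have := hwc (((c : G) * g)⁻¹) (by rw [hs']; exact hs)
    rw [hs'] at this
    exact this
  rw [hsa2] at hsa
  have hcomm : ((c : G) * g) * a = a * ((c : G) * g) := by
    calc ((c : G) * g) * a = ((c : G) * g) * a * ((c : G) * g)⁻¹ * ((c : G) * g) := by group
      _ = a * ((c : G) * g) := by rw [hsa]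
  have hcx := hx _ hcomm
  have hcy : (c : G) * y = y * (c : G) := by
    have := c.2
    rw [Subgroup.mem_centralizer_iff] at this
    exact (this y (Set.mem_singleton y)).symm
  have h3 : (c : G) * (g * x * g⁻¹) = x * (c : G) := by
    calc (c : G) * (g * x * g⁻¹) = ((c : G) * g * x) * g⁻¹ := by group
      _ = (x * ((c : G) * g)) * g⁻¹ := by rw [hcx]
      _ = x * (c : G) := by group
  have hfin : (c : G) * y = x * (c : G) := (congrArg (fun t => (c : G) * t) hy).trans h3
  rw [hcy] at hfin
  exact mul_right_cancel hfin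

/-- Key lemma: if `a ∈ S` is weakly closed in the Sylow `p`-subgroup `S` with respect to `G`, and `x` is
centralized by every element centralizing `a`, then any conjugate of `x` lying in `S` equals `x`. -/
theorem weaklyClosed_key {G : Type*} [Group G] [Finite G] {p : ℕ} [Fact p.Prime] (S : Sylow p G) (a : G)
    (haS : a ∈ (S : Subgroup G)) (hwc : ∀ g : G, g * a * g⁻¹ ∈ (S : Subgroup G) → g * a * g⁻¹ = a)
    (x : G) (hx : ∀ h : G, h * a = a * h → h * x = x * h) (g : G)
    (hg : g * x * g⁻¹ ∈ (S : Subgroup G)) : g * x * g⁻¹ = x :=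
  weaklyClosed_key_aux S a haS hwc x hx g _ rfl hg

end Cfsg.Agent.Lib.helper38
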