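import Mathlib.GroupTheory.Sylow
import Cfsg.Agent.Lib.helper38.WeaklyClosed

set_option autoImplicit false

namespace Cfsg.Agent.Lib.helper38

/-- Two-generator form of the key lemma, with the conjugate named. -/
theorem weaklyClosed_key2_aux {G : Type*} [Group G] [Finite G] {p : ℕ} [Fact p.Prime] (S : Sylow p G) (a b : G)
    (haS : a ∈ (S : Subgroup G)) (hbS : b ∈ (S : Subgroup G))
    (hwa : ∀ g : G, g * a * g⁻¹ ∈ (S : Subgroup G) → g * a * g⁻¹ = a)
    (hwb : ∀ g : G, g * b * g⁻¹ ∈ (S : Subgroup G) → g * b * g⁻¹ = b)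
    (x : G) (hx : ∀ h : G, h * a = a * h → h * b = b * h → h * x = x * h) (g y : G) (hy : y = g * x * g⁻¹)
    (hg : y ∈ (S : Subgroup G)) : y = x := by
  have haZ := weaklyClosed_comm S a haS hwa
  have hbZ := weaklyClosed_comm S b hbS hwb
  have haC : a ∈ Subgroup.centralizer ({y} : Set G) := by
    rw [Subgroup.mem_centralizer_iff]
    intro h hh
    rw [Set.mem_singleton_iff] at hh
    subst hh
    exact haZ _ hg
  have hbC : b ∈ Subgroup.centralizer ({y} : Set G) := by
    rw [Subgroup.mem_centralizer_iff]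
    intro h hh
    rw [Set.mem_singleton_iff] at hh
    subst hh
    exact hbZ _ hg
  have hS'C : ((g • S : Sylow p G) : Subgroup G) ≤ Subgroup.centralizer ({y} : Set G) := by
    intro w hw
    rw [Sylow.coe_subgroup_smul] at hw
    obtain ⟨s, hs, rfl⟩ := hw
    rw [Subgroup.mem_centralizer_iff]
    intro h hh
    rw [Set.mem_singleton_iff] at hh
    subst hh
    have h1 : s * x = x * s := hx s (haZ s hs) (hbZ s hs)
    simp only [MulDistribMulAction.toMonoidEnd_apply, MulDistribMulAction.toMonoidHom_apply,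
      MulAut.smul_def, MulAut.conj_apply, hy]
    calc g * x * g⁻¹ * (g * s * g⁻¹) = g * (x * s) * g⁻¹ := by group
      _ = g * (s * x) * g⁻¹ := by rw [h1]
      _ = g * s * g⁻¹ * (g * x * g⁻¹) := by group
  -- the subgroup generated by `a` and `b`, inside the centralizer
  have hcl : Subgroup.closure ({a, b} : Set G) ≤ (S : Subgroup G) := by
    rw [Subgroup.closure_le]
    rintro z (hz | hz)
    · rw [hz]; exact haS
    · rw [Set.mem_singleton_iff] at hz; rw [hz]; exact hbS
  have hclC : Subgroup.closure ({a, b} : Set G) ≤ Subgroup.centralizer ({y} : Set G) := by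
    rw [Subgroup.closure_le]
    rintro z (hz | hz)
    · rw [hz]; exact haC
    · rw [Set.mem_singleton_iff] at hz; rw [hz]; exact hbC
  have hpB : IsPGroup p ((Subgroup.closure ({a, b} : Set G)).subgroupOf (Subgroup.centralizer ({y} : Set G))) :=
    (S.2.to_le hcl).comap_subtype
  obtain ⟨Q, hQ⟩ := hpB.exists_le_sylow
  obtain ⟨c, hc⟩ := MulAction.exists_smul_eq (Subgroup.centralizer ({y} : Set G)) ((g • S : Sylow p G).subtype hS'C) Q
  have key : ∀ z : G, z ∈ ({a, b} : Set G) → ∃ s ∈ (S : Subgroup G), (c : G) * g * s * ((c : G) * g)⁻¹ = z := by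
    intro z hz
    have hzcl : z ∈ Subgroup.closure ({a, b} : Set G) := Subgroup.subset_closure hz
    have hzQ : (⟨z, hclC hzcl⟩ : Subgroup.centralizer ({y} : Set G)) ∈ (Q : Subgroup (Subgroup.centralizer ({y} : Set G))) :=
      hQ hzcl
    rw [← hc, Sylow.smul_subtype, Sylow.coe_subtype, Subgroup.mem_subgroupOf] at hzQ
    rw [Subgroup.smul_def, smul_smul, Sylow.coe_subgroup_smul] at hzQ
    obtain ⟨s, hs, hsa⟩ := hzQ
    simp only [MulDistribMulAction.toMonoidEnd_apply, MulDistribMulAction.toMonoidHom_apply,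
        MulAut.smul_def, MulAut.conj_apply] at hsa
    exact ⟨s, hs, hsa⟩
  have comm_of : ∀ z : G, (∀ g : G, g * z * g⁻¹ ∈ (S : Subgroup G) → g * z * g⁻¹ = z) →
      (∃ s ∈ (S : Subgroup G), (c : G) * g * s * ((c : G) * g)⁻¹ = z) → ((c : G) * g) * z = z * ((c : G) * g) := by
    rintro z hwz ⟨s, hs, hsz⟩
    have hs' : ((c : G) * g)⁻¹ * z * (((c : G) * g)⁻¹)⁻¹ = s := by
      rw [← hsz]; group
    have hsz2 : s = z := by
      have := hwz (((c : G) * g)⁻¹) (by rw [hs']; exact hs)
      rw [hs'] at this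
      exact this
    rw [hsz2] at hsz
    calc ((c : G) * g) * z = ((c : G) * g) * z * ((c : G) * g)⁻¹ * ((c : G) * g) := by group
      _ = z * ((c : G) * g) := by rw [hsz]
  have hca := comm_of a hwa (key a (Set.mem_insert a {b}))
  have hcb := comm_of b hwb (key b (Set.mem_insert_of_mem a (Set.mem_singleton b)))
  have hcx := hx _ hca hcb
  have hcy : (c : G) * y = y * (c : G) := by
    have := c.2
    rw [Subgroup.mem_centralizer_iff] at this
    exact (this y (Set.mem_singleton y)).symm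
  have h3 : (c : G) * (g * x * g⁻¹) = x * (c : G) := by
    calc (c : G) * (g * x * g⁻¹) = ((c : G) * g * x) * g⁻¹ := by group
      _ = (x * ((c : G) * g)) * g⁻¹ := by rw [hcx]
      _ = x * (c : G) := by group
  have hfin : (c : G) * y = x * (c : G) := (congrArg (fun t => (c : G) * t) hy).trans h3
  rw [hcy] at hfin
  exact mul_right_cancel hfin

/-- If `a, b ∈ S` are weakly closed in the Sylow `p`-subgroup `S` with respect to `G`, and `x` is
centralized by every element centralizing both `a` and `b`, then any conjugate of `x` lying in `S` equals `x`. -/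
theorem weaklyClosed_key2 {G : Type*} [Group G] [Finite G] {p : ℕ} [Fact p.Prime] (S : Sylow p G) (a b : G)
    (haS : a ∈ (S : Subgroup G)) (hbS : b ∈ (S : Subgroup G))
    (hwa : ∀ g : G, g * a * g⁻¹ ∈ (S : Subgroup G) → g * a * g⁻¹ = a)
    (hwb : ∀ g : G, g * b * g⁻¹ ∈ (S : Subgroup G) → g * b * g⁻¹ = b)
    (x : G) (hx : ∀ h : G, h * a = a * h → h * b = b * h → h * x = x * h) (g : G)
    (hg : g * x * g⁻¹ ∈ (S : Subgroup G)) : g * x * g⁻¹ = x :=
  weaklyClosed_key2_aux S a b haS hbS hwa hwb x hx g _ rfl hg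

/-- The elements of a Sylow `p`-subgroup `S` that are their only `G`-conjugate in `S` form a subgroup. -/
def weaklyClosedSubgroup {G : Type*} [Group G] [Finite G] {p : ℕ} [Fact p.Prime] (S : Sylow p G) : Subgroup G where
  carrier := {x | x ∈ (S : Subgroup G) ∧ ∀ g : G, g * x * g⁻¹ ∈ (S : Subgroup G) → g * x * g⁻¹ = x}
  mul_mem' := by
    rintro a b ⟨ha, hwa⟩ ⟨hb, hwb⟩
    refine ⟨(S : Subgroup G).mul_mem ha hb, fun g hg => ?_⟩
    refine weaklyClosed_key2 S a b ha hb hwa hwb (a * b) ?_ g hg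
    intro h h1 h2
    calc h * (a * b) = (h * a) * b := by group
      _ = a * (h * b) := by rw [h1]; group
      _ = a * b * h := by rw [h2]; group
  one_mem' := ⟨(S : Subgroup G).one_mem, fun g _ => by group⟩
  inv_mem' := by
    rintro a ⟨ha, hwa⟩
    refine ⟨(S : Subgroup G).inv_mem ha, fun g hg => ?_⟩
    refine weaklyClosed_key S a ha hwa a⁻¹ ?_ g hg
    intro h h1
    calc h * a⁻¹ = a⁻¹ * (a * h) * a⁻¹ := by group
      _ = a⁻¹ * (h * a) * a⁻¹ := by rw [h1]
      _ = a⁻¹ * h := by group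

theorem mem_weaklyClosedSubgroup {G : Type*} [Group G] [Finite G] {p : ℕ} [Fact p.Prime] (S : Sylow p G)
    (x : G) : x ∈ weaklyClosedSubgroup S ↔
      (x ∈ (S : Subgroup G) ∧ ∀ g : G, g * x * g⁻¹ ∈ (S : Subgroup G) → g * x * g⁻¹ = x) := Iff.rfl

theorem weaklyClosedSubgroup_le {G : Type*} [Group G] [Finite G] {p : ℕ} [Fact p.Prime] (S : Sylow p G) :
    weaklyClosedSubgroup S ≤ (S : Subgroup G) ⊓ Subgroup.centralizer ((S : Subgroup G) : Set G) := by
  rintro x ⟨hx, hw⟩
  refine Subgroup.mem_inf.mpr ⟨hx, ?_⟩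
  rw [Subgroup.mem_centralizer_iff]
  intro s hs
  exact weaklyClosed_comm S x hx hw s hs

end Cfsg.Agent.Lib.helper38
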